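import Groth.Agent.WLoc.Basic
import Mathlib.RingTheory.Spectrum.Prime.RingHom
import Mathlib.Topology.Separation.Profinite

/-!
# w-localization along a profinite closed set
-/

set_option autoImplicit false
set_option backward.isDefEq.respectTransparency false

universe u

namespace Groth.Agent.WLoc

variable {A : Type u} [CommRing A]

theorem exists_indZariski_along (I : Ideal A)
    (hI : ProEtW.IsProfinite (PrimeSpectrum.zeroLocus (R := A) I)) :
    ∃ (B : Type u) (_ : CommRing B) (_ : Algebra A B),
      EtPBC.IsIndZariski A B ∧ ProEtW.IsWLocal (PrimeSpectrum B) ∧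
      ProEtW.closedPoints (PrimeSpectrum B) = PrimeSpectrum.zeroLocus (I.map (algebraMap A B)) ∧
      Function.Bijective (Ideal.quotientMap (I.map (algebraMap A B)) (algebraMap A B)
        Ideal.le_comap_map) := by
  obtain ⟨hcpt, ht2, htd⟩ := hI
  let K := A ⧸ I
  let B := ZarHens A K
  let π := ZarHens.π A K
  have hK : Function.Surjective (algebraMap A K) := Ideal.Quotient.mk_surjective
  have hsurj : Function.Surjective π := fun b => by
    obtain ⟨a, rfl⟩ := hK b
    exact ⟨algebraMap A B a, π.commutes a⟩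
  have hker : RingHom.ker π = I.map (algebraMap A B) := by
    rw [ZarHens.ker_π_eq_map hK, Ideal.Quotient.algebraMap_eq, Ideal.mk_ker]
  -- primes of `A ⧸ I` are maximal
  have hmaxA : ∀ p : Ideal A, p.IsPrime → I ≤ p → p.IsMaximal := fun p hp hle => by
    obtain ⟨m, hm, hpm⟩ := Ideal.exists_le_maximal p hp.ne_top
    have h : (⟨⟨p, hp⟩, hle⟩ : PrimeSpectrum.zeroLocus (R := A) I) ⤳ ⟨⟨m, hm.isPrime⟩, hle.trans hpm⟩ :=
      Topology.IsInducing.subtypeVal.specializes_iff.mp
        ((PrimeSpectrum.le_iff_specializes (⟨p, hp⟩ : PrimeSpectrum A) ⟨m, hm.isPrime⟩).mp hpm)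
    have := congrArg (fun q : PrimeSpectrum.zeroLocus (R := A) I => q.1.asIdeal) h.eq
    exact (show p = m from this) ▸ hm
  have hw := isWLocal_of_idempotents (RingHom.ker π) ZarHens.ker_π_le_jacobson
    (fun P hP hle => ?_) (fun m₁ m₂ h₁ h₂ hne => ?_)
  · refine ⟨B, inferInstance, inferInstance, isIndZariski_of_algEquiv AlgEquiv.refl, hw.1,
      by rw [hw.2, hker], ?_, fun b => ?_⟩
    · rw [injective_iff_map_eq_zero]
      intro a ha
      obtain ⟨a, rfl⟩ := Ideal.Quotient.mk_surjective a
      rw [Ideal.quotientMap_mk, Ideal.Quotient.eq_zero_iff_mem, ← hker, RingHom.mem_ker,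
        AlgHom.commutes, Ideal.Quotient.algebraMap_eq] at ha
      exact ha
    · obtain ⟨b, rfl⟩ := Ideal.Quotient.mk_surjective b
      obtain ⟨a, ha⟩ := hK (π b)
      refine ⟨Ideal.Quotient.mk I a, ?_⟩
      rw [Ideal.quotientMap_mk, Ideal.Quotient.eq, ← hker, RingHom.mem_ker, map_sub,
        AlgHom.commutes, ha, sub_self]
  · -- primes containing the kernel
    have := Ideal.map_isPrime_of_surjective hsurj hle
    have hp : ((P.map π).comap (algebraMap A K)).IsPrime := inferInstance
    have hIp : I ≤ (P.map π).comap (algebraMap A K) := fun a ha => by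
      rw [Ideal.mem_comap, Ideal.Quotient.algebraMap_eq, Ideal.Quotient.eq_zero_iff_mem.mpr ha]
      exact zero_mem _
    have hm := hmaxA _ hp hIp
    have h1 : (P.map π).IsMaximal := by
      have := Ideal.map_eq_top_or_isMaximal_of_surjective (algebraMap A K) hK hm
      rw [Ideal.map_comap_of_surjective _ hK] at this
      exact this.resolve_left (Ideal.IsPrime.ne_top inferInstance)
    have h2 := Ideal.comap_isMaximal_of_surjective π hsurj (K := P.map π)
    rwa [Ideal.comap_map_of_surjective' π hsurj, sup_eq_left.mpr hle] at h2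
  · -- separating closed points by a clopen set
    have hkm : ∀ m : Ideal B, m.IsMaximal → RingHom.ker π ≤ m := fun m hm =>
      ZarHens.ker_π_le_jacobson.trans (sInf_le ⟨bot_le, hm⟩)
    have hpr : ∀ m : Ideal B, m.IsMaximal → (m.map π).IsPrime := fun m hm =>
      Ideal.map_isPrime_of_surjective hsurj (hkm m hm)
    let P₁ : PrimeSpectrum K := ⟨m₁.map π, hpr m₁ h₁⟩
    let P₂ : PrimeSpectrum K := ⟨m₂.map π, hpr m₂ h₂⟩
    have hP : P₁ ≠ P₂ := fun h => hne (by
      have := congrArg (fun q : PrimeSpectrum K => q.asIdeal.comap π) h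
      simpa only [P₁, P₂, Ideal.comap_map_of_surjective' π hsurj, sup_eq_left.mpr (hkm m₁ h₁),
        sup_eq_left.mpr (hkm m₂ h₂)] using this)
    have hemb : Topology.IsClosedEmbedding (PrimeSpectrum.comap (algebraMap A K)) :=
      PrimeSpectrum.isClosedEmbedding_comap_of_surjective _ _ hK
    have hrange : ∀ q, PrimeSpectrum.comap (algebraMap A K) q ∈ PrimeSpectrum.zeroLocus (R := A) I :=
      fun q a ha => by
        change algebraMap A K a ∈ q.asIdeal
        rw [Ideal.Quotient.algebraMap_eq, Ideal.Quotient.eq_zero_iff_mem.mpr ha]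
        exact zero_mem _
    let j : PrimeSpectrum K → PrimeSpectrum.zeroLocus (R := A) I := fun q => ⟨_, hrange q⟩
    have hj : Continuous j := Continuous.subtype_mk (PrimeSpectrum.continuous_comap _) _
    have hji : Function.Injective j := fun q q' h => hemb.injective (congrArg Subtype.val h)
    have : TotallySeparatedSpace (PrimeSpectrum.zeroLocus (R := A) I) := inferInstance
    obtain ⟨U, hU, hU1, hU2⟩ := exists_isClopen_of_totally_separated (hji.ne hP)
    obtain ⟨ē, hē, hUē⟩ := PrimeSpectrum.isClopen_iff.mp (hU.preimage hj)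
    obtain ⟨z, hz⟩ := hsurj ē
    obtain ⟨E, -, hE, hπE, -⟩ := ZarHens.exists_idem_quasiInverse z 1
      (by rw [hz, mul_one, hē.eq])
    rw [mul_one, hz] at hπE
    have h11 : ē ∉ m₁.map π := show P₁ ∈ PrimeSpectrum.basicOpen ē from by
      rw [← SetLike.mem_coe, ← hUē]; exact hU1
    have h22 : ē ∈ m₂.map π := by
      by_contra h
      have : P₂ ∈ j ⁻¹' U := by rw [hUē]; exact h
      exact hU2 this
    refine ⟨1 - E, hE.one_sub, ?_, fun h => ?_⟩
    · have hE1 : E ∉ m₁ := fun h => h11 (hπE ▸ Ideal.mem_map_of_mem π h)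
      exact (h₁.isPrime.mem_or_mem (show E * (1 - E) ∈ m₁ by
        rw [mul_sub, mul_one, hE.eq, sub_self]; exact zero_mem _)).resolve_left hE1
    · refine (hpr m₂ h₂).ne_top ((Ideal.eq_top_iff_one _).mpr ?_)
      have h' := Ideal.mem_map_of_mem π h
      rw [map_sub, map_one, hπE] at h'
      simpa using add_mem h' h22

end Groth.Agent.WLoc
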