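import Mathlib.RingTheory.Spectrum.Prime.Topology
import Mathlib.Topology.Spectral.Hom

/-!
# `Spec` of a ring map is a spectral map
-/

set_option autoImplicit false
universe u

namespace Groth.Agent.WLoc

theorem isSpectralMap_comap {A B : Type u} [CommRing A] [CommRing B] (φ : A →+* B) :
    IsSpectralMap (PrimeSpectrum.comap φ) := by
  refine ⟨PrimeSpectrum.continuous_comap _, fun U hU hUc => ?_⟩
  obtain ⟨s, hs, rfl⟩ := PrimeSpectrum.isCompact_isOpen_iff.mp ⟨hUc, hU⟩
  rw [Set.preimage_compl, PrimeSpectrum.preimage_comap_zeroLocus]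
  classical
  refine (PrimeSpectrum.isCompact_isOpen_iff.mpr ⟨(s.image φ), ?_⟩).1
  simp

end Groth.Agent.WLoc
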