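import Groth.Agent.WLoc.WContr
import Groth.Agent.IndEt.EtCover
import Groth.Agent.S0693
import Groth.Agent.Hensel.Henselization
import Groth.Agent.S0737

/-!
# w-local ind-étale squares
-/

set_option autoImplicit false
set_option backward.isDefEq.respectTransparency false

universe u

open TensorProduct

namespace Groth.Agent.WLoc

variable {A B : Type u} [CommRing A] [CommRing B] [Algebra A B]

attribute [local instance] Algebra.TensorProduct.rightAlgebra

theorem algebraicResidue_baseChange (h : ProEtW.AlgebraicResidueExtensions A B)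
    (C : Type u) [CommRing C] [Algebra A C] :
    ProEtW.AlgebraicResidueExtensions C (B ⊗[A] C) := by
  intro q _
  let pc := q.comap (algebraMap C (B ⊗[A] C))
  let qb := q.comap (Algebra.TensorProduct.includeLeft (R := A) (S := A) (A := B) (B := C))
  have := h qb
  let p := qb.comap (algebraMap A B)
  have hp : pc.comap (algebraMap A C) = p := by
    ext a
    change Algebra.TensorProduct.includeRight (R := A) (A := B) (B := C) (algebraMap A C a) ∈ q ↔
      Algebra.TensorProduct.includeLeft (R := A) (S := A) (A := B) (B := C) (algebraMap A B a) ∈ q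
    rw [AlgHom.commutes, AlgHom.commutes]
  let f : A ⧸ p →+* C ⧸ pc := Ideal.quotientMap pc (algebraMap A C) hp.ge
  have hf : Function.Injective f := Ideal.quotientMap_injective' hp.le
  let g : B ⧸ qb →+* (B ⊗[A] C) ⧸ q := Ideal.quotientMap q
    (Algebra.TensorProduct.includeLeft (R := A) (S := A) (A := B) (B := C)).toRingHom le_rfl
  have hcomm : (algebraMap (C ⧸ pc) ((B ⊗[A] C) ⧸ q)).comp f = g.comp (algebraMap (A ⧸ p) (B ⧸ qb)) := by
    refine Ideal.Quotient.ringHom_ext (RingHom.ext fun a => ?_)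
    change Ideal.Quotient.mk q (Algebra.TensorProduct.includeRight (R := A) (A := B) (B := C) (algebraMap A C a)) =
      Ideal.Quotient.mk q (Algebra.TensorProduct.includeLeft (R := A) (S := A) (A := B) (B := C) (algebraMap A B a))
    rw [AlgHom.commutes, AlgHom.commutes]
  have hB : ∀ b : B, IsAlgebraic (C ⧸ pc) (Ideal.Quotient.mk q (b ⊗ₜ[A] (1 : C))) := fun b => by
    obtain ⟨P, hP, hPb⟩ := Algebra.IsAlgebraic.isAlgebraic (R := A ⧸ p) (Ideal.Quotient.mk qb b)
    refine ⟨P.map f, (Polynomial.map_ne_zero_iff hf).mpr hP, ?_⟩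
    have := congrArg g hPb
    rw [Polynomial.aeval_def, Polynomial.hom_eval₂, ← hcomm, map_zero] at this
    rw [Polynomial.aeval_def, Polynomial.eval₂_map]
    exact this
  refine ⟨fun z => ?_⟩
  obtain ⟨z, rfl⟩ := Ideal.Quotient.mk_surjective z
  induction z with
  | zero => rw [map_zero]; exact isAlgebraic_zero
  | add x y hx hy => rw [map_add]; exact hx.add hy
  | tmul b c =>
    rw [show b ⊗ₜ[A] c = (b ⊗ₜ[A] (1 : C)) * algebraMap C (B ⊗[A] C) c by
      change _ = _ * ((1 : B) ⊗ₜ[A] c); simp, map_mul]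
    exact (hB b).mul (isAlgebraic_algebraMap (R := C ⧸ pc) (Ideal.Quotient.mk pc c))

theorem nontrivial_tensor_fields (K L₁ L₂ : Type u) [Field K] [Field L₁] [Field L₂] [Algebra K L₁]
    [Algebra K L₂] : Nontrivial (L₁ ⊗[K] L₂) :=
  (Algebra.TensorProduct.includeLeft_injective (R := K) (S := K) (A := L₁) (B := L₂)
    (algebraMap K L₂).injective).nontrivial

theorem exists_prime_pair (C : Type u) [CommRing C] [Algebra A C] (q : PrimeSpectrum B)
    (c : PrimeSpectrum C)
    (h : PrimeSpectrum.comap (algebraMap A B) q = PrimeSpectrum.comap (algebraMap A C) c) :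
    ∃ P : PrimeSpectrum (B ⊗[A] C), PrimeSpectrum.comap (algebraMap B (B ⊗[A] C)) P = q ∧
      PrimeSpectrum.comap (algebraMap C (B ⊗[A] C)) P = c := by
  let p := q.asIdeal.comap (algebraMap A B)
  let κ := p.ResidueField
  let : Algebra κ q.asIdeal.ResidueField :=
    (Ideal.ResidueField.map p q.asIdeal (algebraMap A B) rfl).toAlgebra
  let : Algebra κ c.asIdeal.ResidueField :=
    (Ideal.ResidueField.map p c.asIdeal (algebraMap A C) (congrArg PrimeSpectrum.asIdeal h)).toAlgebra
  have : Nontrivial (q.asIdeal.ResidueField ⊗[κ] c.asIdeal.ResidueField) :=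
    nontrivial_tensor_fields κ q.asIdeal.ResidueField c.asIdeal.ResidueField
  obtain ⟨m, hm⟩ := Ideal.exists_maximal (q.asIdeal.ResidueField ⊗[κ] c.asIdeal.ResidueField)
  let i₁ := (Ideal.Quotient.mk m).comp ((algebraMap q.asIdeal.ResidueField
    (q.asIdeal.ResidueField ⊗[κ] c.asIdeal.ResidueField)))
  let i₂ := (Ideal.Quotient.mk m).comp (Algebra.TensorProduct.includeRight (R := κ)
    (A := q.asIdeal.ResidueField) (B := c.asIdeal.ResidueField)).toRingHom
  have hi : ∀ a : A, i₁ (algebraMap B q.asIdeal.ResidueField (algebraMap A B a)) =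
      i₂ (algebraMap C c.asIdeal.ResidueField (algebraMap A C a)) := fun a => by
    have h1 := Ideal.ResidueField.map_algebraMap p q.asIdeal (algebraMap A B) rfl a
    have h2 := Ideal.ResidueField.map_algebraMap p c.asIdeal (algebraMap A C)
      (congrArg PrimeSpectrum.asIdeal h) a
    rw [← h1, ← h2]
    change Ideal.Quotient.mk m (algebraMap q.asIdeal.ResidueField _ (algebraMap κ q.asIdeal.ResidueField _)) =
      Ideal.Quotient.mk m (Algebra.TensorProduct.includeRight (algebraMap κ c.asIdeal.ResidueField _))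
    rw [AlgHom.commutes, ← IsScalarTower.algebraMap_apply]
  let : Algebra A ((q.asIdeal.ResidueField ⊗[κ] c.asIdeal.ResidueField) ⧸ m) :=
    ((i₁.comp (algebraMap B q.asIdeal.ResidueField)).comp (algebraMap A B)).toAlgebra
  let φ₁ : B →ₐ[A] (q.asIdeal.ResidueField ⊗[κ] c.asIdeal.ResidueField) ⧸ m :=
    AlgHom.mk (i₁.comp (algebraMap B q.asIdeal.ResidueField)) fun _ => rfl
  let φ₂ : C →ₐ[A] (q.asIdeal.ResidueField ⊗[κ] c.asIdeal.ResidueField) ⧸ m :=
    AlgHom.mk (i₂.comp (algebraMap C c.asIdeal.ResidueField)) fun a => (hi a).symm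
  let Φ := Algebra.TensorProduct.productMap φ₁ φ₂
  have : Nontrivial ((q.asIdeal.ResidueField ⊗[κ] c.asIdeal.ResidueField) ⧸ m) :=
    Ideal.Quotient.nontrivial_iff.mpr hm.ne_top
  refine ⟨⟨RingHom.ker Φ, have := hm.isPrime; RingHom.ker_isPrime _⟩,
    PrimeSpectrum.ext (Ideal.ext fun b => ?_), PrimeSpectrum.ext (Ideal.ext fun x => ?_)⟩
  · change Φ (b ⊗ₜ[A] (1 : C)) = 0 ↔ _
    rw [Algebra.TensorProduct.productMap_apply_tmul, map_one, mul_one]
    exact (map_eq_zero_iff i₁ i₁.injective).trans Ideal.algebraMap_residueField_eq_zero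
  · change Φ ((1 : B) ⊗ₜ[A] x) = 0 ↔ _
    rw [Algebra.TensorProduct.productMap_apply_tmul, map_one, one_mul]
    exact (map_eq_zero_iff i₂ i₂.injective).trans Ideal.algebraMap_residueField_eq_zero

/-- closed points of a w-local thickening surject -/
theorem lift_closed {R S : Type u} [CommRing R] [CommRing S] [Algebra R S] (I : Ideal R)
    (hbij : Function.Bijective (Ideal.quotientMap (I.map (algebraMap R S)) (algebraMap R S)
      Ideal.le_comap_map)) (P : PrimeSpectrum R) (hP : I ≤ P.asIdeal) :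
    ∃ Q : PrimeSpectrum S, PrimeSpectrum.comap (algebraMap R S) Q = P := by
  have : P ∈ Set.range (PrimeSpectrum.comap (Ideal.Quotient.mk I)) := by
    rw [range_comap_of_surjective _ _ Ideal.Quotient.mk_surjective, Ideal.mk_ker]
    exact hP
  obtain ⟨P', rfl⟩ := this
  let eq := RingEquiv.ofBijective _ hbij
  refine ⟨PrimeSpectrum.comap (Ideal.Quotient.mk _) (PrimeSpectrum.comap eq.symm.toRingHom P'),
    PrimeSpectrum.ext (Ideal.ext fun a => ?_)⟩
  change eq.symm (Ideal.Quotient.mk _ (algebraMap R S a)) ∈ P'.asIdeal ↔ Ideal.Quotient.mk I a ∈ P'.asIdeal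
  rw [show Ideal.Quotient.mk _ (algebraMap R S a) = eq (Ideal.Quotient.mk I a) from rfl,
    RingEquiv.symm_apply_apply]

theorem exists_square (h : ProEtW.AlgebraicResidueExtensions A B) :
    ∃ (C D : Type u) (_ : CommRing C) (_ : CommRing D) (_ : Algebra A C) (_ : Algebra B D)
      (_ : Algebra C D) (_ : Algebra A D) (_ : IsScalarTower A C D) (_ : IsScalarTower A B D),
      Module.FaithfullyFlat A C ∧ EtPBC.IsIndEtale A C ∧ Module.FaithfullyFlat B D ∧
      EtPBC.IsIndEtale B D ∧ ProEtW.IsWLocal (PrimeSpectrum C) ∧ ProEtW.IsWLocal (PrimeSpectrum D) ∧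
      ProEtW.IsWLocalMap (PrimeSpectrum.comap (algebraMap C D)) ∧
      ProEtW.closedPoints (PrimeSpectrum D) =
        PrimeSpectrum.comap (algebraMap C D) ⁻¹' ProEtW.closedPoints (PrimeSpectrum C) ∧
      PrimeSpectrum.comap (algebraMap A C) '' ProEtW.closedPoints (PrimeSpectrum C) = Set.univ ∧
      PrimeSpectrum.comap (algebraMap B D) '' ProEtW.closedPoints (PrimeSpectrum D) = Set.univ ∧
      ∀ (m : Ideal C) [m.IsMaximal], EtCoh.IsStrictlyHenselianLocalRing (Localization.AtPrime m) := by
  obtain ⟨E, _, _, hEff, hEet, hEret⟩ := Groth.Agent.S0693.result (wLoc A)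
  have hwA := (wLoc_isWLocal A).1
  have := (IndEt.etFactors_of_isIndEtale hEet).weaklyEtale
  obtain ⟨hEmax, C, _, _, _, _, hC, hbij, hwC, hwmC, hclC⟩ :=
    Groth.Agent.S0737.result (wLoc A) E hwA (closedIdeal (wLoc A))
      (PrimeSpectrum.isRadical_vanishingIdeal _) (zeroLocus_closedIdeal hwA) algebraicResidue_of_weaklyEtale
  let : Algebra A C := ((algebraMap (wLoc A) C).comp (algebraMap A (wLoc A))).toAlgebra
  have : IsScalarTower A (wLoc A) C := .of_algebraMap_eq' rfl
  have hz0 : ZarFactors A (wLoc A) := zarFactors_of_isIndZariski (isIndZariski_of_algEquiv AlgEquiv.refl)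
  have hzC := zarFactors_of_isIndZariski hC
  have hetA : IndEt.EtFactors A C := hz0.etFactors.trans ((IndEt.etFactors_of_isIndEtale hEet).trans hzC.etFactors)
  have hCsurj : ∀ p : PrimeSpectrum A, ∃ c, IsClosed ({c} : Set (PrimeSpectrum C)) ∧
      PrimeSpectrum.comap (algebraMap A C) c = p := fun p => by
    obtain ⟨a, ha, hap⟩ := (wLoc_bijOn A).surjOn (Set.mem_univ p)
    obtain ⟨P, hP⟩ := PrimeSpectrum.comap_surjective_of_faithfullyFlat (A := wLoc A) (B := E) a
    obtain ⟨c, hc⟩ := lift_closed _ hbij P (Ideal.map_le_iff_le_comap.mpr fun x hx =>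
      (congrArg PrimeSpectrum.asIdeal hP).ge ((zeroLocus_closedIdeal hwA).ge ha hx))
    have hca : PrimeSpectrum.comap (algebraMap (wLoc A) C) c = a := by
      rw [IsScalarTower.algebraMap_eq (wLoc A) E C, PrimeSpectrum.comap_comp_apply, hc, hP]
    refine ⟨c, hclC.ge (show PrimeSpectrum.comap (algebraMap (wLoc A) C) c ∈ _ by rw [hca]; exact ha), ?_⟩
    rw [IsScalarTower.algebraMap_eq A (wLoc A) C, PrimeSpectrum.comap_comp_apply, hca, hap]
  have hSH : ∀ (m : Ideal C) [m.IsMaximal], EtCoh.IsStrictlyHenselianLocalRing (Localization.AtPrime m) := by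
    intro m hm
    let μ : PrimeSpectrum C := ⟨m, hm.isPrime⟩
    let e := PrimeSpectrum.comap (algebraMap E C) μ
    have hμ : IsClosed ({μ} : Set (PrimeSpectrum C)) := (PrimeSpectrum.isClosed_singleton_iff_isMaximal _).mpr hm
    have he : IsClosed ({e} : Set (PrimeSpectrum E)) := by
      refine hEmax ?_
      have h1 := (zeroLocus_closedIdeal hwA).ge (hwmC.2 μ hμ)
      rw [PrimeSpectrum.mem_zeroLocus, SetLike.coe_subset_coe]
      refine Ideal.map_le_iff_le_comap.mpr fun x hx => ?_
      change algebraMap E C (algebraMap (wLoc A) E x) ∈ m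
      rw [← IsScalarTower.algebraMap_apply]
      exact h1 hx
    have : (μ.asIdeal.comap (algebraMap E C)).IsMaximal := (PrimeSpectrum.isClosed_singleton_iff_isMaximal _).mp he
    obtain ⟨hh, hk⟩ := IndEt.isStrictlyHenselian_atPrime hEret (μ.asIdeal.comap (algebraMap E C))
    let ε := RingEquiv.ofBijective _ (hzC.identifiesLocalRings μ)
    have := hh
    refine ⟨Hensel.henselianLocalRing_of_ringEquiv ε, ?_⟩
    have := hk
    exact Hensel.isSepClosed_of_ringEquiv (IsLocalRing.ResidueField.mapEquiv ε)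
  have hCflat : Module.Flat A C := hetA.flat
  -- the second ring
  have hwI := zeroLocus_closedIdeal hwC
  obtain ⟨-, D, _, _, _, _, hD, hbijD, hwD, hwmD, hclD⟩ :=
    Groth.Agent.S0737.result C (B ⊗[A] C) hwC (closedIdeal C)
      (PrimeSpectrum.isRadical_vanishingIdeal _) hwI (algebraicResidue_baseChange h C)
  let : Algebra B D := ((algebraMap (B ⊗[A] C) D).comp (algebraMap B (B ⊗[A] C))).toAlgebra
  have : IsScalarTower B (B ⊗[A] C) D := .of_algebraMap_eq' rfl
  let : Algebra A D := ((algebraMap B D).comp (algebraMap A B)).toAlgebra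
  have : IsScalarTower A B D := .of_algebraMap_eq' rfl
  have : IsScalarTower A C D := .of_algebraMap_eq fun a => by
    change algebraMap (B ⊗[A] C) D (algebraMap B (B ⊗[A] C) (algebraMap A B a)) = _
    rw [IsScalarTower.algebraMap_apply C (B ⊗[A] C) D]
    congr 1
    exact ((Algebra.TensorProduct.includeLeft (R := A) (S := A) (A := B) (B := C)).commutes a).trans
      ((Algebra.TensorProduct.includeRight (R := A) (A := B) (B := C)).commutes a).symm
  have hetD : IndEt.EtFactors B D :=
    (hetA.baseChange (A' := B)).trans (zarFactors_of_isIndZariski hD).etFactors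
  have hDsurj : ∀ q : PrimeSpectrum B, ∃ d, IsClosed ({d} : Set (PrimeSpectrum D)) ∧
      PrimeSpectrum.comap (algebraMap B D) d = q := fun q => by
    obtain ⟨c, hc, hcq⟩ := hCsurj (PrimeSpectrum.comap (algebraMap A B) q)
    obtain ⟨P, hPq, hPc⟩ := exists_prime_pair C q c hcq.symm
    obtain ⟨d, hd⟩ := lift_closed _ hbijD P (Ideal.map_le_iff_le_comap.mpr fun x hx =>
      (congrArg PrimeSpectrum.asIdeal hPc).ge (hwI.ge hc hx))
    refine ⟨d, hclD.ge (show PrimeSpectrum.comap (algebraMap C D) d ∈ ProEtW.closedPoints (PrimeSpectrum C) from ?_), ?_⟩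
    · rw [IsScalarTower.algebraMap_eq C (B ⊗[A] C) D, PrimeSpectrum.comap_comp_apply, hd, hPc]
      exact hc
    · rw [IsScalarTower.algebraMap_eq B (B ⊗[A] C) D, PrimeSpectrum.comap_comp_apply, hd, hPq]
  have hDflat : Module.Flat B D := hetD.flat
  exact ⟨C, D, inferInstance, inferInstance, inferInstance, inferInstance, inferInstance, inferInstance,
    inferInstance, inferInstance,
    Module.FaithfullyFlat.of_comap_surjective fun p => (hCsurj p).imp fun c h => h.2,
    IndEt.isIndEtale_of_etFactors hetA,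
    Module.FaithfullyFlat.of_comap_surjective fun q => (hDsurj q).imp fun d h => h.2,
    IndEt.isIndEtale_of_etFactors hetD, hwC, hwD, hwmD, hclD,
    Set.eq_univ_iff_forall.mpr fun p => (hCsurj p).imp fun c h => ⟨h.1, h.2⟩,
    Set.eq_univ_iff_forall.mpr fun q => (hDsurj q).imp fun d h => ⟨h.1, h.2⟩, hSH⟩

end Groth.Agent.WLoc
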