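import Groth.Agent.WLoc.Square

/-!
# w-contractible covers, ind-étale and ind-Zariski refinements
-/

set_option autoImplicit false
set_option backward.isDefEq.respectTransparency false

universe u

open Topology

namespace Groth.Agent.WLoc

/-- `zarFactors_of_identifies`, over any ring below `A` -/
theorem zarFactors_base_of_identifies {A₀ A B : Type u} [CommRing A₀] [CommRing A] [CommRing B]
    [Algebra A₀ A] [Algebra A₀ B] [Algebra A B] [IsScalarTower A₀ A B] (h0 : ZarFactors A₀ A)
    (h1 : EtPBC.IdentifiesLocalRings A B)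
    (hA : ProEtW.IsWLocal (PrimeSpectrum A)) (hB : ProEtW.IsWLocal (PrimeSpectrum B))
    (h4 : ∀ y : PrimeSpectrum B, IsClosed ({y} : Set (PrimeSpectrum B)) →
      IsClosed ({PrimeSpectrum.comap (algebraMap A B) y} : Set (PrimeSpectrum A))) :
    ZarFactors A₀ B := by
  let g : C(_root_.ConnectedComponents (PrimeSpectrum B), _root_.ConnectedComponents (PrimeSpectrum A)) :=
    ⟨_, (PrimeSpectrum.continuous_comap (algebraMap A B)).connectedComponentsMap_continuous⟩
  let τ : C(PrimeSpectrum B, _root_.ConnectedComponents (PrimeSpectrum B)) :=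
    ⟨_, _root_.ConnectedComponents.continuous_coe⟩
  obtain ⟨φ, hφ⟩ := exists_pullRing_hom g τ fun P => rfl
  have hz := zarFactors_pullRing g (zarFactors_self A)
  obtain ⟨hw, hcl⟩ := isWLocal_pullRing g hA
  let : Algebra (pullRing g) B := φ.toRingHom.toAlgebra
  have : IsScalarTower A (pullRing g) B :=
    ⟨fun a x b => by
      obtain ⟨x, rfl⟩ := Ideal.Quotient.mk_surjective x
      change φ (a • Ideal.Quotient.mk (Ideal.span (pullRel g)) x) * b = a • (φ (Ideal.Quotient.mk _ x) * b)
      rw [map_smul, smul_mul_assoc]⟩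
  obtain ⟨e, he⟩ := exists_pullRing_components g
  have hb := bijective_of_identifies (identifiesLocalRings_cancel hz.identifiesLocalRings h1) hw hB
    (fun y hy => (hcl _).mpr (by
      change IsClosed ({(pullPair g (PrimeSpectrum.comap φ.toRingHom y)).1} : Set (PrimeSpectrum A))
      rw [hφ y]
      exact h4 y hy))
    (by
      convert e.symm.bijective
      refine funext fun k => ?_
      obtain ⟨y, rfl⟩ := _root_.ConnectedComponents.surjective_coe k
      apply e.injective
      rw [e.apply_symm_apply]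
      exact (he _).trans (congrArg Prod.snd (hφ y)))
  let φ₀ : pullRing g →ₐ[A₀] B := AlgHom.mk φ.toRingHom fun r => by
    change φ (algebraMap A₀ (pullRing g) r) = _
    rw [show algebraMap A₀ (pullRing g) r = algebraMap A (pullRing g) (algebraMap A₀ A r) from rfl,
      φ.commutes, ← IsScalarTower.algebraMap_apply]
  exact (zarFactors_pullRing g h0).congr (AlgEquiv.ofBijective φ₀ hb)

theorem exists_indZariski_refinement {A B : Type u} [CommRing A] [CommRing B] [Algebra A B]
    (h : EtPBC.IdentifiesLocalRings A B) :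
    ∃ (B' : Type u) (_ : CommRing B') (_ : Algebra B B') (_ : Algebra A B') (_ : IsScalarTower A B B'),
      Module.FaithfullyFlat B B' ∧ EtPBC.IsIndZariski B B' ∧ EtPBC.IsIndZariski A B' := by
  let B' := wLoc B
  let : Algebra A B' := ((algebraMap B B').comp (algebraMap A B)).toAlgebra
  have : IsScalarTower A B B' := .of_algebraMap_eq' rfl
  have hzB : ZarFactors B B' := zarFactors_of_isIndZariski (isIndZariski_of_algEquiv AlgEquiv.refl)
  obtain ⟨φ, hφ, -⟩ := wLoc_existsUnique (A := A) B' (wLoc_isWLocal B).1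
  let : Algebra (wLoc A) B' := φ.toRingHom.toAlgebra
  have : IsScalarTower A (wLoc A) B' := .of_algebraMap_eq fun a => (φ.commutes a).symm
  have hzA : ZarFactors A (wLoc A) := zarFactors_of_isIndZariski (isIndZariski_of_algEquiv AlgEquiv.refl)
  exact ⟨B', inferInstance, inferInstance, inferInstance, inferInstance, wLoc_faithfullyFlat B,
    isIndZariski_of_algEquiv AlgEquiv.refl, isIndZariski_of_zarFactors
      (zarFactors_base_of_identifies hzA
        (identifiesLocalRings_cancel hzA.identifiesLocalRings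
          (identifiesLocalRings_trans h hzB.identifiesLocalRings))
        (wLoc_isWLocal A).1 (wLoc_isWLocal B).1 hφ.2)⟩

theorem exists_indEtale_refinement {A B : Type u} [CommRing A] [CommRing B] [Algebra A B]
    [Algebra.WeaklyEtale A B] :
    ∃ (B' : Type u) (_ : CommRing B') (_ : Algebra B B') (_ : Algebra A B') (_ : IsScalarTower A B B'),
      Module.FaithfullyFlat B B' ∧ EtPBC.IsIndEtale B B' ∧ EtPBC.IsIndEtale A B' := by
  obtain ⟨C, D, _, _, _, _, _, _, _, _, -, hC, hDff, hD, hwC, hwD, hwm, -, -, -, hsh⟩ :=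
    exists_square (algebraicResidue_of_weaklyEtale (A := A) (B := B))
  have := (IndEt.etFactors_of_isIndEtale hC).weaklyEtale
  have := (IndEt.etFactors_of_isIndEtale hD).weaklyEtale
  have := Algebra.WeaklyEtale.trans A B D
  have := WEtale.weaklyEtale_of_tower A C D
  exact ⟨D, inferInstance, inferInstance, inferInstance, inferInstance, hDff, hD,
    IndEt.isIndEtale_of_etFactors ((IndEt.etFactors_of_isIndEtale hC).trans
      (zarFactors_of_weaklyEtale hsh hwC hwD hwm.2).etFactors)⟩

theorem exists_wContractible_cover (A : Type u) [CommRing A] :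
    ∃ (D : Type u) (_ : CommRing D) (_ : Algebra A D),
      Module.FaithfullyFlat A D ∧ EtPBC.IsIndEtale A D ∧ EtPBC.IsWContractible D := by
  obtain ⟨A₁, _, _, hA₁ff, hA₁, hw₁, hed₁⟩ := exists_indZariski_wLocal_ED A
  obtain ⟨E, _, _, hEff, hEet, hEret⟩ := Groth.Agent.S0693.result A₁
  have := (IndEt.etFactors_of_isIndEtale hEet).weaklyEtale
  obtain ⟨hEmax, C, _, _, _, _, hC, hbij, hwC, hwmC, hclC⟩ :=
    Groth.Agent.S0737.result A₁ E hw₁ (closedIdeal A₁)
      (PrimeSpectrum.isRadical_vanishingIdeal _) (zeroLocus_closedIdeal hw₁) algebraicResidue_of_weaklyEtale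
  have hsurj : ∀ a : PrimeSpectrum A₁, IsClosed ({a} : Set (PrimeSpectrum A₁)) →
      ∃ c, IsClosed ({c} : Set (PrimeSpectrum C)) ∧ PrimeSpectrum.comap (algebraMap A₁ C) c = a := fun a ha => by
    obtain ⟨P, hP⟩ := PrimeSpectrum.comap_surjective_of_faithfullyFlat (A := A₁) (B := E) a
    obtain ⟨c, hc⟩ := lift_closed _ hbij P (Ideal.map_le_iff_le_comap.mpr fun x hx =>
      (congrArg PrimeSpectrum.asIdeal hP).ge ((zeroLocus_closedIdeal hw₁).ge ha hx))
    have hca : PrimeSpectrum.comap (algebraMap A₁ C) c = a := by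
      rw [IsScalarTower.algebraMap_eq A₁ E C, PrimeSpectrum.comap_comp_apply, hc, hP]
    exact ⟨c, hclC.ge (show PrimeSpectrum.comap (algebraMap A₁ C) c ∈ ProEtW.closedPoints (PrimeSpectrum A₁) by
      rw [hca]; exact ha), hca⟩
  let π₀ := (PrimeSpectrum.continuous_comap (algebraMap A₁ C)).connectedComponentsMap
  have hπ : Function.Surjective π₀ := fun k => by
    obtain ⟨⟨a, ha⟩, rfl⟩ := (Spectral.bijective_of_unique_closedPoint hw₁.2.1 hw₁.2.2).2 k
    obtain ⟨c, -, rfl⟩ := hsurj a ha
    exact ⟨_root_.ConnectedComponents.mk c, rfl⟩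
  obtain ⟨σ, hσ, hσπ⟩ := CompactT2.ExtremallyDisconnected.projective
    (continuous_id (X := _root_.ConnectedComponents (PrimeSpectrum A₁)))
    (PrimeSpectrum.continuous_comap (algebraMap A₁ C)).connectedComponentsMap_continuous hπ
  let g : C(_root_.ConnectedComponents (PrimeSpectrum A₁), _root_.ConnectedComponents (PrimeSpectrum C)) :=
    ⟨σ, hσ⟩
  obtain ⟨e, he⟩ := exists_pullRing_components g
  obtain ⟨hw, hcl'⟩ := isWLocal_pullRing g hwC
  have hz := zarFactors_pullRing g (zarFactors_self C)
  have hzC := zarFactors_of_isIndZariski hC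
  let : Algebra A C := ((algebraMap A₁ C).comp (algebraMap A A₁)).toAlgebra
  have : IsScalarTower A A₁ C := .of_algebraMap_eq' rfl
  have : IsScalarTower A C (pullRing g) := ⟨fun a c x => by
    obtain ⟨x, rfl⟩ := Ideal.Quotient.mk_surjective x
    exact congrArg (Ideal.Quotient.mk (Ideal.span (pullRel g))) (LocallyConstant.ext fun t => smul_assoc a c (x t))⟩
  have het : IndEt.EtFactors A (pullRing g) :=
    (((zarFactors_of_isIndZariski hA₁).etFactors.trans
      ((IndEt.etFactors_of_isIndEtale hEet).trans hzC.etFactors)).trans hz.etFactors)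
  have := het.flat
  refine ⟨pullRing g, inferInstance, inferInstance, Module.FaithfullyFlat.of_comap_surjective fun p => ?_,
    IndEt.isIndEtale_of_etFactors het, isWContractible_iff.mpr
      ⟨hw, extremallyDisconnected_of_homeo e.symm, fun m hm => ?_⟩⟩
  · obtain ⟨a₀, ha₀⟩ := PrimeSpectrum.comap_surjective_of_faithfullyFlat (A := A) (B := A₁) p
    obtain ⟨a, ⟨ha, haa⟩, -⟩ := hw₁.2.2 a₀
    let k := _root_.ConnectedComponents.mk a
    obtain ⟨⟨c, hc⟩, hck⟩ := (Spectral.bijective_of_unique_closedPoint hwC.2.1 hwC.2.2).2 (σ k)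
    obtain ⟨y, hy⟩ := (range_pullPair g).ge (show (c, k) ∈ pullSet g from hck)
    have hca : PrimeSpectrum.comap (algebraMap A₁ C) c = a := by
      have h1 : π₀ (_root_.ConnectedComponents.mk c) = k :=
        (congrArg π₀ hck).trans (congrFun hσπ k)
      exact congrArg Subtype.val (@(Spectral.bijective_of_unique_closedPoint hw₁.2.1 hw₁.2.2).1
        ⟨_, hwmC.2 c hc⟩ ⟨a, ha⟩ h1)
    have hya : PrimeSpectrum.comap (algebraMap C (pullRing g)) y = c := congrArg Prod.fst hy
    -- generalise inside the flat extension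
    have hgen : ∃ y', y' ⤳ y ∧ PrimeSpectrum.comap ((algebraMap C (pullRing g)).comp (algebraMap A₁ C)) y' = a₀ := by
      have : IsScalarTower A₁ C (pullRing g) := ⟨fun a c x => by
        obtain ⟨x, rfl⟩ := Ideal.Quotient.mk_surjective x
        exact congrArg (Ideal.Quotient.mk (Ideal.span (pullRel g))) (LocallyConstant.ext fun t => smul_assoc a c (x t))⟩
      have hf : Module.Flat A₁ (pullRing g) :=
        (((IndEt.etFactors_of_isIndEtale hEet).trans hzC.etFactors).trans hz.etFactors).flat
      have hyc : PrimeSpectrum.comap (algebraMap A₁ (pullRing g)) y = a := by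
        rw [IsScalarTower.algebraMap_eq A₁ C (pullRing g), PrimeSpectrum.comap_comp_apply, hya, hca]
      have : y.asIdeal.LiesOver a.asIdeal := ⟨(congrArg PrimeSpectrum.asIdeal hyc).symm⟩
      obtain ⟨Q, hQle, hQp, hQ⟩ := Ideal.exists_ideal_le_liesOver_of_le (R := A₁)
        (p := a₀.asIdeal) (q := a.asIdeal) y.asIdeal ((PrimeSpectrum.le_iff_specializes _ _).mpr haa)
      exact ⟨⟨Q, hQp⟩, (PrimeSpectrum.le_iff_specializes _ _).mp hQle, PrimeSpectrum.ext hQ.over.symm⟩
    obtain ⟨y', -, hy'⟩ := hgen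
    refine ⟨y', ?_⟩
    rw [← ha₀, ← hy']
    rfl
  · let μ : PrimeSpectrum (pullRing g) := ⟨m, hm.isPrime⟩
    let c := PrimeSpectrum.comap (algebraMap C (pullRing g)) μ
    have hμ : IsClosed ({μ} : Set (PrimeSpectrum (pullRing g))) :=
      (PrimeSpectrum.isClosed_singleton_iff_isMaximal _).mpr hm
    have hc : IsClosed ({c} : Set (PrimeSpectrum C)) := (hcl' μ).mp hμ
    let eE := PrimeSpectrum.comap (algebraMap E C) c
    have : eE.asIdeal.IsMaximal := by
      refine (PrimeSpectrum.isClosed_singleton_iff_isMaximal _).mp (hEmax ?_)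
      have h1 := (zeroLocus_closedIdeal hw₁).ge (hwmC.2 c hc)
      rw [PrimeSpectrum.mem_zeroLocus, SetLike.coe_subset_coe]
      refine Ideal.map_le_iff_le_comap.mpr fun x hx => ?_
      change algebraMap E C (algebraMap A₁ E x) ∈ c.asIdeal
      rw [← IsScalarTower.algebraMap_apply]
      exact h1 hx
    have : (c.asIdeal.comap (algebraMap E C)).IsMaximal := this
    obtain ⟨hh, hk⟩ := IndEt.isStrictlyHenselian_atPrime hEret (c.asIdeal.comap (algebraMap E C))
    let ε := (RingEquiv.ofBijective _ (hzC.identifiesLocalRings c)).trans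
      (RingEquiv.ofBijective _ (hz.identifiesLocalRings μ))
    have := hh
    refine ⟨Hensel.henselianLocalRing_of_ringEquiv ε, ?_⟩
    have := hk
    exact Hensel.isSepClosed_of_ringEquiv (IsLocalRing.ResidueField.mapEquiv ε)

end Groth.Agent.WLoc
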