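import Groth.Agent.WLoc.RetrED
import Groth.Agent.WEtale.Olivier
import Groth.Agent.IndEt.Retract

/-!
# w-contractible rings
-/

set_option autoImplicit false
set_option backward.isDefEq.respectTransparency false

universe u

open TensorProduct

namespace Groth.Agent.WLoc

variable {A : Type u} [CommRing A]

theorem weaklyEtale_of_isLocalization (S : Submonoid A) (L : Type u) [CommRing L] [Algebra A L]
    [IsLocalization S L] : Algebra.WeaklyEtale A L where
  flat := IsLocalization.flat L S
  flat_lmul' := by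
    have key : ∀ z : L ⊗[A] L, z = Algebra.TensorProduct.lmul' A z ⊗ₜ 1 := by
      intro z
      induction z with
      | zero => simp
      | add x y hx hy => rw [map_add, add_tmul, ← hx, ← hy]
      | tmul a b =>
        obtain ⟨⟨c, s⟩, hc⟩ := IsLocalization.surj S b
        obtain ⟨u, hu⟩ := IsLocalization.map_units L s
        obtain ⟨a, rfl⟩ : ∃ a', algebraMap A L s * a' = a :=
          ⟨(↑u⁻¹ : L) * a, by rw [← hu, ← mul_assoc, Units.mul_inv, one_mul]⟩
        rw [Algebra.TensorProduct.lmul'_apply_tmul, ← Algebra.smul_def, TensorProduct.smul_tmul,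
          Algebra.smul_def, mul_comm, hc, smul_mul_assoc, Algebra.smul_def,
          show algebraMap A L s * (a * b) = (b * algebraMap A L s) * a by ring, hc,
          ← Algebra.smul_def, TensorProduct.smul_tmul, Algebra.smul_def, mul_one]
    refine RingHom.Flat.of_bijective ⟨fun x y hxy => ?_, fun b => ⟨b ⊗ₜ 1, by simp⟩⟩
    rw [key x, key y]
    exact congrArg (· ⊗ₜ[A] (1 : L)) hxy

variable {B : Type u} [CommRing B] [Algebra A B]

theorem algebraicResidue_of_weaklyEtale [Algebra.WeaklyEtale A B] :
    ProEtW.AlgebraicResidueExtensions A B := by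
  intro q _
  let p := q.comap (algebraMap A B)
  let κ := p.ResidueField
  let : Algebra κ q.ResidueField := (Ideal.ResidueField.map p q (algebraMap A B) rfl).toAlgebra
  have : IsScalarTower A κ q.ResidueField := IsScalarTower.of_algebraMap_eq fun a => by
    change _ = Ideal.ResidueField.map p q (algebraMap A B) rfl (algebraMap A κ a)
    rw [Ideal.ResidueField.map_algebraMap]
    rfl
  have := WEtale.isIntegral_of_weaklyEtale (K := κ) (B := κ ⊗[A] B)
  let Φ : κ ⊗[A] B →ₐ[κ] q.ResidueField :=
    Algebra.TensorProduct.lift (Algebra.ofId κ _) (IsScalarTower.toAlgHom A B _) fun _ _ => .all _ _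
  refine ⟨fun z => ?_⟩
  obtain ⟨x, rfl⟩ := Ideal.Quotient.mk_surjective z
  have h1 : IsIntegral κ (algebraMap B q.ResidueField x) := by
    have := (Algebra.IsIntegral.isIntegral (R := κ) ((1 : κ) ⊗ₜ[A] x)).map Φ
    simpa [Φ] using this
  let : Algebra (A ⧸ p) q.ResidueField := ((algebraMap κ q.ResidueField).comp (algebraMap (A ⧸ p) κ)).toAlgebra
  have : IsScalarTower (A ⧸ p) κ q.ResidueField := IsScalarTower.of_algebraMap_eq' rfl
  have h2 : IsAlgebraic (A ⧸ p) (algebraMap B q.ResidueField x) :=
    (IsFractionRing.isAlgebraic_iff (A ⧸ p) κ q.ResidueField).mpr h1.isAlgebraic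
  have : IsScalarTower (A ⧸ p) (B ⧸ q) q.ResidueField := IsScalarTower.of_algebraMap_eq fun a => by
    obtain ⟨a', ha'⟩ := Ideal.Quotient.mk_surjective a
    rw [← ha', IsScalarTower.algebraMap_apply (A ⧸ p) κ q.ResidueField]
    exact (IsScalarTower.algebraMap_apply A κ q.ResidueField a').symm
  exact (isAlgebraic_algebraMap_iff (A := q.ResidueField)
    (IsFractionRing.injective (B ⧸ q) q.ResidueField)).mp h2

theorem zarFactors_of_weaklyEtale [Algebra.WeaklyEtale A B]
    (hsh : ∀ (m : Ideal A) [m.IsMaximal], EtCoh.IsStrictlyHenselianLocalRing (Localization.AtPrime m))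
    (hA : ProEtW.IsWLocal (PrimeSpectrum A)) (hB : ProEtW.IsWLocal (PrimeSpectrum B))
    (h4 : ∀ y : PrimeSpectrum B, IsClosed ({y} : Set (PrimeSpectrum B)) →
      IsClosed ({PrimeSpectrum.comap (algebraMap A B) y} : Set (PrimeSpectrum A))) :
    ZarFactors A B := by
  refine zarFactors_of_identifies ?_ hA hB h4
  have key : ∀ q : PrimeSpectrum B, ∃ m : PrimeSpectrum B, q.asIdeal ≤ m.asIdeal ∧
      Function.Bijective (Localization.localRingHom (m.asIdeal.comap (algebraMap A B)) m.asIdeal
        (algebraMap A B) rfl) := by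
    intro q
    obtain ⟨m, ⟨hm, hqm⟩, -⟩ := hB.2.2 q
    have : (m.asIdeal.comap (algebraMap A B)).IsMaximal :=
      (PrimeSpectrum.isClosed_singleton_iff_isMaximal _).mp (h4 m hm)
    obtain ⟨_, _⟩ := hsh (m.asIdeal.comap (algebraMap A B))
    refine ⟨m, (PrimeSpectrum.le_iff_specializes _ _).mpr hqm, ?_⟩
    let n := m.asIdeal.comap (algebraMap A B)
    let φ := Localization.localRingHom n m.asIdeal (algebraMap A B) rfl
    let : Algebra (Localization.AtPrime n) (Localization.AtPrime m.asIdeal) := φ.toAlgebra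
    have : IsLocalHom (algebraMap (Localization.AtPrime n) (Localization.AtPrime m.asIdeal)) :=
      Localization.isLocalHom_localRingHom n m.asIdeal (algebraMap A B) rfl
    have : IsScalarTower A (Localization.AtPrime n) (Localization.AtPrime m.asIdeal) :=
      IsScalarTower.of_algebraMap_eq fun a => by
        rw [IsScalarTower.algebraMap_apply A B (Localization.AtPrime m.asIdeal)]
        exact (Localization.localRingHom_to_map n m.asIdeal (algebraMap A B) rfl a).symm
    have := weaklyEtale_of_isLocalization n.primeCompl (Localization.AtPrime n)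
    have := weaklyEtale_of_isLocalization m.asIdeal.primeCompl (Localization.AtPrime m.asIdeal)
    have := Algebra.WeaklyEtale.trans A B (Localization.AtPrime m.asIdeal)
    have := WEtale.weaklyEtale_of_tower A (Localization.AtPrime n) (Localization.AtPrime m.asIdeal)
    exact WEtale.Olivier.bijective
  -- spread from the closed points
  have hel : ∀ q : PrimeSpectrum B, ∃ m : PrimeSpectrum B, q.asIdeal ≤ m.asIdeal ∧
      (∀ x : B, ∃ a s, algebraMap A B s ∉ m.asIdeal ∧
        ∃ t ∉ m.asIdeal, t * (algebraMap A B s * x - algebraMap A B a) = 0) ∧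
      ∀ a : A, ∀ t ∉ m.asIdeal, t * algebraMap A B a = 0 →
        ∃ s, algebraMap A B s ∉ m.asIdeal ∧ s * a = 0 := by
    intro q
    obtain ⟨m, hqm, hi, hs⟩ := key q
    let p := m.asIdeal.comap (algebraMap A B)
    refine ⟨m, hqm, fun x => ?_, fun a t ht hta => ?_⟩
    · obtain ⟨z, hz⟩ := hs (algebraMap B (Localization.AtPrime m.asIdeal) x)
      obtain ⟨a, ⟨s, hsp⟩, rfl⟩ := IsLocalization.exists_mk'_eq p.primeCompl z
      rw [Localization.localRingHom_mk', IsLocalization.mk'_eq_iff_eq_mul, ← map_mul,
        IsLocalization.eq_iff_exists m.asIdeal.primeCompl] at hz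
      obtain ⟨⟨t, ht⟩, hteq⟩ := hz
      refine ⟨a, s, hsp, t, ht, ?_⟩
      linear_combination -hteq
    · have h0 : algebraMap A (Localization.AtPrime p) a = 0 := by
        apply hi
        rw [Localization.localRingHom_to_map, map_zero,
          IsLocalization.map_eq_zero_iff m.asIdeal.primeCompl]
        exact ⟨⟨t, ht⟩, hta⟩
      obtain ⟨⟨s, hs'⟩, hsa⟩ := (IsLocalization.map_eq_zero_iff p.primeCompl _ _).mp h0
      exact ⟨s, hs', hsa⟩
  refine identifiesLocalRings_of_elements (fun q x => ?_) fun q a t ht hta => ?_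
  · obtain ⟨m, hqm, hS, -⟩ := hel q
    obtain ⟨a, s, hs, t, ht, h⟩ := hS x
    exact ⟨a, s, fun h' => hs (hqm h'), t, fun h' => ht (hqm h'), h⟩
  · obtain ⟨m, hqm, hS, hI⟩ := hel q
    -- replace `t` by a scalar
    obtain ⟨c, s, hs, t', ht', h⟩ := hS t
    have hc : algebraMap A B c ∉ q.asIdeal := fun hc => by
      have : t' * (algebraMap A B s * t) ∈ q.asIdeal := by
        rw [show t' * (algebraMap A B s * t) = t' * algebraMap A B c by linear_combination h]
        exact Ideal.mul_mem_left _ _ hc
      exact (q.2.mem_or_mem this).elim (fun h' => ht' (hqm h')) fun h' =>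
        (q.2.mem_or_mem h').elim (fun h' => hs (hqm h')) ht
    obtain ⟨r, hr, hra⟩ := hI (c * a) t' ht' (by
      rw [map_mul]
      linear_combination (t' * algebraMap A B s) * hta - algebraMap A B a * h)
    exact ⟨r * c, fun h' => by
      rw [map_mul] at h'
      exact (q.2.mem_or_mem h').elim (fun h' => hr (hqm h')) hc, by rw [mul_assoc]; exact hra⟩

theorem retraction_of_weaklyEtale
    (hsh : ∀ (m : Ideal A) [m.IsMaximal], EtCoh.IsStrictlyHenselianLocalRing (Localization.AtPrime m))
    (hA : ProEtW.IsWLocal (PrimeSpectrum A))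
    (hE : ExtremallyDisconnected (_root_.ConnectedComponents (PrimeSpectrum A))) :
    EtPBC.IsWContractible A := by
  intro B _ _ hff hwe
  obtain ⟨-, C, _, _, _, _, hC, hbij, hwC, hwm, hcl⟩ :=
    Groth.Agent.S0737.result A B hA (closedIdeal A) (PrimeSpectrum.isRadical_vanishingIdeal _)
      (zeroLocus_closedIdeal hA) algebraicResidue_of_weaklyEtale
  have := (zarFactors_of_isIndZariski hC).etFactors.weaklyEtale
  have := Algebra.WeaklyEtale.trans A B C
  have hz := zarFactors_of_weaklyEtale (B := C) hsh hA hwC hwm.2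
  have hCff : Module.FaithfullyFlat A C := by
    have := hz.flat
    refine ⟨fun {n} hn htop => ?_⟩
    obtain ⟨P, hP⟩ := PrimeSpectrum.comap_surjective_of_faithfullyFlat (A := A) (B := B) ⟨n, hn.isPrime⟩
    let J := (closedIdeal A).map (algebraMap A B)
    have : P ∈ Set.range (PrimeSpectrum.comap (Ideal.Quotient.mk J)) := by
      rw [range_comap_of_surjective _ _ Ideal.Quotient.mk_surjective, Ideal.mk_ker]
      refine (Ideal.map_le_iff_le_comap.mpr ?_ : J ≤ P.asIdeal)
      rw [show P.asIdeal.comap (algebraMap A B) = n from congrArg PrimeSpectrum.asIdeal hP]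
      exact closedIdeal_le_maximal (hm := hn) n
    obtain ⟨P', rfl⟩ := this
    let eq := RingEquiv.ofBijective _ hbij
    let Q := PrimeSpectrum.comap (Ideal.Quotient.mk _) (PrimeSpectrum.comap eq.symm.toRingHom P')
    have hQ : n.map (algebraMap A C) ≤ Q.asIdeal := Ideal.map_le_iff_le_comap.mpr fun a ha => by
      change eq.symm (Ideal.Quotient.mk _ (algebraMap A C a)) ∈ P'.asIdeal
      rw [show Ideal.Quotient.mk _ (algebraMap A C a) = eq (Ideal.Quotient.mk J (algebraMap A B a)) by
        rw [IsScalarTower.algebraMap_apply A B C]; rfl, RingEquiv.symm_apply_apply]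
      exact (congrArg PrimeSpectrum.asIdeal hP).ge ha
    refine Q.2.ne_top (top_le_iff.mp (le_trans ?_ hQ))
    intro z _
    have hz : z ∈ n • (⊤ : Submodule A C) := by rw [htop]; trivial
    rw [Ideal.smul_top_eq_map] at hz
    exact hz
  obtain ⟨r⟩ := retraction_of_ff hA hE C hCff (isIndZariski_of_zarFactors hz)
  exact ⟨r.comp (IsScalarTower.toAlgHom A B C)⟩

theorem conditions_of_retractions
    (hz : ProEtW.HasIndZariskiRetractions A) (he : ProEtW.HasEtaleRetractions A) :
    ProEtW.IsWLocal (PrimeSpectrum A) ∧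
      ExtremallyDisconnected (_root_.ConnectedComponents (PrimeSpectrum A)) ∧
      ∀ (m : Ideal A) [m.IsMaximal], EtCoh.IsStrictlyHenselianLocalRing (Localization.AtPrime m) := by
  obtain ⟨h1, h2⟩ := wLocal_ED_of_retractions hz
  exact ⟨h1, h2, fun m _ => IndEt.isStrictlyHenselian_atPrime he m⟩

theorem isWContractible_iff :
    EtPBC.IsWContractible A ↔
      (ProEtW.IsWLocal (PrimeSpectrum A) ∧
        ExtremallyDisconnected (_root_.ConnectedComponents (PrimeSpectrum A)) ∧
        ∀ (m : Ideal A) [m.IsMaximal], EtCoh.IsStrictlyHenselianLocalRing (Localization.AtPrime m)) := by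
  refine ⟨fun h => conditions_of_retractions
    (fun B _ _ hff hB => h B hff (zarFactors_of_isIndZariski hB).etFactors.weaklyEtale)
    (fun B _ _ hff hB => h B hff inferInstance), fun ⟨h1, h2, h3⟩ => retraction_of_weaklyEtale h3 h1 h2⟩

theorem isWContractible_iff_indEtale :
    EtPBC.IsWContractible A ↔ ProEtW.HasIndEtaleRetractions A := by
  refine ⟨fun h B _ _ hff hB => h B hff (IndEt.etFactors_of_isIndEtale hB).weaklyEtale,
    fun h => isWContractible_iff.mpr (conditions_of_retractions
      (fun B _ _ hff hB => h B hff (IndEt.isIndEtale_of_etFactors (zarFactors_of_isIndZariski hB).etFactors))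
      (fun B _ _ hff hB => h B hff (IndEt.isIndEtale_of_etFactors fun C _ _ _ g =>
        ⟨B, inferInstance, inferInstance, hB, g, AlgHom.id A B, AlgHom.ext fun _ => rfl⟩)))⟩

end Groth.Agent.WLoc
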