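import Groth.Agent.WLoc.AbsFlat
import Groth.Agent.WEtale.Basic
import Groth.Agent.Hensel.EtaleLift
import Mathlib.RingTheory.Spectrum.Prime.Topology
import Mathlib.Topology.Spectral.Hom

/-!
# The universal property of the w-localization
-/

set_option autoImplicit false
set_option backward.isDefEq.respectTransparency false

universe u

namespace Groth.Agent.WLoc

theorem qinverse_unique {D : Type u} [CommRing D] {x y y' : D} (h1 : x * x * y = x)
    (h2 : x * y * y = y) (h1' : x * x * y' = x) (h2' : x * y' * y' = y') : y = y' := by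
  have h3 : x * y = x * y' := by
    calc x * y = x * x * y' * y := by rw [h1']
      _ = (x * x * y) * y' := by ring
      _ = x * y' := by rw [h1]
  calc y = x * y * y := h2.symm
    _ = x * y' * y := by rw [h3]
    _ = (x * y) * y' := by ring
    _ = x * y' * y' := by rw [h3]
    _ = y' := h2'

variable {A : Type u} [CommRing A]

theorem absFlat_hom_ext {D : Type u} [CommRing D] [Algebra A D] {g g' : absFlat A →ₐ[A] D} :
    g = g' := by
  refine AlgHom.ext fun x => ?_
  induction x using absFlat_induction with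
  | hA a => rw [AlgHom.commutes, AlgHom.commutes]
  | hadd x y hx hy => rw [map_add, map_add, hx, hy]
  | hmul x y hx hy => rw [map_mul, map_mul, hx, hy]
  | hinv x hx =>
    refine qinverse_unique (x := g x) ?_ ?_ ?_ ?_
    · rw [← map_mul, ← map_mul, mul_mul_qinv]
    · rw [← map_mul, ← map_mul, mul_qinv_qinv]
    · rw [hx, ← map_mul, ← map_mul, mul_mul_qinv]
    · rw [hx, ← map_mul, ← map_mul, mul_qinv_qinv]

theorem exists_absFlat_hom {D : Type u} [CommRing D] [Algebra A D] (hD : WEtale.IsVNR D) :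
    Nonempty (absFlat A →ₐ[A] D) := by
  have := hD.isReduced
  let pt : PrimeSpectrum D → PrimeSpectrum A := fun P => PrimeSpectrum.comap (algebraMap A D) P
  let ι : ∀ P : PrimeSpectrum D, (pt P).asIdeal.ResidueField →+* P.asIdeal.ResidueField :=
    fun P => Ideal.ResidueField.map (pt P).asIdeal P.asIdeal (algebraMap A D) rfl
  let ev : ∀ P : PrimeSpectrum D, D →+* P.asIdeal.ResidueField := fun P =>
    algebraMap D P.asIdeal.ResidueField
  have hinj : ∀ d d' : D, (∀ P, ev P d = ev P d') → d = d' := fun d d' h => by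
    rw [← sub_eq_zero]
    refine IsReduced.eq_zero _ ?_
    rw [nilpotent_iff_mem_prime]
    intro P hP
    rw [← Ideal.algebraMap_residueField_eq_zero (I := P), map_sub, sub_eq_zero]
    exact h ⟨P, hP⟩
  have hι : ∀ (P : PrimeSpectrum D) (a : A), ι P (algebraMap A _ a) = ev P (algebraMap A D a) :=
    fun P a => Ideal.ResidueField.map_algebraMap _ _ _ rfl a
  have hex : ∀ x : absFlat A, ∃ d : D, ∀ P, ev P d = ι P (x.1 (pt P)) := by
    intro x
    induction x using absFlat_induction with
    | hA a => exact ⟨algebraMap A D a, fun P => (hι P a).symm⟩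
    | hadd x y hx hy =>
      obtain ⟨d, hd⟩ := hx
      obtain ⟨d', hd'⟩ := hy
      exact ⟨d + d', fun P => by rw [map_add, hd, hd', ← map_add]; rfl⟩
    | hmul x y hx hy =>
      obtain ⟨d, hd⟩ := hx
      obtain ⟨d', hd'⟩ := hy
      exact ⟨d * d', fun P => by rw [map_mul, hd, hd', ← map_mul]; rfl⟩
    | hinv x hx =>
      obtain ⟨d, hd⟩ := hx
      obtain ⟨b, hb⟩ := hD d
      refine ⟨b * d * b, fun P => ?_⟩
      rw [qinv_val, map_inv₀, ← hd P, map_mul, map_mul]
      have h1 : ev P d = ev P d * ev P d * ev P b := by rw [← map_mul, ← map_mul, ← hb]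
      generalize ev P d = u at h1 ⊢
      generalize ev P b = v at h1 ⊢
      by_cases hu : u = 0
      · simp [hu]
      · have huv : u * v = 1 := mul_left_cancel₀ hu (by linear_combination -h1)
        rw [mul_assoc, huv, mul_one]
        exact eq_inv_of_mul_eq_one_right huv
  choose h hh using hex
  exact ⟨{
    toFun := h
    map_one' := hinj _ _ fun P => by rw [hh, map_one]; exact map_one _
    map_mul' := fun x y => hinj _ _ fun P => by rw [map_mul, hh, hh, hh, ← map_mul]; rfl
    map_zero' := hinj _ _ fun P => by rw [hh, map_zero]; exact map_zero _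
    map_add' := fun x y => hinj _ _ fun P => by rw [map_add, hh, hh, hh, ← map_add]; rfl
    commutes' := fun a => hinj _ _ fun P => by rw [hh]; exact hι P a }⟩

section Lifting

variable {B : Type u} [CommRing B]

/-- the ideal of the closed points -/
noncomputable def closedIdeal (B : Type u) [CommRing B] : Ideal B :=
  PrimeSpectrum.vanishingIdeal (ProEtW.closedPoints (PrimeSpectrum B))

theorem zeroLocus_closedIdeal (hB : ProEtW.IsWLocal (PrimeSpectrum B)) :
    PrimeSpectrum.zeroLocus (closedIdeal B : Set B) = ProEtW.closedPoints (PrimeSpectrum B) := by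
  rw [closedIdeal, PrimeSpectrum.zeroLocus_vanishingIdeal_eq_closure]
  exact hB.2.1.closure_eq

theorem closedIdeal_le_maximal (m : Ideal B) [hm : m.IsMaximal] : closedIdeal B ≤ m := by
  intro x hx
  exact (PrimeSpectrum.mem_vanishingIdeal _ _).mp hx ⟨m, hm.isPrime⟩
    ((PrimeSpectrum.isClosed_singleton_iff_isMaximal _).mpr hm)

theorem closedIdeal_le_jacobson : closedIdeal B ≤ Ideal.jacobson ⊥ :=
  le_sInf fun m hm => have := hm.2; closedIdeal_le_maximal m

theorem isVNR_quotient_closedIdeal (hB : ProEtW.IsWLocal (PrimeSpectrum B)) :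
    WEtale.IsVNR (B ⧸ closedIdeal B) := by
  have hrad : (closedIdeal B).IsRadical := PrimeSpectrum.isRadical_vanishingIdeal _
  have : IsReduced (B ⧸ closedIdeal B) := (Ideal.isRadical_iff_quotient_reduced _).mp hrad
  have hmax : ∀ p : Ideal (B ⧸ closedIdeal B), p.IsPrime → p.IsMaximal := fun p hp => by
    have h1 : (⟨p.comap (Ideal.Quotient.mk _), inferInstance⟩ : PrimeSpectrum B) ∈
        PrimeSpectrum.zeroLocus (closedIdeal B : Set B) := fun x hx => by
      change Ideal.Quotient.mk _ x ∈ p
      rw [Ideal.Quotient.eq_zero_iff_mem.mpr hx]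
      exact zero_mem _
    rw [zeroLocus_closedIdeal hB, ProEtW.closedPoints, Set.mem_ofPred_eq,
      PrimeSpectrum.isClosed_singleton_iff_isMaximal] at h1
    rw [← Ideal.map_comap_of_surjective _ Ideal.Quotient.mk_surjective p]
    exact (Ideal.map_eq_top_or_isMaximal_of_surjective _ Ideal.Quotient.mk_surjective h1).resolve_left
      (by rw [Ideal.map_comap_of_surjective _ Ideal.Quotient.mk_surjective]; exact hp.ne_top)
  exact WEtale.isVNR_of_flat fun M _ _ => WEtale.flat_of_isField_localization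
    (fun p _ => WEtale.isField_localization_of_isMaximal hmax p) M

/-- idempotents lift from the closed points -/
theorem exists_idempotent_lift (hB : ProEtW.IsWLocal (PrimeSpectrum B)) {ε : B ⧸ closedIdeal B}
    (hε : IsIdempotentElem ε) :
    ∃ e : B, IsIdempotentElem e ∧ Ideal.Quotient.mk (closedIdeal B) e = ε := by
  let J := closedIdeal B
  let q := Ideal.Quotient.mk J
  let J₁ := (Ideal.span {ε}).comap q
  let J₂ := (Ideal.span {1 - ε}).comap q
  obtain ⟨c, hc⟩ : ∃ c, q c = ε := Ideal.Quotient.mk_surjective ε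
  have hc1 : c ∈ J₁ := by rw [Ideal.mem_comap, hc]; exact Ideal.mem_span_singleton_self _
  have hc2 : 1 - c ∈ J₂ := by
    rw [Ideal.mem_comap, map_sub, map_one, hc]; exact Ideal.mem_span_singleton_self _
  have hmul : ∀ a ∈ J₁, ∀ b ∈ J₂, a * b ∈ J := fun a ha b hb => by
    obtain ⟨a', ha'⟩ := Ideal.mem_span_singleton'.mp ha
    obtain ⟨b', hb'⟩ := Ideal.mem_span_singleton'.mp hb
    rw [← Ideal.Quotient.eq_zero_iff_mem, map_mul, ← ha', ← hb',
      show a' * ε * (b' * (1 - ε)) = a' * b' * (ε - ε * ε) by ring, hε.eq, sub_self, mul_zero]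
  let S₁ := MonoidHom.mker (Ideal.Quotient.mk J₁ : B →* B ⧸ J₁)
  let S₂ := MonoidHom.mker (Ideal.Quotient.mk J₂ : B →* B ⧸ J₂)
  have h0 : (0 : B) ∈ S₁ ⊔ S₂ := by
    by_contra h
    obtain ⟨p, hp, -, hdis⟩ := Ideal.exists_le_prime_disjoint (⊥ : Ideal B) (S₁ ⊔ S₂)
      (Set.disjoint_left.mpr fun x hx hx' => h (by rw [← show x = 0 from hx]; exact hx'))
    have key : ∀ (L : Ideal B) (S : Submonoid B), S ≤ S₁ ⊔ S₂ →
        (∀ x, x - 1 ∈ L → x ∈ S) → ∃ m : Ideal B, m.IsMaximal ∧ p ⊔ L ≤ m := by
      intro L S hS hL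
      refine Ideal.exists_le_maximal _ fun htop => ?_
      obtain ⟨x, hx, y, hy, hxy⟩ :=
        Submodule.mem_sup.mp (htop.ge (Submodule.mem_top : (1 : B) ∈ ⊤))
      exact Set.disjoint_left.mp hdis hx
        (hS (hL x (by rw [← hxy, sub_add_cancel_left]; exact neg_mem hy)))
    obtain ⟨m₁, hm₁, hle₁⟩ := key J₁ S₁ le_sup_left fun x hx =>
      MonoidHom.mem_mker.mpr (by rw [← map_one (Ideal.Quotient.mk J₁)]; exact Ideal.Quotient.eq.mpr hx)
    obtain ⟨m₂, hm₂, hle₂⟩ := key J₂ S₂ le_sup_right fun x hx =>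
      MonoidHom.mem_mker.mpr (by rw [← map_one (Ideal.Quotient.mk J₂)]; exact Ideal.Quotient.eq.mpr hx)
    obtain ⟨y, -, huniq⟩ := hB.2.2 ⟨p, hp⟩
    have hy : ∀ (m : Ideal B) (hm : m.IsMaximal), p ≤ m → (⟨m, hm.isPrime⟩ : PrimeSpectrum B) = y :=
      fun m hm hle => huniq _ ⟨(PrimeSpectrum.isClosed_singleton_iff_isMaximal _).mpr hm,
        (PrimeSpectrum.le_iff_specializes _ _).mp hle⟩
    have heq : m₁ = m₂ := congrArg PrimeSpectrum.asIdeal
      ((hy m₁ hm₁ (le_sup_left.trans hle₁)).trans (hy m₂ hm₂ (le_sup_left.trans hle₂)).symm)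
    exact hm₁.ne_top ((Ideal.eq_top_iff_one _).mpr (by
      simpa using add_mem (hle₁ (Ideal.mem_sup_right hc1))
        (show 1 - c ∈ m₁ from heq ▸ hle₂ (Ideal.mem_sup_right hc2))))
  obtain ⟨s, hs, t, ht, hst⟩ := Submonoid.mem_sup.mp h0
  have hs1 : s - 1 ∈ J₁ := Ideal.Quotient.eq.mp ((MonoidHom.mem_mker.mp hs).trans (map_one _).symm)
  have ht1 : t - 1 ∈ J₂ := Ideal.Quotient.eq.mp ((MonoidHom.mem_mker.mp ht).trans (map_one _).symm)
  have htop : Ideal.span {s, t} = ⊤ := by
    by_contra h
    obtain ⟨m, hm, hle⟩ := Ideal.exists_le_maximal _ h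
    have hsm : s ∈ m := hle (Ideal.subset_span (by simp))
    have htm : t ∈ m := hle (Ideal.subset_span (by simp))
    rcases hm.isPrime.mem_or_mem (closedIdeal_le_maximal (hm := hm) m (hmul _ hc1 _ hc2)) with h' | h'
    · have : J₁ ≤ m := fun a ha => (hm.isPrime.mem_or_mem
        (closedIdeal_le_maximal (hm := hm) m (hmul a ha _ hc2))).resolve_right
        fun h'' => hm.ne_top ((Ideal.eq_top_iff_one _).mpr (by simpa using add_mem h' h''))
      exact hm.ne_top ((Ideal.eq_top_iff_one _).mpr (by simpa using sub_mem hsm (this hs1)))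
    · have : J₂ ≤ m := fun b hb => (hm.isPrime.mem_or_mem
        (closedIdeal_le_maximal (hm := hm) m (hmul _ hc1 b hb))).resolve_left
        fun h'' => hm.ne_top ((Ideal.eq_top_iff_one _).mpr (by simpa using add_mem h'' h'))
      exact hm.ne_top ((Ideal.eq_top_iff_one _).mpr (by simpa using sub_mem htm (this ht1)))
  obtain ⟨a, b, hab⟩ := Ideal.mem_span_pair.mp (htop.ge (Submodule.mem_top : (1 : B) ∈ ⊤))
  have hprod : a * s * (b * t) = 0 := by linear_combination (a * b) * hst
  refine ⟨b * t, ?_, ?_⟩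
  · change b * t * (b * t) = b * t
    linear_combination (b * t) * hab - hprod
  · have h1 : b * t ∈ J₁ := by
      have : b * t = -((s - 1) * (b * t)) + b * (s * t) := by ring
      rw [this, hst, mul_zero, add_zero]
      exact neg_mem (J₁.mul_mem_right _ hs1)
    have h2 : 1 - b * t ∈ J₂ := by
      rw [← hab, show a * s + b * t - b * t = -((t - 1) * (a * s)) + a * (s * t) by ring, hst,
        mul_zero, add_zero]
      exact neg_mem (J₂.mul_mem_right _ ht1)
    obtain ⟨u, hu⟩ := Ideal.mem_span_singleton'.mp h1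
    obtain ⟨v, hv⟩ := Ideal.mem_span_singleton'.mp h2
    have h3 : q (1 - b * t) = 1 - q (b * t) := by rw [map_sub, map_one]
    rw [h3] at hv
    change q (b * t) = ε
    have a1 : q (b * t) * ε = q (b * t) := by rw [← hu, mul_assoc, hε.eq]
    have a2 : q (b * t) * ε = ε := by linear_combination ε * hv + v * hε.eq
    exact a1.symm.trans a2

variable [Algebra A B]

/-- points of local isomorphisms lift from the closed points of a w-local scheme -/
theorem exists_lift_closedIdeal (hB : ProEtW.IsWLocal (PrimeSpectrum B)) (X : Type u) [CommRing X]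
    [Algebra A X] [Algebra.IsLocalIso A X] (ψ : X →ₐ[A] B ⧸ closedIdeal B) :
    ∃ τ : X →ₐ[A] B, ∀ x, Ideal.Quotient.mk (closedIdeal B) (τ x) = ψ x := by
  classical
  let J := closedIdeal B
  let q := Ideal.Quotient.mk J
  let Good : B → Prop := fun e => ∃ τ : X →ₗ[A] B,
    τ 1 = e ∧ (∀ x y, τ (x * y) = τ x * τ y) ∧ ∀ x, q (τ x) = ψ x * q e
  have hidem : ∀ e, Good e → IsIdempotentElem e := fun e ⟨τ, h1, h2, _⟩ => by
    rw [IsIdempotentElem, ← h1, ← h2, mul_one]
  have hmulRight : ∀ e f : B, Good e → IsIdempotentElem f → Good (e * f) := by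
    rintro e f ⟨τ, h1, h2, h3⟩ hf
    refine ⟨LinearMap.mulRight A f ∘ₗ τ, by simp [h1], fun x y => ?_, fun x => ?_⟩
    · simp only [LinearMap.coe_comp, Function.comp_apply, LinearMap.mulRight_apply, h2]
      rw [mul_mul_mul_comm, hf.eq]
    · simp only [LinearMap.coe_comp, Function.comp_apply, LinearMap.mulRight_apply, map_mul, h3]
      ring
  have hsup : ∀ e f, Good e → Good f → Good (e + f * (1 - e)) := by
    intro e f he hf
    have hie := hidem e he
    obtain ⟨τ, h1, h2, h3⟩ := he
    obtain ⟨σ, g1, g2, g3⟩ := hmulRight f (1 - e) hf hie.one_sub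
    have hcross : ∀ x y, τ x * σ y = 0 := fun x y => by
      rw [← mul_one x, h2, h1, ← one_mul y, g2, g1,
        show τ x * e * (f * (1 - e) * σ y) = τ x * f * σ y * (e - e * e) by ring, hie.eq, sub_self,
        mul_zero]
    refine ⟨τ + σ, by simp [h1, g1], fun x y => ?_, fun x => ?_⟩
    · simp only [LinearMap.add_apply, h2, g2]
      linear_combination -(hcross x y) - hcross y x
    · simp only [LinearMap.add_apply, map_add, h3, g3, mul_add]
  -- local existence
  have hloc : ∀ m : Ideal B, m.IsMaximal → ∃ e, Good e ∧ e ∉ m := by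
    intro m hm
    have hJm : J ≤ m := closedIdeal_le_maximal m
    have : (m.map q).IsPrime := Ideal.map_isPrime_of_surjective Ideal.Quotient.mk_surjective
      (by rwa [Ideal.mk_ker])
    have hcm : (m.map q).comap q = m := by
      rw [Ideal.comap_map_of_surjective' q Ideal.Quotient.mk_surjective, Ideal.mk_ker, sup_eq_left.mpr hJm]
    obtain ⟨g, hg, hstd⟩ := Algebra.IsLocalIso.exists_notMem_isStandardOpenImmersion (R := A)
      ((m.map q).comap ψ)
    obtain ⟨r, hr⟩ := hstd.exists_away
    obtain ⟨k, hk⟩ := isVNR_quotient_closedIdeal hB (ψ g)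
    obtain ⟨e, he, hqe⟩ := exists_idempotent_lift hB (ε := ψ g * k)
      (by change ψ g * k * (ψ g * k) = ψ g * k; linear_combination -k * hk)
    have hem : e ∉ m := fun h => hg (show ψ g ∈ m.map q by
      have h' := Ideal.mem_map_of_mem q h
      rw [show q e = ψ g * k from hqe] at h'
      rw [hk, mul_assoc]
      exact Ideal.mul_mem_left _ _ h')
    let Je := Ideal.span {1 - e}
    let qe := Ideal.Quotient.mkₐ A Je
    -- the corner of the closed points
    let De := (B ⧸ J) ⧸ Ideal.span {1 - q e}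
    let qd := Ideal.Quotient.mk (Ideal.span {1 - q e})
    let red : (B ⧸ Je) →ₐ[A] De := Ideal.Quotient.liftₐ Je
      ((Ideal.Quotient.mkₐ A (Ideal.span {1 - q e})).comp (Ideal.Quotient.mkₐ A J)) fun y hy => by
        obtain ⟨z, rfl⟩ := Ideal.mem_span_singleton'.mp hy
        change qd (q (z * (1 - e))) = 0
        rw [map_mul q, map_sub q, map_one q]
        exact Ideal.Quotient.eq_zero_iff_mem.mpr
          (Ideal.mul_mem_left _ _ (Ideal.mem_span_singleton_self _))
    let σd : Localization.Away g →ₐ[A] De := IsLocalization.liftAlgHom (M := Submonoid.powers g)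
      (f := (Ideal.Quotient.mkₐ A (Ideal.span {1 - q e})).comp ψ) fun ⟨_, n, hn⟩ => by
        subst hn
        rw [map_pow]
        refine IsUnit.pow n (IsUnit.of_mul_eq_one (qd k) ?_)
        change qd (ψ g) * qd k = 1
        rw [← map_mul, ← map_one qd, Ideal.Quotient.eq, show q e = ψ g * k from hqe,
          Ideal.mem_span_singleton]
        exact ⟨-1, by ring⟩
    have hru : IsUnit (qe (algebraMap A B r)) := by
      by_contra h
      obtain ⟨M, hM, hmem⟩ := exists_max_ideal_of_mem_nonunits h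
      let N := M.comap qe
      have hN : N.IsMaximal := Ideal.comap_isMaximal_of_surjective qe Ideal.Quotient.mk_surjective
      obtain ⟨c, hc⟩ : IsUnit (algebraMap A De r) := by
        rw [← σd.commutes]
        exact (IsLocalization.Away.algebraMap_isUnit r).map σd
      obtain ⟨d, hd⟩ := Ideal.Quotient.mk_surjective (c.inv)
      obtain ⟨d', hd'⟩ := Ideal.Quotient.mk_surjective d
      have hrd : qd (q (algebraMap A B r * d')) = 1 := by
        rw [map_mul, map_mul, hd', hd]
        change algebraMap A De r * c.inv = 1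
        rw [← hc]; exact c.val_inv
      rw [← map_one qd, Ideal.Quotient.eq, Ideal.mem_span_singleton] at hrd
      obtain ⟨z, hz⟩ := hrd
      obtain ⟨z', rfl⟩ := Ideal.Quotient.mk_surjective z
      have hJ' : algebraMap A B r * d' - 1 - (1 - e) * z' ∈ J := by
        rw [← Ideal.Quotient.eq_zero_iff_mem]
        change q (algebraMap A B r * d' - 1 - (1 - e) * z') = 0
        rw [map_sub q, map_sub q, map_one q, hz, map_mul q, map_sub q, map_one q, sub_self]
      have he1 : 1 - e ∈ N := by
        rw [Ideal.mem_comap, show qe (1 - e) = 0 from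
          Ideal.Quotient.eq_zero_iff_mem.mpr (Ideal.mem_span_singleton_self _)]
        exact zero_mem _
      refine hN.ne_top ((Ideal.eq_top_iff_one _).mpr ?_)
      have h1 : (1 : B) = algebraMap A B r * d' - (algebraMap A B r * d' - 1 - (1 - e) * z') -
          (1 - e) * z' := by ring
      rw [h1]
      exact sub_mem (sub_mem (N.mul_mem_right _ hmem) (closedIdeal_le_maximal (hm := hN) N hJ'))
        (N.mul_mem_right _ he1)
    let χ : Localization.Away g →ₐ[A] B ⧸ Je := IsLocalization.liftAlgHom (M := Submonoid.powers r)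
      (f := Algebra.ofId A (B ⧸ Je)) fun ⟨_, n, hn⟩ => by
        subst hn; rw [map_pow]; exact hru.pow n
    have hχ : red.comp χ = σd := IsLocalization.algHom_ext (Submonoid.powers r) (Subsingleton.elim _ _)
    let back : (B ⧸ Je) →ₗ[A] B :=
      (Je.restrictScalars A).liftQ (LinearMap.mulLeft A e) fun y hy => by
        obtain ⟨z, rfl⟩ := Ideal.mem_span_singleton'.mp hy
        rw [LinearMap.mem_ker, LinearMap.mulLeft_apply, show e * (z * (1 - e)) = z * (e - e * e) by
          ring, he.eq, sub_self, mul_zero]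
    have hback : ∀ b : B, back (Ideal.Quotient.mk Je b) = e * b := fun b => rfl
    let ω := χ.comp (IsScalarTower.toAlgHom A X (Localization.Away g))
    refine ⟨e, ⟨back ∘ₗ ω.toLinearMap, ?_, fun x y => ?_, fun x => ?_⟩, hem⟩
    · change back (ω 1) = e
      rw [map_one, ← map_one (Ideal.Quotient.mk Je), hback, mul_one]
    · change back (ω (x * y)) = back (ω x) * back (ω y)
      rw [map_mul]
      obtain ⟨a, ha⟩ := Ideal.Quotient.mk_surjective (ω x)
      obtain ⟨b, hb⟩ := Ideal.Quotient.mk_surjective (ω y)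
      rw [← ha, ← hb, ← map_mul, hback, hback, hback]
      linear_combination -(a * b) * he.eq
    · change q (back (ω x)) = ψ x * q e
      obtain ⟨a, ha⟩ := Ideal.Quotient.mk_surjective (ω x)
      have h1 : qd (q a) = qd (ψ x) := by
        change red (Ideal.Quotient.mk Je a) = _
        rw [ha]
        exact (DFunLike.congr_fun hχ _).trans (IsLocalization.lift_eq _ x)
      rw [Ideal.Quotient.eq, Ideal.mem_span_singleton] at h1
      obtain ⟨z, hz⟩ := h1
      rw [← ha, hback, map_mul, mul_comm]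
      have heq : q e * q e = q e := by rw [← map_mul, he.eq]
      linear_combination q e * hz - z * heq
  -- glue
  let L : Ideal B := Ideal.span {e | Good e}
  have hL : L = ⊤ := by
    by_contra h
    obtain ⟨m, hm, hle⟩ := Ideal.exists_le_maximal _ h
    obtain ⟨e, he, hem⟩ := hloc m hm
    exact hem (hle (Ideal.subset_span he))
  have hzero : Good 0 := ⟨0, by simp, by simp, by simp⟩
  have key : ∀ b ∈ L, ∃ e, Good e ∧ b * e = b := by
    intro b hb
    induction hb using Submodule.span_induction with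
    | mem x hx => exact ⟨x, hx, hidem x hx⟩
    | zero => exact ⟨0, hzero, mul_zero _⟩
    | add x y _ _ hx hy =>
      obtain ⟨e, he, hxe⟩ := hx
      obtain ⟨f, hf, hyf⟩ := hy
      exact ⟨e + f * (1 - e), hsup e f he hf,
        by linear_combination (1 - f) * hxe + (1 - e) * hyf⟩
    | smul c x _ hx =>
      obtain ⟨e, he, hxe⟩ := hx
      exact ⟨e, he, by rw [smul_eq_mul, mul_assoc, hxe]⟩
  obtain ⟨e, he, he1⟩ := key 1 (hL.ge Submodule.mem_top)
  rw [one_mul] at he1
  obtain ⟨τ, h1, h2, h3⟩ := he1 ▸ he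
  exact ⟨AlgHom.ofLinearMap τ h1 h2, fun x => (h3 x).trans (by rw [map_one, mul_one])⟩

end Lifting

/-- the universal property -/
theorem wLoc_existsUnique (B : Type u) [CommRing B] [Algebra A B]
    (hB : ProEtW.IsWLocal (PrimeSpectrum B)) :
    ∃! φ : wLoc A →ₐ[A] B, ProEtW.IsWLocalMap (PrimeSpectrum.comap φ.toRingHom) := by
  let J := closedIdeal B
  let π := ZarHens.π A (absFlat A)
  obtain ⟨h⟩ := exists_absFlat_hom (A := A) (isVNR_quotient_closedIdeal hB)
  have hw : ∀ φ : wLoc A →ₐ[A] B, ProEtW.IsWLocalMap (PrimeSpectrum.comap φ.toRingHom) ↔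
      ∀ z, π z = 0 → φ z ∈ J := by
    intro φ
    refine ⟨fun hφ z hz => ?_, fun hφ => ⟨⟨PrimeSpectrum.continuous_comap _, fun U hU hUc => ?_⟩,
      fun P hP => ?_⟩⟩
    · rw [show J = PrimeSpectrum.vanishingIdeal _ from rfl, PrimeSpectrum.mem_vanishingIdeal]
      intro P hP
      have := (hφ.2 P hP)
      rw [← Set.mem_ofPred_eq (p := fun x : PrimeSpectrum (wLoc A) => IsClosed {x}),
        ← ProEtW.closedPoints, (wLoc_isWLocal A).2] at this
      exact this (RingHom.mem_ker.mpr hz)
    · obtain ⟨s, hs, rfl⟩ := PrimeSpectrum.isCompact_isOpen_iff.mp ⟨hUc, hU⟩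
      rw [Set.preimage_compl, PrimeSpectrum.preimage_comap_zeroLocus]
      classical
      refine (PrimeSpectrum.isCompact_isOpen_iff.mpr ⟨(s.image φ), ?_⟩).1
      simp
    · have hP' : P ∈ ProEtW.closedPoints (PrimeSpectrum (R := B)) := hP
      rw [← zeroLocus_closedIdeal hB] at hP'
      change PrimeSpectrum.comap φ.toRingHom P ∈ ProEtW.closedPoints (PrimeSpectrum (wLoc A))
      rw [(wLoc_isWLocal A).2]
      exact fun z hz => hP' (hφ z (RingHom.mem_ker.mp hz))
  have hlift := fun X : Nbhd A (absFlat A) =>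
    exists_lift_closedIdeal hB X.carrier (h.comp X.point)
  choose g hg using hlift
  have hrig : ∀ (X : Nbhd A (absFlat A)) (τ : X.carrier →ₐ[A] B),
      (∀ x, Ideal.Quotient.mk J (τ x) = h (X.point x)) → τ = g X := fun X τ hτ =>
    Hensel.algHom_ext_of_unramified closedIdeal_le_jacobson fun x =>
      Ideal.Quotient.eq.mp ((hτ x).trans (hg X x).symm)
  have hcompat : ∀ (X Y : Nbhd A (absFlat A)) (f : X ⟶ Y) (x : X.carrier), g Y (f.1 x) = g X x :=
    fun X Y f x => DFunLike.congr_fun (hrig X ((g Y).comp f.1) fun y => by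
      rw [AlgHom.comp_apply, hg, AlgHom.comp_apply, Nbhd.pt_hom]) x
  refine ⟨ZarHens.lift g hcompat, (hw _).mpr fun z hz => ?_, fun φ hφ => ?_⟩
  · obtain ⟨X, x, rfl⟩ := ZarHens.exists_rep z
    rw [ZarHens.lift_of, ← Ideal.Quotient.eq_zero_iff_mem, hg, AlgHom.comp_apply,
      show X.point x = 0 from (ZarHens.π_of X x).symm.trans hz, map_zero]
  · have hφ' := (hw φ).mp hφ
    have hker : ∀ z ∈ RingHom.ker π, (Ideal.Quotient.mkₐ A J).comp φ z = 0 := fun z hz =>
      Ideal.Quotient.eq_zero_iff_mem.mpr (hφ' z (RingHom.mem_ker.mp hz))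
    let φb : absFlat A →ₐ[A] B ⧸ J :=
      (Ideal.Quotient.liftₐ (RingHom.ker π) ((Ideal.Quotient.mkₐ A J).comp φ) hker).comp
        (Ideal.quotientKerAlgEquivOfSurjective (π_surjective A)).symm.toAlgHom
    have hφb : ∀ z, Ideal.Quotient.mk J (φ z) = h (π z) := fun z => by
      rw [← DFunLike.congr_fun (absFlat_hom_ext (g := φb) (g' := h)) (π z)]
      have hz : (Ideal.quotientKerAlgEquivOfSurjective (π_surjective A)).symm (π z) =
          Ideal.Quotient.mk _ z := (AlgEquiv.symm_apply_eq _).2 rfl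
      exact ((congrArg (Ideal.Quotient.liftₐ (RingHom.ker π) ((Ideal.Quotient.mkₐ A J).comp φ) hker) hz).trans
        rfl).symm
    refine AlgHom.ext fun z => ?_
    obtain ⟨X, x, rfl⟩ := ZarHens.exists_rep z
    rw [ZarHens.lift_of]
    exact DFunLike.congr_fun (hrig X (φ.comp (ZarHens.of X)) fun y => by
      rw [AlgHom.comp_apply, hφb, ← ZarHens.π_of]) x

end Groth.Agent.WLoc
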