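import Groth.Agent.WLoc.Rigid
import Groth.Agent.WLoc.Universal
import Groth.Agent.S0737
import Groth.Agent.S0738
import Mathlib.Topology.ExtremallyDisconnected
import Mathlib.Topology.Compactification.StoneCech

/-!
# Ind-Zariski retractions and extremally disconnected components
-/

set_option autoImplicit false
set_option backward.isDefEq.respectTransparency false

universe u

open Topology

namespace Groth.Agent.WLoc

variable {A : Type u} [CommRing A]

/-- a space with the discrete topology -/
def Disc (X : Type u) : Type u := X

instance (X : Type u) : TopologicalSpace (Disc X) := ⊥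
instance (X : Type u) : DiscreteTopology (Disc X) := ⟨rfl⟩

/-- the Stone–Čech cover of the components -/
theorem exists_projective_cover (X : Type u) [TopologicalSpace X] [CompactSpace X] [T2Space X] :
    ∃ (T : Type u) (_ : TopologicalSpace T) (_ : CompactSpace T) (_ : T2Space T)
      (_ : TotallyDisconnectedSpace T) (g : C(T, X)),
      CompactT2.Projective T ∧ Function.Surjective g := by
  have hp : CompactT2.Projective (StoneCech (Disc X)) := StoneCech.projective
  have := hp.extremallyDisconnected
  let j : Disc X → X := fun x => x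
  have hc : Continuous j := continuous_of_discreteTopology
  refine ⟨StoneCech (Disc X), inferInstance, inferInstance, inferInstance, inferInstance,
    ⟨stoneCechExtend hc, continuous_stoneCechExtend hc⟩, hp, fun x => ⟨stoneCechUnit (α := Disc X) x, ?_⟩⟩
  exact congrFun (stoneCechExtend_extends hc) x

variable {T : Type u} [TopologicalSpace T] [CompactSpace T] [T2Space T] [TotallyDisconnectedSpace T]

theorem surjective_comap_pullRing (g : C(T, _root_.ConnectedComponents (PrimeSpectrum A)))
    (hg : Function.Surjective g) :
    Function.Surjective (PrimeSpectrum.comap (algebraMap A (pullRing g))) := fun q => by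
  obtain ⟨t, ht⟩ := hg (_root_.ConnectedComponents.mk q)
  obtain ⟨y, hy⟩ := (range_pullPair g).ge (show (q, t) ∈ pullSet g from ht.symm)
  exact ⟨y, (pullPair_fst g y).symm.trans (congrArg Prod.fst hy)⟩

variable (A) in
theorem exists_indZariski_wLocal_ED :
    ∃ (B : Type u) (_ : CommRing B) (_ : Algebra A B),
      Module.FaithfullyFlat A B ∧ EtPBC.IsIndZariski A B ∧ ProEtW.IsWLocal (PrimeSpectrum B) ∧
        ExtremallyDisconnected (_root_.ConnectedComponents (PrimeSpectrum B)) := by
  obtain ⟨T, _, _, _, _, g, hp, hg⟩ :=
    exists_projective_cover (_root_.ConnectedComponents (PrimeSpectrum (wLoc A)))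
  have hz : ZarFactors A (pullRing g) :=
    zarFactors_pullRing g (zarFactors_of_isIndZariski (isIndZariski_of_algEquiv AlgEquiv.refl))
  obtain ⟨e, -⟩ := exists_pullRing_components g
  have := hp.extremallyDisconnected
  have := hz.flat
  refine ⟨pullRing g, inferInstance, inferInstance, Module.FaithfullyFlat.of_comap_surjective fun q => ?_,
    isIndZariski_of_zarFactors hz, (isWLocal_pullRing g (wLoc_isWLocal A).1).1,
    extremallyDisconnected_of_homeo e.symm⟩
  have := wLoc_faithfullyFlat A
  obtain ⟨r, rfl⟩ := PrimeSpectrum.comap_surjective_of_faithfullyFlat (B := wLoc A) q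
  obtain ⟨y, rfl⟩ := surjective_comap_pullRing g hg r
  exact ⟨y, rfl⟩

theorem wLocal_ED_of_retractions (h : ProEtW.HasIndZariskiRetractions A) :
    ProEtW.IsWLocal (PrimeSpectrum A) ∧
      ExtremallyDisconnected (_root_.ConnectedComponents (PrimeSpectrum A)) := by
  refine ⟨?_, ?_⟩
  · obtain ⟨σ⟩ := h (wLoc A) (wLoc_faithfullyFlat A) (isIndZariski_of_algEquiv AlgEquiv.refl)
    have hs : Function.Surjective σ.toRingHom := fun a => ⟨algebraMap A _ a, σ.commutes a⟩
    have hemb := PrimeSpectrum.isClosedEmbedding_comap_of_surjective _ _ hs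
    exact isWLocal_of_homeomorph hemb.isEmbedding.toHomeomorph
      (Groth.Agent.S0738.result _ (wLoc_isWLocal A).1 _ hemb.isClosed_range)
  · obtain ⟨T, _, _, _, _, g, hp, hg⟩ := exists_projective_cover (_root_.ConnectedComponents (PrimeSpectrum A))
    have hz : ZarFactors A (pullRing g) := zarFactors_pullRing g (zarFactors_self A)
    have := hz.flat
    obtain ⟨r⟩ := h (pullRing g)
      (Module.FaithfullyFlat.of_comap_surjective (surjective_comap_pullRing g hg))
      (isIndZariski_of_zarFactors hz)
    obtain ⟨e, he⟩ := exists_pullRing_components g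
    let s : _root_.ConnectedComponents (PrimeSpectrum A) → T :=
      e ∘ (PrimeSpectrum.continuous_comap r.toRingHom).connectedComponentsMap
    have hs : Continuous s :=
      e.continuous.comp (PrimeSpectrum.continuous_comap r.toRingHom).connectedComponentsMap_continuous
    have hgs : ∀ c, g (s c) = c := fun c => by
      obtain ⟨q, rfl⟩ := _root_.ConnectedComponents.surjective_coe c
      change g (e (_root_.ConnectedComponents.mk (PrimeSpectrum.comap r.toRingHom q))) = _
      rw [he]
      refine ((range_pullPair g).le (Set.mem_range_self _)).symm.trans ?_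
      rw [pullPair_fst, ← PrimeSpectrum.comap_comp_apply]
      have : r.toRingHom.comp (algebraMap A (pullRing g)) = RingHom.id A := r.comp_algebraMap
      rw [this]
      rfl
    refine CompactT2.Projective.extremallyDisconnected ?_
    intro Y Z _ _ _ _ _ _ f f' hf hf' hsurj
    obtain ⟨l, hl, hl'⟩ := hp (hf.comp g.continuous) hf' hsurj
    exact ⟨l ∘ s, hl.comp hs, funext fun c => by
      rw [Function.comp_apply, Function.comp_apply, ← Function.comp_apply (f := f'), hl',
        Function.comp_apply, hgs]⟩

theorem retraction_of_ff (hA : ProEtW.IsWLocal (PrimeSpectrum A))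
    (hE : ExtremallyDisconnected (_root_.ConnectedComponents (PrimeSpectrum A)))
    (B : Type u) [CommRing B] [Algebra A B] (hff : Module.FaithfullyFlat A B)
    (hB : EtPBC.IsIndZariski A B) : Nonempty (B →ₐ[A] A) := by
  have hid := (zarFactors_of_isIndZariski hB).identifiesLocalRings
  have halg : ProEtW.AlgebraicResidueExtensions A B := fun q _ => by
    refine ⟨fun x => ?_⟩
    obtain ⟨x, rfl⟩ := Ideal.Quotient.mk_surjective x
    obtain ⟨a, s, hs, t, ht, h0⟩ := (elements_of_identifies hid ⟨q, inferInstance⟩).1 x
    have h1 : algebraMap A B s * x - algebraMap A B a ∈ q :=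
      ((‹q.IsPrime›).mem_or_mem (h0 ▸ zero_mem q)).resolve_left ht
    let p := q.comap (algebraMap A B)
    refine ⟨Polynomial.C (Ideal.Quotient.mk p s) * Polynomial.X - Polynomial.C (Ideal.Quotient.mk p a),
      fun h => ?_, ?_⟩
    · have h2 : Ideal.Quotient.mk p s = 0 := by
        have := congrArg (fun P : Polynomial (A ⧸ p) => P.coeff 1) h
        simpa using this
      exact hs (show s ∈ p from Ideal.Quotient.eq_zero_iff_mem.mp h2)
    · rw [map_sub, map_mul, Polynomial.aeval_C, Polynomial.aeval_X, Polynomial.aeval_C]
      change Ideal.Quotient.mk q (algebraMap A B s) * Ideal.Quotient.mk q x -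
        Ideal.Quotient.mk q (algebraMap A B a) = 0
      rw [← map_mul, ← map_sub, Ideal.Quotient.eq_zero_iff_mem]
      exact h1
  obtain ⟨-, C, _, _, _, _, hC, hbij, hwC, hwm, hcl⟩ :=
    Groth.Agent.S0737.result A B hA (closedIdeal A) (PrimeSpectrum.isRadical_vanishingIdeal _)
      (zeroLocus_closedIdeal hA) halg
  have hidC : EtPBC.IdentifiesLocalRings A C :=
    identifiesLocalRings_trans hid (zarFactors_of_isIndZariski hC).identifiesLocalRings
  let π₀ := (PrimeSpectrum.continuous_comap (algebraMap A C)).connectedComponentsMap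
  have hπ : Function.Surjective π₀ := fun c => by
    obtain ⟨⟨n, hn⟩, rfl⟩ := (Spectral.bijective_of_unique_closedPoint hA.2.1 hA.2.2).2 c
    obtain ⟨P, hP⟩ := PrimeSpectrum.comap_surjective_of_faithfullyFlat (A := A) (B := B) n
    have hPI : (closedIdeal A).map (algebraMap A B) ≤ P.asIdeal := Ideal.map_le_iff_le_comap.mpr <| by
      rw [show P.asIdeal.comap (algebraMap A B) = n.asIdeal from congrArg PrimeSpectrum.asIdeal hP]
      exact (zeroLocus_closedIdeal hA).ge hn
    let J := (closedIdeal A).map (algebraMap A B)
    have : P ∈ Set.range (PrimeSpectrum.comap (Ideal.Quotient.mk J)) := by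
      rw [range_comap_of_surjective _ _ Ideal.Quotient.mk_surjective, Ideal.mk_ker]
      exact hPI
    obtain ⟨P', rfl⟩ := this
    let eq := RingEquiv.ofBijective _ hbij
    refine ⟨_root_.ConnectedComponents.mk (PrimeSpectrum.comap (Ideal.Quotient.mk _)
      (PrimeSpectrum.comap eq.symm.toRingHom P')), ?_⟩
    change _root_.ConnectedComponents.mk _ = _root_.ConnectedComponents.mk n
    congr 1
    rw [← hP]
    refine PrimeSpectrum.ext (Ideal.ext fun a => ?_)
    change eq.symm (Ideal.Quotient.mk _ (algebraMap A C a)) ∈ P'.asIdeal ↔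
      Ideal.Quotient.mk J (algebraMap A B a) ∈ P'.asIdeal
    rw [show Ideal.Quotient.mk _ (algebraMap A C a) = eq (Ideal.Quotient.mk J (algebraMap A B a)) by
      rw [IsScalarTower.algebraMap_apply A B C]; rfl, RingEquiv.symm_apply_apply]
  obtain ⟨σ, hσ, hσπ⟩ := CompactT2.ExtremallyDisconnected.projective (continuous_id (X := _root_.ConnectedComponents (PrimeSpectrum A)))
    (PrimeSpectrum.continuous_comap (algebraMap A C)).connectedComponentsMap_continuous hπ
  let g : C(_root_.ConnectedComponents (PrimeSpectrum A), _root_.ConnectedComponents (PrimeSpectrum C)) :=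
    ⟨σ, hσ⟩
  obtain ⟨e, he⟩ := exists_pullRing_components g
  obtain ⟨hw, hcl'⟩ := isWLocal_pullRing g hwC
  have hz := zarFactors_pullRing g (zarFactors_self C)
  have htow : IsScalarTower A C (pullRing g) := ⟨fun a c x => by
    obtain ⟨x, rfl⟩ := Ideal.Quotient.mk_surjective x
    exact congrArg (Ideal.Quotient.mk (Ideal.span (pullRel g))) (LocallyConstant.ext fun t => smul_assoc a c (x t))⟩
  have hid' : EtPBC.IdentifiesLocalRings A (pullRing g) :=
    identifiesLocalRings_trans hidC hz.identifiesLocalRings
  have hcomp : ∀ y : PrimeSpectrum (pullRing g), PrimeSpectrum.comap (algebraMap A (pullRing g)) y =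
      PrimeSpectrum.comap (algebraMap A C) (PrimeSpectrum.comap (algebraMap C (pullRing g)) y) :=
    fun y => rfl
  have hb := bijective_of_identifies hid' hA hw
    (fun y hy => by rw [hcomp]; exact hwm.2 _ ((hcl' y).mp hy))
    (by
      convert e.bijective
      refine funext fun k => ?_
      obtain ⟨y, rfl⟩ := _root_.ConnectedComponents.surjective_coe k
      rw [he]
      change _root_.ConnectedComponents.mk (PrimeSpectrum.comap (algebraMap A (pullRing g)) y) = _
      have h1 : _root_.ConnectedComponents.mk (PrimeSpectrum.comap (algebraMap C (pullRing g)) y) =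
          σ (pullPair g y).2 := (range_pullPair g).le (Set.mem_range_self y)
      have h2 := congrArg π₀ h1
      exact (show _root_.ConnectedComponents.mk (PrimeSpectrum.comap (algebraMap A (pullRing g)) y) =
        π₀ (_root_.ConnectedComponents.mk (PrimeSpectrum.comap (algebraMap C (pullRing g)) y)) from rfl).trans
        (h2.trans (congrFun hσπ _)))
  exact ⟨((AlgEquiv.ofBijective (Algebra.ofId A (pullRing g)) hb).symm.toAlgHom.comp
    (IsScalarTower.toAlgHom A C (pullRing g))).comp (IsScalarTower.toAlgHom A B C)⟩

end Groth.Agent.WLoc
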