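import Groth.Agent.WLoc.EDLocal
import Groth.Agent.S0702
import Groth.Agent.S9633
import Mathlib.RingTheory.QuasiFinite.Basic
import Mathlib.RingTheory.Spectrum.Prime.Chevalley
import Mathlib.RingTheory.Kaehler.Basic
import Mathlib.FieldTheory.PurelyInseparable.Basic
import Mathlib.FieldTheory.IsAlgClosed.AlgebraicClosure

/-!
# Quasi-finite algebras over rings with profinite spectrum and separably closed residue fields
-/

set_option autoImplicit false
set_option backward.isDefEq.respectTransparency false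

universe u

open TensorProduct

namespace Groth.Agent.WLoc

variable {A B : Type u} [CommRing A] [CommRing B] [Algebra A B]

theorem algebraicResidue_of_quasiFinite [Algebra.QuasiFinite A B] :
    ProEtW.AlgebraicResidueExtensions A B := by
  intro q _
  let p := q.comap (algebraMap A B)
  let κ := p.ResidueField
  let : Algebra κ q.ResidueField := (Ideal.ResidueField.map p q (algebraMap A B) rfl).toAlgebra
  have : IsScalarTower A κ q.ResidueField := IsScalarTower.of_algebraMap_eq fun a => by
    change _ = Ideal.ResidueField.map p q (algebraMap A B) rfl (algebraMap A κ a)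
    rw [Ideal.ResidueField.map_algebraMap]
    rfl
  have : Module.Finite κ (κ ⊗[A] B) := Algebra.QuasiFinite.finite_fiber p
  let Φ : κ ⊗[A] B →ₐ[κ] q.ResidueField :=
    Algebra.TensorProduct.lift (Algebra.ofId κ _) (IsScalarTower.toAlgHom A B _) fun _ _ => .all _ _
  refine ⟨fun z => ?_⟩
  obtain ⟨x, rfl⟩ := Ideal.Quotient.mk_surjective z
  have h1 : IsIntegral κ (algebraMap B q.ResidueField x) := by
    have := (IsIntegral.of_finite κ ((1 : κ) ⊗ₜ[A] x)).map Φ
    simpa [Φ] using this
  let : Algebra (A ⧸ p) q.ResidueField :=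
    ((algebraMap κ q.ResidueField).comp (algebraMap (A ⧸ p) κ)).toAlgebra
  have : IsScalarTower (A ⧸ p) κ q.ResidueField := IsScalarTower.of_algebraMap_eq' rfl
  have h2 : IsAlgebraic (A ⧸ p) (algebraMap B q.ResidueField x) :=
    (IsFractionRing.isAlgebraic_iff (A ⧸ p) κ q.ResidueField).mpr h1.isAlgebraic
  have : IsScalarTower (A ⧸ p) (B ⧸ q) q.ResidueField := IsScalarTower.of_algebraMap_eq fun a => by
    obtain ⟨a', ha'⟩ := Ideal.Quotient.mk_surjective a
    rw [← ha', IsScalarTower.algebraMap_apply (A ⧸ p) κ q.ResidueField]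
    exact (IsScalarTower.algebraMap_apply A κ q.ResidueField a').symm
  exact (isAlgebraic_algebraMap_iff (A := q.ResidueField)
    (IsFractionRing.injective (B ⧸ q) q.ResidueField)).mp h2

/-- embeddings of the residue fields over a common point into a common algebraic closure -/
theorem exists_fibrePoint [Algebra.QuasiFinite A B] (q : PrimeSpectrum B) :
    ∃ σ : B →ₐ[A] AlgebraicClosure (q.asIdeal.comap (algebraMap A B)).ResidueField,
      RingHom.ker σ = q.asIdeal := by
  let p := q.asIdeal.comap (algebraMap A B)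
  let κ := p.ResidueField
  let : Algebra κ q.asIdeal.ResidueField :=
    (Ideal.ResidueField.map p q.asIdeal (algebraMap A B) rfl).toAlgebra
  have : IsScalarTower A κ q.asIdeal.ResidueField := IsScalarTower.of_algebraMap_eq fun a => by
    change _ = Ideal.ResidueField.map p q.asIdeal (algebraMap A B) rfl (algebraMap A κ a)
    rw [Ideal.ResidueField.map_algebraMap]
    rfl
  have : Module.Finite κ (κ ⊗[A] B) := Algebra.QuasiFinite.finite_fiber p
  let Φ : κ ⊗[A] B →ₐ[κ] q.asIdeal.ResidueField :=
    Algebra.TensorProduct.lift (Algebra.ofId κ _) (IsScalarTower.toAlgHom A B _) fun _ _ => .all _ _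
  have h1 : ∀ x, IsIntegral κ (algebraMap B q.asIdeal.ResidueField x) := fun x => by
    have := (IsIntegral.of_finite κ ((1 : κ) ⊗ₜ[A] x)).map Φ
    simpa [Φ] using this
  have : Algebra.IsAlgebraic κ q.asIdeal.ResidueField := ⟨fun z => by
    obtain ⟨s, t, ht, rfl⟩ := IsFractionRing.div_surjective (A := B ⧸ q.asIdeal) z
    obtain ⟨s, rfl⟩ := Ideal.Quotient.mk_surjective s
    obtain ⟨t, rfl⟩ := Ideal.Quotient.mk_surjective t
    rw [div_eq_mul_inv]
    exact (h1 s).isAlgebraic.mul (h1 t).isAlgebraic.inv⟩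
  have : Module.IsTorsionFree κ q.asIdeal.ResidueField :=
    ⟨fun c hc x y hxy => (IsUnit.mk0 c hc.ne_zero).smul_left_cancel.mp hxy⟩
  let j : q.asIdeal.ResidueField →ₐ[κ] AlgebraicClosure κ := IsAlgClosed.lift
  refine ⟨(j.restrictScalars A).comp (IsScalarTower.toAlgHom A B q.asIdeal.ResidueField), Ideal.ext fun x => ?_⟩
  rw [RingHom.mem_ker]
  exact (map_eq_zero j).trans Ideal.algebraMap_residueField_eq_zero

/-- the fibres of `Spec (B ⊗ B)` over the diagonal are points -/
theorem ker_lmul_le [Algebra.QuasiFinite A B]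
    (hres : ∀ p : PrimeSpectrum A, IsSepClosed p.asIdeal.ResidueField)
    (P : PrimeSpectrum (B ⊗[A] B))
    (h : PrimeSpectrum.comap (Algebra.TensorProduct.includeLeft (R := A) (S := A) (A := B) (B := B)).toRingHom P =
      PrimeSpectrum.comap (Algebra.TensorProduct.includeRight (R := A) (A := B) (B := B)).toRingHom P) :
    RingHom.ker (Algebra.TensorProduct.lmul' A (S := B)) ≤ P.asIdeal := by
  let p := P.asIdeal.comap (algebraMap A (B ⊗[A] B))
  let κ := p.ResidueField
  have := hres ⟨p, inferInstance⟩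
  have : Algebra.QuasiFinite A (B ⊗[A] B) := Algebra.QuasiFinite.trans A B (B ⊗[A] B)
  obtain ⟨σ, hσ⟩ := exists_fibrePoint (A := A) P
  change B ⊗[A] B →ₐ[A] AlgebraicClosure κ at σ
  let σl := σ.comp (Algebra.TensorProduct.includeLeft (R := A) (S := A) (A := B) (B := B))
  let σr := σ.comp (Algebra.TensorProduct.includeRight (R := A) (A := B) (B := B))
  let q := (PrimeSpectrum.comap
    (Algebra.TensorProduct.includeLeft (R := A) (S := A) (A := B) (B := B)).toRingHom P).asIdeal
  have hkl : RingHom.ker σl = q := Ideal.ext fun x =>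
    show σ _ = 0 ↔ _ from RingHom.mem_ker.symm.trans (Ideal.ext_iff.mp hσ _)
  have hkr : RingHom.ker σr = q := Ideal.ext fun x => by
    change _ ↔ x ∈ (PrimeSpectrum.comap _ P).asIdeal
    rw [h]
    exact (show σ _ = 0 ↔ _ from RingHom.mem_ker.symm.trans (Ideal.ext_iff.mp hσ _))
  have hlr : σl = σr := by
    let ρl : q.ResidueField →ₐ[A] AlgebraicClosure κ :=
      Ideal.ResidueField.liftₐ q σl (le_of_eq hkl.symm) fun x hx => by
        refine IsUnit.mk0 _ fun h0 => hx ?_
        exact hkl.le h0
    let ρr : q.ResidueField →ₐ[A] AlgebraicClosure κ :=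
      Ideal.ResidueField.liftₐ q σr (le_of_eq hkr.symm) fun x hx => by
        refine IsUnit.mk0 _ fun h0 => hx ?_
        exact hkr.le h0
    have hp : q.comap (algebraMap A B) = p := by
      ext a
      change Algebra.TensorProduct.includeLeft (R := A) (S := A) (A := B) (B := B) (algebraMap A B a) ∈ P.asIdeal ↔ _
      rw [AlgHom.commutes]
      rfl
    let : Algebra κ q.ResidueField := (Ideal.ResidueField.map p q (algebraMap A B) hp.symm).toAlgebra
    have : IsScalarTower A κ q.ResidueField := IsScalarTower.of_algebraMap_eq fun a => by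
      change _ = Ideal.ResidueField.map p q (algebraMap A B) hp.symm (algebraMap A κ a)
      rw [Ideal.ResidueField.map_algebraMap]
      rfl
    let mk : (q.ResidueField →ₐ[A] AlgebraicClosure κ) → (q.ResidueField →ₐ[κ] AlgebraicClosure κ) :=
      fun ρ => AlgHom.mk ρ.toRingHom fun z => by
        have : ρ.toRingHom.comp (algebraMap κ q.ResidueField) = algebraMap κ (AlgebraicClosure κ) := by
          refine Ideal.ResidueField.ringHom_ext ?_
          ext a
          simp only [RingHom.coe_comp, Function.comp_apply]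
          exact (congrArg ρ (IsScalarTower.algebraMap_apply A κ q.ResidueField a).symm).trans
            ((ρ.commutes a).trans (IsScalarTower.algebraMap_apply A κ (AlgebraicClosure κ) a))
        exact RingHom.congr_fun this z
    have : Algebra.IsAlgebraic κ q.ResidueField :=
      Algebra.IsAlgebraic.of_injective (mk ρl) (mk ρl).toRingHom.injective
    have hρ : mk ρl = mk ρr := Subsingleton.elim _ _
    refine AlgHom.ext fun x => ?_
    have := DFunLike.congr_fun hρ (algebraMap B q.ResidueField x)
    change ρl (algebraMap B _ x) = ρr (algebraMap B _ x) at this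
    rwa [Ideal.ResidueField.liftₐ_algebraMap, Ideal.ResidueField.liftₐ_algebraMap] at this
  have hfac : σ = σl.comp (Algebra.TensorProduct.lmul' A (S := B)) := by
    refine Algebra.TensorProduct.ext' fun s t => ?_
    rw [AlgHom.comp_apply, Algebra.TensorProduct.lmul'_apply_tmul, map_mul]
    conv_rhs => arg 2; rw [hlr]
    simp only [σl, σr, AlgHom.comp_apply, Algebra.TensorProduct.includeLeft_apply,
      Algebra.TensorProduct.includeRight_apply, ← map_mul, Algebra.TensorProduct.tmul_mul_tmul,
      mul_one, one_mul]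
  intro x hx
  rw [← hσ, RingHom.mem_ker, hfac, AlgHom.comp_apply, RingHom.mem_ker.mp hx, map_zero]

theorem extremallyDisconnected_of_quasiFinite [Algebra.QuasiFinite A B] [Algebra.FinitePresentation A B]
    (hres : ∀ p : PrimeSpectrum A, IsSepClosed p.asIdeal.ResidueField)
    [T2Space (PrimeSpectrum A)] [ExtremallyDisconnected (PrimeSpectrum A)] :
    ExtremallyDisconnected (PrimeSpectrum B) := by
  classical
  have hA := ((Groth.Agent.S9633.result (R := A)).out 1 0).mp (inferInstance : T2Space (PrimeSpectrum A))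
  have : TotallyDisconnectedSpace (PrimeSpectrum A) := hA.2.2
  obtain ⟨_, hT2, htd⟩ := Groth.Agent.S0702.result A B algebraicResidue_of_quasiFinite
  let f := PrimeSpectrum.comap (algebraMap A B)
  have hfc : Continuous f := PrimeSpectrum.continuous_comap _
  have hclosedA : ∀ {W : Set (PrimeSpectrum A)}, Topology.IsConstructible W → IsClopen W := by
    intro W hW
    have hstab : ∀ {x y : PrimeSpectrum A}, x ⤳ y → x = y := fun h => h.eq
    refine ⟨PrimeSpectrum.isClosed_of_stableUnderSpecialization_of_isConstructible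
      (fun x y h hx => hstab h ▸ hx) hW, ?_⟩
    rw [← isClosed_compl_iff]
    exact PrimeSpectrum.isClosed_of_stableUnderSpecialization_of_isConstructible
      (fun x y h hx => hstab h ▸ hx) hW.compl
  have hfp : (algebraMap A B).FinitePresentation := RingHom.finitePresentation_algebraMap.mpr ‹_›
  have himage : ∀ {W : Set (PrimeSpectrum B)}, IsClopen W → IsClopen (f '' W) := fun {W} hW =>
    hclosedA (PrimeSpectrum.isConstructible_comap_image hfp
      ((hW.isClosed.isCompact).isConstructible hW.isOpen))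
  refine extremallyDisconnected_of_locally f fun q => ?_
  -- isolate `q` in its fibre
  have hfin : (f ⁻¹' {f q} \ {q}).Finite :=
    (Algebra.QuasiFinite.finite_comap_preimage_singleton (f q)).sdiff
  obtain ⟨U, hU, hqU, hUF⟩ := (isTopologicalBasis_isClopen (X := PrimeSpectrum B)).exists_subset_of_mem_open
    (show q ∈ (f ⁻¹' {f q} \ {q})ᶜ from fun h => h.2 rfl) hfin.isClosed.isOpen_compl
  obtain ⟨e, he, hUe⟩ := PrimeSpectrum.isClopen_iff.mp hU
  -- pairs of distinct points
  let iL := (Algebra.TensorProduct.includeLeft (R := A) (S := A) (A := B) (B := B)).toRingHom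
  let iR := (Algebra.TensorProduct.includeRight (R := A) (A := B) (B := B)).toRingHom
  let K := RingHom.ker (Algebra.TensorProduct.lmul' A (S := B))
  have hKfg : K.FG := KaehlerDifferential.ideal_fg A B
  let Z : Set (PrimeSpectrum (B ⊗[A] B)) :=
    (PrimeSpectrum.basicOpen (iL e * iR e) : Set _) ∩ (PrimeSpectrum.zeroLocus (K : Set (B ⊗[A] B)))ᶜ
  have hZ : Topology.IsConstructible Z := by
    refine Topology.IsConstructible.inter ((PrimeSpectrum.isCompact_basicOpen _).isConstructible
      (PrimeSpectrum.basicOpen _).isOpen) ?_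
    exact ((PrimeSpectrum.isCompact_isOpen_iff_ideal).mpr ⟨K, hKfg, rfl⟩).1.isConstructible
      (PrimeSpectrum.isClosed_zeroLocus _).isOpen_compl
  have hfp2 : (algebraMap A (B ⊗[A] B)).FinitePresentation :=
    RingHom.finitePresentation_algebraMap.mpr (Algebra.FinitePresentation.trans A B (B ⊗[A] B))
  let Y := PrimeSpectrum.comap (algebraMap A (B ⊗[A] B)) '' Z
  have hY : IsClopen Y := hclosedA (PrimeSpectrum.isConstructible_comap_image hfp2 hZ)
  have hfst : ∀ P, f (PrimeSpectrum.comap iL P) = PrimeSpectrum.comap (algebraMap A (B ⊗[A] B)) P ∧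
      f (PrimeSpectrum.comap iR P) = PrimeSpectrum.comap (algebraMap A (B ⊗[A] B)) P := fun P => by
    refine ⟨?_, ?_⟩ <;>
    · simp only [f, ← PrimeSpectrum.comap_comp_apply]
      congr 1
      try (ext a; exact AlgHom.commutes (Algebra.TensorProduct.includeRight (R := A) (A := B) (B := B)) a)
  have hqY : f q ∉ Y := by
    rintro ⟨P, ⟨hPe, hPK⟩, hP⟩
    have hP' : iL e * iR e ∉ P.asIdeal := hPe
    have key : ∀ (r : PrimeSpectrum B), f r = f q → e ∉ r.asIdeal → r = q := fun r hr her => by
      by_contra hne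
      exact hUF (show r ∈ U by rw [hUe]; exact her) ⟨hr, hne⟩
    have h1 := key (PrimeSpectrum.comap iL P) ((hfst P).1.trans hP) fun h =>
      hP' (Ideal.mul_mem_right _ _ h)
    have h2 := key (PrimeSpectrum.comap iR P) ((hfst P).2.trans hP) fun h =>
      hP' (Ideal.mul_mem_left _ _ h)
    exact hPK (ker_lmul_le hres P (h1.trans h2.symm))
  let U' := U ∩ f ⁻¹' Yᶜ
  have hU' : IsClopen U' := hU.inter (hY.compl.preimage hfc)
  refine ⟨U', hU'.isOpen, ⟨hqU, hqY⟩, ?_⟩
  have hinj : Function.Injective (U'.domRestrict f) := by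
    rintro ⟨q₁, hq₁⟩ ⟨q₂, hq₂⟩ (h12 : f q₁ = f q₂)
    by_contra hne
    have hne' : q₁ ≠ q₂ := fun h => hne (Subtype.ext h)
    obtain ⟨σ₁, hσ₁⟩ := exists_fibrePoint (A := A) q₁
    obtain ⟨σ₂, hσ₂⟩ := exists_fibrePoint (A := A) q₂
    -- transport to one algebraic closure
    have hp : q₂.asIdeal.comap (algebraMap A B) = q₁.asIdeal.comap (algebraMap A B) :=
      congrArg PrimeSpectrum.asIdeal h12.symm
    obtain ⟨σ₂', hσ₂'⟩ : ∃ σ : B →ₐ[A] AlgebraicClosure (q₁.asIdeal.comap (algebraMap A B)).ResidueField,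
        RingHom.ker σ = q₂.asIdeal := by
      have gen : ∀ (I J : Ideal A) [I.IsPrime] [J.IsPrime], I = J →
          ∀ σ : B →ₐ[A] AlgebraicClosure I.ResidueField,
          ∃ σ' : B →ₐ[A] AlgebraicClosure J.ResidueField, RingHom.ker σ' = RingHom.ker σ := by
        intro I J _ _ h σ
        subst h
        exact ⟨σ, rfl⟩
      obtain ⟨σ, h⟩ := gen _ _ hp σ₂
      exact ⟨σ, h.trans hσ₂⟩
    let PM := Algebra.TensorProduct.productMap σ₁ σ₂'
    let P : PrimeSpectrum (B ⊗[A] B) := ⟨RingHom.ker PM, RingHom.ker_isPrime _⟩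
    have hl : ∀ x, iL x ∈ P.asIdeal ↔ x ∈ q₁.asIdeal := fun x => by
      rw [← hσ₁, RingHom.mem_ker, RingHom.mem_ker]
      change PM (x ⊗ₜ 1) = 0 ↔ _
      simp [PM]
    have hr : ∀ x, iR x ∈ P.asIdeal ↔ x ∈ q₂.asIdeal := fun x => by
      rw [← hσ₂', RingHom.mem_ker, RingHom.mem_ker]
      change PM ((1 : B) ⊗ₜ x) = 0 ↔ _
      simp [PM]
    have hPl : PrimeSpectrum.comap iL P = q₁ := PrimeSpectrum.ext (Ideal.ext hl)
    refine hq₁.2 ⟨P, ⟨?_, fun hK => hne' ?_⟩, by rw [← (hfst P).1, hPl]⟩
    · have e1 : e ∉ q₁.asIdeal := (Set.ext_iff.mp hUe q₁).mp hq₁.1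
      have e2 : e ∉ q₂.asIdeal := (Set.ext_iff.mp hUe q₂).mp hq₂.1
      exact fun h => (P.2.mem_or_mem h).elim (fun h => e1 ((hl e).mp h)) fun h => e2 ((hr e).mp h)
    · refine PrimeSpectrum.ext (Ideal.ext fun x => ?_)
      have hx : iL x - iR x ∈ P.asIdeal := hK (show iL x - iR x ∈ K by
        simp [K, iL, iR, RingHom.mem_ker])
      rw [← hl, ← hr]
      exact ⟨fun h => by simpa using sub_mem h hx, fun h => by simpa using add_mem hx h⟩
  have hcont : Continuous (U'.domRestrict f) := hfc.comp continuous_subtype_val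
  have : CompactSpace U' := isCompact_iff_compactSpace.mp hU'.isClosed.isCompact
  refine ⟨(hcont.isClosedEmbedding hinj).isEmbedding, ?_⟩
  rw [Set.range_domRestrict]
  exact (himage hU').isOpen

end Groth.Agent.WLoc
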