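import Groth.Agent.WLoc.WContr
import Groth.Agent.WLoc.QFSep
import Groth.Agent.S14620
import Groth.Agent.Hensel.Henselization

/-!
# Finite algebras over w-contractible rings
-/

set_option autoImplicit false
set_option backward.isDefEq.respectTransparency false

universe u

open TensorProduct

namespace Groth.Agent.WLoc

/-- in a w-local ring the map to the local ring at a closed point is surjective -/
theorem surjective_localization_closedPoint {B : Type u} [CommRing B]
    (hB : ProEtW.IsWLocal (PrimeSpectrum B)) (M : Ideal B) [hM : M.IsMaximal] :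
    Function.Surjective (algebraMap B (Localization.AtPrime M)) := by
  classical
  have hb := Spectral.bijective_of_unique_closedPoint hB.2.1 hB.2.2
  have hMc : IsClosed ({(⟨M, hM.isPrime⟩ : PrimeSpectrum B)} : Set (PrimeSpectrum B)) :=
    (PrimeSpectrum.isClosed_singleton_iff_isMaximal _).mpr hM
  have key : ∀ s ∉ M, ∃ e c, e ∉ M ∧ IsIdempotentElem e ∧ e = e * (s * c) := by
    intro s hs
    let F := _root_.ConnectedComponents.mk '' (PrimeSpectrum.zeroLocus {s} ∩ {x | IsClosed ({x} : Set (PrimeSpectrum B))})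
    have hF : IsClosed F :=
      (((PrimeSpectrum.isClosed_zeroLocus {s}).inter hB.2.1).isCompact.image
        _root_.ConnectedComponents.continuous_coe).isClosed
    have hMF : _root_.ConnectedComponents.mk (⟨M, hM.isPrime⟩ : PrimeSpectrum B) ∉ F := by
      rintro ⟨x, ⟨hxs, hxc⟩, hx⟩
      have h := congrArg Subtype.val (@hb.1 ⟨x, hxc⟩ ⟨_, hMc⟩ hx)
      exact hs ((congrArg PrimeSpectrum.asIdeal h).le (hxs (Set.mem_singleton s)))
    obtain ⟨V, hV, hMV, hVF⟩ := (isTopologicalBasis_isClopen
      (X := _root_.ConnectedComponents (PrimeSpectrum B))).exists_subset_of_mem_open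
      (Set.mem_compl hMF) hF.isOpen_compl
    obtain ⟨e, he, hWe⟩ := PrimeSpectrum.isClopen_iff.mp
      (hV.preimage _root_.ConnectedComponents.continuous_coe)
    have heM : e ∉ M := (Set.ext_iff.mp hWe ⟨M, hM.isPrime⟩).mp hMV
    have htop : Ideal.span {s, 1 - e} = ⊤ := by
      by_contra h
      obtain ⟨N, hN, hle⟩ := Ideal.exists_le_maximal _ h
      have hsN : s ∈ N := hle (Ideal.subset_span (by simp))
      have heN : e ∉ N := fun h' => hN.ne_top ((Ideal.eq_top_iff_one _).mpr
        (by simpa using add_mem (hle (Ideal.subset_span (by simp : (1 - e) ∈ ({s, 1 - e} : Set B)))) h'))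
      exact hVF ((Set.ext_iff.mp hWe ⟨N, hN.isPrime⟩).mpr heN)
        ⟨⟨N, hN.isPrime⟩, ⟨Set.singleton_subset_iff.mpr hsN,
          (PrimeSpectrum.isClosed_singleton_iff_isMaximal _).mpr hN⟩, rfl⟩
    obtain ⟨a, b, hab⟩ := Ideal.mem_span_pair.mp (htop.ge (Submodule.mem_top : (1 : B) ∈ ⊤))
    exact ⟨e, a, heM, he, by linear_combination -e * hab - b * he.eq⟩
  intro z
  obtain ⟨x, ⟨s, hs⟩, rfl⟩ := IsLocalization.exists_mk'_eq M.primeCompl z
  obtain ⟨e, c, heM, he, hesc⟩ := key s hs
  refine ⟨x * c, ?_⟩
  rw [IsLocalization.eq_mk'_iff_mul_eq, ← map_mul, IsLocalization.eq_iff_exists M.primeCompl]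
  exact ⟨⟨e, heM⟩, by simp only; linear_combination -x * hesc⟩

variable {A B : Type u} [CommRing A] [CommRing B] [Algebra A B]

theorem isWContractible_of_finite [Module.Finite A B] [Algebra.FinitePresentation A B]
    (hA : EtPBC.IsWContractible A) : EtPBC.IsWContractible B := by
  obtain ⟨hwA, hE, hsh⟩ := isWContractible_iff.mp hA
  let f := PrimeSpectrum.comap (algebraMap A B)
  have hfc : Continuous f := PrimeSpectrum.continuous_comap _
  have hcl : ∀ y : PrimeSpectrum B, IsClosed ({y} : Set (PrimeSpectrum B)) ↔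
      IsClosed ({f y} : Set (PrimeSpectrum A)) := fun y => by
    rw [PrimeSpectrum.isClosed_singleton_iff_isMaximal, PrimeSpectrum.isClosed_singleton_iff_isMaximal]
    exact ⟨fun h => Ideal.isMaximal_comap_of_isIntegral_of_isMaximal y.asIdeal,
      fun h => Ideal.isMaximal_of_isIntegral_of_isMaximal_comap _ h⟩
  -- two closed points with a common generalisation coincide
  have huniq : ∀ q y₁ y₂ : PrimeSpectrum B, IsClosed ({y₁} : Set (PrimeSpectrum B)) →
      IsClosed ({y₂} : Set (PrimeSpectrum B)) → q ⤳ y₁ → q ⤳ y₂ → y₁ = y₂ := by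
    intro q y₁ y₂ h₁ h₂ hq₁ hq₂
    obtain ⟨n, -, hn⟩ := hwA.2.2 (f q)
    have e₁ := hn _ ⟨(hcl _).mp h₁, hq₁.map hfc⟩
    have e₂ := hn _ ⟨(hcl _).mp h₂, hq₂.map hfc⟩
    have hnc : IsClosed ({n} : Set (PrimeSpectrum A)) := e₁ ▸ (hcl _).mp h₁
    have : n.asIdeal.IsMaximal := (PrimeSpectrum.isClosed_singleton_iff_isMaximal _).mp hnc
    obtain ⟨_, _⟩ := hsh n.asIdeal
    let Sn := Algebra.algebraMapSubmonoid (B ⧸ q.asIdeal) n.asIdeal.primeCompl
    have hqy : ∀ y : PrimeSpectrum B, q ⤳ y → f y = n →
        Disjoint (Sn : Set (B ⧸ q.asIdeal)) ((y.asIdeal.map (Ideal.Quotient.mk q.asIdeal) : Ideal _) : Set (B ⧸ q.asIdeal)) := by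
      intro y hy hfy
      rw [Set.disjoint_left]
      rintro _ ⟨a, ha, rfl⟩ h
      refine ha ((congrArg PrimeSpectrum.asIdeal hfy).le ?_)
      have := (Ideal.mem_quotient_iff_mem ((PrimeSpectrum.le_iff_specializes _ _).mpr hy)
        (x := algebraMap A B a)).mp h
      exact this
    have h0 : Sn ≤ nonZeroDivisors (B ⧸ q.asIdeal) := by
      rintro x hx
      refine mem_nonZeroDivisors_of_ne_zero fun h => ?_
      exact Set.disjoint_left.mp (hqy y₁ hq₁ e₁) hx (h ▸ zero_mem _)
    let R := Localization Sn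
    let : Algebra (Localization.AtPrime n.asIdeal) R :=
      localizationAlgebra n.asIdeal.primeCompl (B ⧸ q.asIdeal)
    have : IsDomain R := IsLocalization.isDomain_of_le_nonZeroDivisors _ h0
    have : Algebra.IsIntegral (Localization.AtPrime n.asIdeal) R :=
      ⟨isIntegral_localization (R := A) (S := B ⧸ q.asIdeal) (M := n.asIdeal.primeCompl)⟩
    have : IsLocalRing R := WEtale.Olivier.isLocalRing_of_isIntegral (A := Localization.AtPrime n.asIdeal)
    have hmx : ∀ y : PrimeSpectrum B, IsClosed ({y} : Set (PrimeSpectrum B)) → q ⤳ y → f y = n →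
        ((y.asIdeal.map (Ideal.Quotient.mk q.asIdeal)).map (algebraMap (B ⧸ q.asIdeal) R)) = IsLocalRing.maximalIdeal R ∧
          ((y.asIdeal.map (Ideal.Quotient.mk q.asIdeal)).map (algebraMap (B ⧸ q.asIdeal) R)).comap
            (algebraMap (B ⧸ q.asIdeal) R) = y.asIdeal.map (Ideal.Quotient.mk q.asIdeal) := by
      intro y hyc hy hfy
      have hyq : q.asIdeal ≤ y.asIdeal := (PrimeSpectrum.le_iff_specializes _ _).mpr hy
      have : (y.asIdeal.map (Ideal.Quotient.mk q.asIdeal)).IsPrime :=
        Ideal.map_isPrime_of_surjective Ideal.Quotient.mk_surjective (by rwa [Ideal.mk_ker])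
      have hymax : (y.asIdeal.map (Ideal.Quotient.mk q.asIdeal)).IsMaximal := by
        have := (PrimeSpectrum.isClosed_singleton_iff_isMaximal _).mp hyc
        exact (Ideal.map_eq_top_or_isMaximal_of_surjective _ Ideal.Quotient.mk_surjective this).resolve_left
          (Ideal.IsPrime.ne_top ‹_›)
      have hprime := IsLocalization.isPrime_of_isPrime_disjoint Sn R _ ‹_› (hqy y hy hfy)
      have hcomap := IsLocalization.comap_map_of_isPrime_disjoint Sn R ‹_› (hqy y hy hfy)
      refine ⟨IsLocalRing.eq_maximalIdeal ?_, hcomap⟩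
      refine Ideal.isMaximal_iff.mpr ⟨(Ideal.ne_top_iff_one _).mp hprime.ne_top, fun J x hJ hx hxJ => ?_⟩
      by_contra h1
      have hJne : J ≠ ⊤ := (Ideal.ne_top_iff_one _).mpr h1
      have hle := Ideal.comap_mono (f := algebraMap (B ⧸ q.asIdeal) R) hJ
      replace hle := (le_of_eq hcomap.symm).trans hle
      have heq := hymax.eq_of_le (Ideal.comap_ne_top _ hJne) hle
      exact hx (by rw [heq, IsLocalization.map_comap Sn R J]; exact hxJ)
    obtain ⟨m₁, c₁⟩ := hmx y₁ h₁ hq₁ e₁
    obtain ⟨m₂, c₂⟩ := hmx y₂ h₂ hq₂ e₂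
    have := c₁.symm.trans ((congrArg (Ideal.comap _) (m₁.trans m₂.symm)).trans c₂)
    refine PrimeSpectrum.ext ?_
    have := congrArg (Ideal.comap (Ideal.Quotient.mk q.asIdeal)) this
    rwa [Ideal.comap_map_of_surjective' _ Ideal.Quotient.mk_surjective,
      Ideal.comap_map_of_surjective' _ Ideal.Quotient.mk_surjective, Ideal.mk_ker,
      sup_eq_left.mpr ((PrimeSpectrum.le_iff_specializes _ _).mpr hq₁),
      sup_eq_left.mpr ((PrimeSpectrum.le_iff_specializes _ _).mpr hq₂)] at this
  have hwB : ProEtW.IsWLocal (PrimeSpectrum B) := by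
    refine ⟨inferInstance, ?_, fun q => ?_⟩
    · simp only [hcl]
      exact hwA.2.1.preimage hfc
    · obtain ⟨y, hy, hqy⟩ := Spectral.exists_closedPoint_specializes q
      exact ⟨y, ⟨hy, hqy⟩, fun z hz => huniq q z y hz.1 hy hz.2 hqy⟩
  refine isWContractible_iff.mpr ⟨hwB, ?_, fun M _ => ?_⟩
  · -- the closed points of `B` are the spectrum of `A ⧸ I ⊗ B`
    let I := closedIdeal A
    let D := (A ⧸ I) ⊗[A] B
    have hbA := Spectral.bijective_of_unique_closedPoint hwA.2.1 hwA.2.2
    have hmaxA : ∀ P : PrimeSpectrum (A ⧸ I), IsClosed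
        ({PrimeSpectrum.comap (Ideal.Quotient.mk I) P} : Set (PrimeSpectrum A)) := fun P =>
      (zeroLocus_closedIdeal hwA).le fun x hx => by
        change Ideal.Quotient.mk I x ∈ P.asIdeal
        rw [Ideal.Quotient.eq_zero_iff_mem.mpr hx]; exact zero_mem _
    have hembA := PrimeSpectrum.isClosedEmbedding_comap_of_surjective _ (Ideal.Quotient.mk I)
      Ideal.Quotient.mk_surjective
    have : T2Space (PrimeSpectrum (A ⧸ I)) :=
      ((Groth.Agent.S9633.result (R := A ⧸ I)).out 5 1).mp fun p hp =>
        (isVNR_quotient_closedIdeal hwA).isMaximal p (hp := hp)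
    have : ExtremallyDisconnected (PrimeSpectrum (A ⧸ I)) := by
      let φ : PrimeSpectrum (A ⧸ I) → _root_.ConnectedComponents (PrimeSpectrum A) := fun P =>
        _root_.ConnectedComponents.mk (PrimeSpectrum.comap (Ideal.Quotient.mk I) P)
      have hφ : Function.Bijective φ := by
        refine ⟨fun P Q h => hembA.injective (congrArg Subtype.val (@hbA.1 ⟨_, hmaxA P⟩ ⟨_, hmaxA Q⟩ h)), fun c => ?_⟩
        obtain ⟨⟨x, hx⟩, rfl⟩ := hbA.2 c
        have : x ∈ Set.range (PrimeSpectrum.comap (Ideal.Quotient.mk I)) := by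
          rw [range_comap_of_surjective _ _ Ideal.Quotient.mk_surjective, Ideal.mk_ker]
          exact (zeroLocus_closedIdeal hwA).ge hx
        obtain ⟨P, rfl⟩ := this
        exact ⟨P, rfl⟩
      have hc : Continuous φ := _root_.ConnectedComponents.continuous_coe.comp (PrimeSpectrum.continuous_comap _)
      exact extremallyDisconnected_of_homeo (hc.homeoOfEquivCompactToT2 (f := Equiv.ofBijective φ hφ)).symm
    have hres : ∀ P : PrimeSpectrum (A ⧸ I), IsSepClosed P.asIdeal.ResidueField := by
      intro P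
      have := (isVNR_quotient_closedIdeal hwA).isMaximal P.asIdeal
      let n := (PrimeSpectrum.comap (Ideal.Quotient.mk I) P).asIdeal
      have : n.IsMaximal := (PrimeSpectrum.isClosed_singleton_iff_isMaximal _).mp (hmaxA P)
      obtain ⟨_, _⟩ := hsh n
      let φ := Ideal.ResidueField.map n P.asIdeal (Ideal.Quotient.mk I) rfl
      have : IsSepClosed n.ResidueField := ‹_›
      refine Hensel.isSepClosed_of_ringEquiv (RingEquiv.ofBijective φ ⟨φ.injective, fun z => ?_⟩)
      obtain ⟨x, rfl⟩ := ((Ideal.bijective_algebraMap_quotient_residueField P.asIdeal).surjective.comp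
        (Ideal.Quotient.mk_surjective.comp Ideal.Quotient.mk_surjective)) z
      exact ⟨algebraMap A n.ResidueField x, by rw [Ideal.ResidueField.map_algebraMap]; rfl⟩
    have : ExtremallyDisconnected (PrimeSpectrum D) := extremallyDisconnected_of_quasiFinite (A := A ⧸ I) hres
    let π := (Algebra.TensorProduct.includeRight (R := A) (A := A ⧸ I) (B := B)).toRingHom
    let ψ : PrimeSpectrum D → _root_.ConnectedComponents (PrimeSpectrum B) := fun P =>
      _root_.ConnectedComponents.mk (PrimeSpectrum.comap π P)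
    have hbB := Spectral.bijective_of_unique_closedPoint hwB.2.1 hwB.2.2
    have hπ : Function.Surjective π := fun z => by
      induction z with
      | zero => exact ⟨0, map_zero _⟩
      | add z w hz hw =>
        obtain ⟨a, rfl⟩ := hz
        obtain ⟨b, rfl⟩ := hw
        exact ⟨a + b, map_add _ _ _⟩
      | tmul a b =>
        obtain ⟨a, rfl⟩ := Ideal.Quotient.mk_surjective a
        refine ⟨algebraMap A B a * b, ?_⟩
        change (1 : A ⧸ I) ⊗ₜ[A] (algebraMap A B a * b) = _
        rw [← Algebra.smul_def, ← TensorProduct.smul_tmul, Algebra.smul_def, mul_one]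
        rfl
    have hclD : ∀ P : PrimeSpectrum D, IsClosed ({PrimeSpectrum.comap π P} : Set (PrimeSpectrum B)) := by
      intro P
      refine (hcl _).mpr ?_
      have := hmaxA (PrimeSpectrum.comap (algebraMap (A ⧸ I) D) P)
      convert this using 2
      simp only [f, ← PrimeSpectrum.comap_comp_apply]
      congr 1
      ext a
      exact (Algebra.TensorProduct.includeRight (R := A) (A := A ⧸ I) (B := B)).commutes a
    have hψ : Function.Bijective ψ := by
      refine ⟨fun P Q h => PrimeSpectrum.comap_injective_of_surjective _ hπ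
        (congrArg Subtype.val (@hbB.1 ⟨_, hclD P⟩ ⟨_, hclD Q⟩ h)), fun c => ?_⟩
      obtain ⟨⟨y, hy⟩, rfl⟩ := hbB.2 c
      have hI : I ≤ RingHom.ker ((Ideal.Quotient.mkₐ A y.asIdeal).comp (Algebra.ofId A B)) := fun a ha => by
        rw [RingHom.mem_ker]
        exact Ideal.Quotient.eq_zero_iff_mem.mpr ((zeroLocus_closedIdeal hwA).ge ((hcl y).mp hy) ha)
      let χ : D →ₐ[A] B ⧸ y.asIdeal := Algebra.TensorProduct.lift
        (Ideal.Quotient.liftₐ I ((Ideal.Quotient.mkₐ A y.asIdeal).comp (Algebra.ofId A B)) hI)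
        (Ideal.Quotient.mkₐ A y.asIdeal) fun _ _ => .all _ _
      refine ⟨⟨RingHom.ker χ, RingHom.ker_isPrime _⟩, congrArg _root_.ConnectedComponents.mk
        (PrimeSpectrum.ext (Ideal.ext fun b => ?_))⟩
      change χ ((1 : A ⧸ I) ⊗ₜ b) = 0 ↔ _
      dsimp only [χ]
      rw [Algebra.TensorProduct.lift_tmul, map_one, one_mul]
      exact Ideal.Quotient.eq_zero_iff_mem
    have hc : Continuous ψ := _root_.ConnectedComponents.continuous_coe.comp (PrimeSpectrum.continuous_comap _)
    exact extremallyDisconnected_of_homeo (hc.homeoOfEquivCompactToT2 (f := Equiv.ofBijective ψ hψ))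
  · -- strict henselianity
    let n := M.comap (algebraMap A B)
    have : n.IsMaximal := Ideal.isMaximal_comap_of_isIntegral_of_isMaximal M
    obtain ⟨_, _⟩ := hsh n
    let φ := Localization.localRingHom n M (algebraMap A B) rfl
    have : IsLocalHom φ := Localization.isLocalHom_localRingHom n M (algebraMap A B) rfl
    refine Groth.Agent.S14620.result φ ?_ (hsh n)
    let : Algebra (Localization.AtPrime n) (Localization.AtPrime M) := φ.toAlgebra
    have : IsScalarTower A (Localization.AtPrime n) (Localization.AtPrime M) :=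
      IsScalarTower.of_algebraMap_eq fun a => by
        rw [IsScalarTower.algebraMap_apply A B (Localization.AtPrime M)]
        exact (Localization.localRingHom_to_map n M (algebraMap A B) rfl a).symm
    have : Module.Finite A (Localization.AtPrime M) := Module.Finite.of_surjective
      (IsScalarTower.toAlgHom A B (Localization.AtPrime M)).toLinearMap
      (surjective_localization_closedPoint hwB M)
    exact Module.Finite.of_restrictScalars_finite A (Localization.AtPrime n) (Localization.AtPrime M)

end Groth.Agent.WLoc
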