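import Groth.Agent.WLoc.Basic
import Mathlib.RingTheory.LocalRing.ResidueField.Ideal
import Mathlib.RingTheory.Flat.FaithfullyFlat.Algebra
import Mathlib.RingTheory.KrullDimension.Zero

/-!
# The w-localization of a ring
-/

set_option autoImplicit false
set_option backward.isDefEq.respectTransparency false

universe u

namespace Groth.Agent.WLoc

variable (A : Type u) [CommRing A]

/-- the product of the residue fields of `A` -/
abbrev resProd : Type u := ∀ p : PrimeSpectrum A, p.asIdeal.ResidueField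

/-- the universal absolutely flat ring under `A`: generated in the product of the residue fields by
`A` and inverses -/
noncomputable def absFlat : Subalgebra A (resProd A) :=
  sInf {S | ∀ x ∈ S, (fun p => (x p)⁻¹) ∈ S}

variable {A}

theorem inv_mem_absFlat {x : resProd A} (hx : x ∈ absFlat A) :
    (fun p => (x p)⁻¹) ∈ absFlat A := by
  rw [absFlat, Algebra.mem_sInf] at hx ⊢
  exact fun S hS => hS x (hx S hS)

/-- the inverse, in `absFlat` -/
noncomputable def qinv (x : absFlat A) : absFlat A :=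
  ⟨fun p => (x.1 p)⁻¹, inv_mem_absFlat x.2⟩

theorem qinv_val (x : absFlat A) (p : PrimeSpectrum A) : (qinv x).1 p = (x.1 p)⁻¹ := rfl

theorem mul_mul_qinv (x : absFlat A) : x * x * qinv x = x :=
  Subtype.ext (funext fun p => mul_self_mul_inv (x.1 p))

theorem mul_qinv_qinv (x : absFlat A) : x * qinv x * qinv x = qinv x :=
  Subtype.ext (funext fun p => by
    change x.1 p * (x.1 p)⁻¹ * (x.1 p)⁻¹ = (x.1 p)⁻¹
    by_cases h : x.1 p = 0
    · simp [h]
    · rw [mul_inv_cancel₀ h, one_mul])

/-- induction on `absFlat` -/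
theorem absFlat_induction {motive : absFlat A → Prop} (hA : ∀ a, motive (algebraMap A _ a))
    (hadd : ∀ x y, motive x → motive y → motive (x + y))
    (hmul : ∀ x y, motive x → motive y → motive (x * y))
    (hinv : ∀ x, motive x → motive (qinv x)) (x : absFlat A) : motive x := by
  let S : Subalgebra A (resProd A) :=
    { carrier := {y | ∃ h : y ∈ absFlat A, motive ⟨y, h⟩}
      mul_mem' := fun ⟨h, hm⟩ ⟨h', hm'⟩ => ⟨mul_mem h h', hmul ⟨_, h⟩ ⟨_, h'⟩ hm hm'⟩
      add_mem' := fun ⟨h, hm⟩ ⟨h', hm'⟩ => ⟨add_mem h h', hadd ⟨_, h⟩ ⟨_, h'⟩ hm hm'⟩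
      algebraMap_mem' := fun a => ⟨Subalgebra.algebraMap_mem _ a, hA a⟩ }
  have hle : absFlat A ≤ S := sInf_le fun y ⟨h, hm⟩ => ⟨inv_mem_absFlat h, hinv ⟨y, h⟩ hm⟩
  exact (hle x.2).2

/-- a prime of `absFlat A` is the evaluation at the prime below it -/
theorem mem_prime_iff (P : Ideal (absFlat A)) [P.IsPrime] (x : absFlat A) :
    x ∈ P ↔ x.1 ⟨P.comap (algebraMap A (absFlat A)), inferInstance⟩ = 0 := by
  set p : PrimeSpectrum A := ⟨P.comap (algebraMap A (absFlat A)), inferInstance⟩
  suffices h : ∃ a b : A, b ∉ p.asIdeal ∧ x * algebraMap A _ b - algebraMap A _ a ∈ P ∧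
      x.1 p * algebraMap A p.asIdeal.ResidueField b = algebraMap A p.asIdeal.ResidueField a by
    obtain ⟨a, b, hb, h1, h2⟩ := h
    have hb0 : algebraMap A p.asIdeal.ResidueField b ≠ 0 := by
      rwa [Ne, Ideal.algebraMap_residueField_eq_zero]
    constructor
    · intro hx
      have ha : a ∈ p.asIdeal := by
        change algebraMap A _ a ∈ P
        simpa using sub_mem (Ideal.mul_mem_right (algebraMap A _ b) P hx) h1
      rw [Ideal.algebraMap_residueField_eq_zero.mpr ha, mul_eq_zero] at h2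
      exact h2.resolve_right hb0
    · intro hx
      rw [hx, zero_mul, eq_comm, Ideal.algebraMap_residueField_eq_zero] at h2
      have h3 : x * algebraMap A _ b ∈ P := by simpa using add_mem h1 (show algebraMap A _ a ∈ P from h2)
      exact (‹P.IsPrime›.mem_or_mem h3).resolve_right hb
  induction x using absFlat_induction with
  | hA a => exact ⟨a, 1, p.2.one_notMem, by simp, by simp⟩
  | hadd x y hx hy =>
    obtain ⟨a, b, hb, h1, h2⟩ := hx
    obtain ⟨c, d, hd, h3, h4⟩ := hy
    refine ⟨a * d + c * b, b * d, fun h => (p.2.mem_or_mem h).elim hb hd, ?_, ?_⟩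
    · convert P.add_mem (P.mul_mem_right (algebraMap A _ d) h1)
        (P.mul_mem_right (algebraMap A _ b) h3) using 1
      simp only [map_add, map_mul]; ring
    · change (x.1 p + y.1 p) * _ = _
      simp only [map_add, map_mul, ← h2, ← h4]; ring
  | hmul x y hx hy =>
    obtain ⟨a, b, hb, h1, h2⟩ := hx
    obtain ⟨c, d, hd, h3, h4⟩ := hy
    refine ⟨a * c, b * d, fun h => (p.2.mem_or_mem h).elim hb hd, ?_, ?_⟩
    · convert P.add_mem (P.mul_mem_right (y * algebraMap A _ d) h1)
        (P.mul_mem_left (algebraMap A _ a) h3) using 1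
      simp only [map_mul]; ring
    · change (x.1 p * y.1 p) * _ = _
      simp only [map_mul, ← h2, ← h4]; ring
  | hinv x hx =>
    obtain ⟨a, b, hb, h1, h2⟩ := hx
    have hbP : algebraMap A (absFlat A) b ∉ P := fun h => hb h
    by_cases ha : algebraMap A (absFlat A) a ∈ P
    · have hxP : x ∈ P :=
        (‹P.IsPrime›.mem_or_mem (by simpa using add_mem h1 ha)).resolve_right hbP
      have hx0 : x.1 p = 0 := by
        rw [show algebraMap A p.asIdeal.ResidueField a = 0 from
          Ideal.algebraMap_residueField_eq_zero.mpr ha, mul_eq_zero] at h2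
        exact h2.resolve_right (fun h => hb (Ideal.algebraMap_residueField_eq_zero.mp h))
      refine ⟨0, 1, p.2.one_notMem, ?_, ?_⟩
      · rw [map_zero, sub_zero, map_one, mul_one, ← mul_qinv_qinv]
        exact P.mul_mem_right _ (P.mul_mem_right _ hxP)
      · rw [map_zero, map_one, mul_one, qinv_val, hx0, inv_zero]
    · have hxP : x ∉ P := fun h => ha (by
        simpa using sub_mem (P.mul_mem_right (algebraMap A _ b) h) h1)
      refine ⟨b, a, fun h => ha h, ?_, ?_⟩
      · have h3 : x * (x * qinv x - 1) ∈ P := by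
          rw [mul_sub, mul_one, ← mul_assoc, mul_mul_qinv, sub_self]; exact zero_mem _
        have h4 := (‹P.IsPrime›.mem_or_mem h3).resolve_left hxP
        refine (‹P.IsPrime›.mem_or_mem ?_).resolve_left hxP
        convert P.sub_mem (P.mul_mem_right (algebraMap A _ a) h4) h1 using 1
        ring
      · have ha0 : x.1 p ≠ 0 := fun h => by
          rw [h, zero_mul, eq_comm, Ideal.algebraMap_residueField_eq_zero] at h2
          exact ha h2
        rw [qinv_val, ← h2, ← mul_assoc, inv_mul_cancel₀ ha0, one_mul]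

theorem absFlat_isMaximal (P : Ideal (absFlat A)) [P.IsPrime] : P.IsMaximal := by
  refine Ideal.isMaximal_iff.mpr ⟨(Ideal.ne_top_iff_one P).mp (Ideal.IsPrime.ne_top ‹_›), ?_⟩
  intro J x hle hxP hxJ
  have h3 : x * (x * qinv x - 1) ∈ P := by
    rw [mul_sub, mul_one, ← mul_assoc, mul_mul_qinv, sub_self]; exact zero_mem _
  have h4 := hle ((‹P.IsPrime›.mem_or_mem h3).resolve_left hxP)
  simpa using J.sub_mem (J.mul_mem_right (qinv x) hxJ) h4

variable (A)

/-- the w-localization -/
abbrev wLoc : Type u := ZarHens A (absFlat A)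

theorem π_surjective : Function.Surjective (ZarHens.π A (absFlat A)) := by
  intro x
  induction x using absFlat_induction with
  | hA a => exact ⟨algebraMap A _ a, AlgHom.commutes _ a⟩
  | hadd x y hx hy =>
    obtain ⟨a, rfl⟩ := hx
    obtain ⟨b, rfl⟩ := hy
    exact ⟨a + b, map_add _ _ _⟩
  | hmul x y hx hy =>
    obtain ⟨a, rfl⟩ := hx
    obtain ⟨b, rfl⟩ := hy
    exact ⟨a * b, map_mul _ _ _⟩
  | hinv x hx =>
    obtain ⟨a, rfl⟩ := hx
    obtain ⟨E, W, -, -, hW⟩ := ZarHens.exists_idem_quasiInverse a _ (mul_mul_qinv _)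
    exact ⟨W, hW.trans (mul_qinv_qinv _)⟩

theorem wLoc_isWLocal :
    ProEtW.IsWLocal (PrimeSpectrum (wLoc A)) ∧ ProEtW.closedPoints (PrimeSpectrum (wLoc A)) =
      PrimeSpectrum.zeroLocus (RingHom.ker (ZarHens.π A (absFlat A)) : Set (wLoc A)) := by
  refine isWLocal_of_idempotents _ ZarHens.ker_π_le_jacobson (fun P hP hle => ?_)
    fun m₁ m₂ h₁ h₂ hne => ?_
  · have : (P.map (ZarHens.π A (absFlat A))).IsPrime :=
      Ideal.map_isPrime_of_surjective (π_surjective A) hle
    have hmax := absFlat_isMaximal (P.map (ZarHens.π A (absFlat A)))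
    have h := Ideal.comap_isMaximal_of_surjective (ZarHens.π A (absFlat A)) (π_surjective A)
      (K := P.map (ZarHens.π A (absFlat A)))
    rwa [Ideal.comap_map_of_surjective' (ZarHens.π A (absFlat A)) (π_surjective A),
      sup_eq_left.mpr hle] at h
  · obtain ⟨z, hz1, hz2⟩ : ∃ z ∈ m₁, z ∉ m₂ := by
      by_contra h
      push Not at h
      exact hne (h₁.eq_of_le h₂.ne_top h)
    obtain ⟨E, -, hE, hπE, -⟩ := ZarHens.exists_idem_quasiInverse z _ (mul_mul_qinv _)
    have hker : ∀ m : Ideal (wLoc A), m.IsMaximal → RingHom.ker (ZarHens.π A (absFlat A)) ≤ m :=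
      fun m hm => ZarHens.ker_π_le_jacobson.trans (sInf_le ⟨bot_le, hm⟩)
    obtain ⟨w, hw⟩ := π_surjective A (qinv (ZarHens.π A (absFlat A) z))
    have h1 : E - z * w ∈ RingHom.ker (ZarHens.π A (absFlat A)) := by
      rw [RingHom.mem_ker, map_sub, map_mul, hπE, hw, sub_self]
    have h2 : z * E - z ∈ RingHom.ker (ZarHens.π A (absFlat A)) := by
      rw [RingHom.mem_ker, map_sub, map_mul, hπE, ← mul_assoc, mul_mul_qinv, sub_self]
    refine ⟨E, hE, ?_, fun hE2 => hz2 ?_⟩
    · simpa using add_mem (hker m₁ h₁ h1) (m₁.mul_mem_right w hz1)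
    · simpa using sub_mem (m₂.mul_mem_left z hE2) (hker m₂ h₂ h2)

/-- the prime of `absFlat A` at a point -/
noncomputable def evalHom (p : PrimeSpectrum A) : wLoc A →ₐ[A] p.asIdeal.ResidueField :=
  (Pi.evalAlgHom A (fun p : PrimeSpectrum A => p.asIdeal.ResidueField) p).comp
    ((absFlat A).val.comp (ZarHens.π A (absFlat A)))

theorem wLoc_bijOn :
    Set.BijOn (PrimeSpectrum.comap (algebraMap A (wLoc A)))
      (ProEtW.closedPoints (PrimeSpectrum (wLoc A))) Set.univ := by
  rw [(wLoc_isWLocal A).2]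
  refine ⟨fun _ _ => trivial, fun P hP Q hQ hPQ => ?_, fun p _ => ?_⟩
  · have key : ∀ R : PrimeSpectrum (wLoc A),
        RingHom.ker (ZarHens.π A (absFlat A)) ≤ R.asIdeal → ∀ z, z ∈ R.asIdeal ↔
          (ZarHens.π A (absFlat A) z).1 (PrimeSpectrum.comap (algebraMap A (wLoc A)) R) = 0 := by
      intro R hR z
      have : (R.asIdeal.map (ZarHens.π A (absFlat A))).IsPrime :=
        Ideal.map_isPrime_of_surjective (π_surjective A) hR
      have hcm : (R.asIdeal.map (ZarHens.π A (absFlat A))).comap (ZarHens.π A (absFlat A)) =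
          R.asIdeal := by
        rw [Ideal.comap_map_of_surjective' (ZarHens.π A (absFlat A)) (π_surjective A),
          sup_eq_left.mpr hR]
      conv_lhs => rw [← hcm, Ideal.mem_comap, mem_prime_iff]
      have hp : (⟨(R.asIdeal.map (ZarHens.π A (absFlat A))).comap (algebraMap A (absFlat A)),
          inferInstance⟩ : PrimeSpectrum A) = PrimeSpectrum.comap (algebraMap A (wLoc A)) R := by
        refine PrimeSpectrum.ext (Ideal.ext fun a => ?_)
        rw [PrimeSpectrum.comap_asIdeal, Ideal.mem_comap, Ideal.mem_comap]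
        conv_rhs => rw [← hcm, Ideal.mem_comap, AlgHom.commutes]
      rw [hp]
    refine PrimeSpectrum.ext (Ideal.ext fun z => ?_)
    rw [key P hP, key Q hQ, hPQ]
  · refine ⟨PrimeSpectrum.comap (evalHom A p).toRingHom ⟨⊥, Ideal.isPrime_bot⟩, ?_, ?_⟩
    · intro z hz
      change evalHom A p z = 0
      change (ZarHens.π A (absFlat A) z).1 p = 0
      rw [RingHom.mem_ker.mp hz]
      rfl
    · refine PrimeSpectrum.ext (Ideal.ext fun a => ?_)
      change evalHom A p (algebraMap A _ a) = 0 ↔ a ∈ p.asIdeal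
      rw [AlgHom.commutes, Ideal.algebraMap_residueField_eq_zero]

theorem wLoc_faithfullyFlat : Module.FaithfullyFlat A (wLoc A) :=
  Module.FaithfullyFlat.of_comap_surjective fun p => by
    obtain ⟨P, -, hP⟩ := (wLoc_bijOn A).surjOn (Set.mem_univ p)
    exact ⟨P, hP⟩

end Groth.Agent.WLoc
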