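import Groth.Agent.Spectral.Components
import Mathlib.Topology.Separation.Profinite
import Mathlib.Topology.Connected.Separation
import Groth.Prelude.Def_ProEtW

/-!
# Pulling back a spectral space along a map of profinite spaces into its space of components
-/

set_option autoImplicit false
set_option backward.isDefEq.respectTransparency false

universe u

open Topology

namespace Groth.Agent.WLoc

variable {X : Type u} [TopologicalSpace X]

/-- components of a spectral space are separated by clopen sets -/
instance totallySeparated_components [SpectralSpace X] :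
    TotallySeparatedSpace (_root_.ConnectedComponents X) := by
  refine totallySeparatedSpace_iff_exists_isClopen.mpr fun a b hab => ?_
  obtain ⟨x, rfl⟩ := _root_.ConnectedComponents.surjective_coe a
  obtain ⟨y, rfl⟩ := _root_.ConnectedComponents.surjective_coe b
  have hy : y ∉ connectedComponent x := fun h => hab (_root_.ConnectedComponents.coe_eq_coe'.mpr h).symm
  rw [Spectral.mem_connectedComponent_iff] at hy
  push Not at hy
  obtain ⟨W, hW, hxW, hyW⟩ := hy
  have hsat : _root_.ConnectedComponents.mk ⁻¹' (_root_.ConnectedComponents.mk '' W) = W := by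
    refine Set.Subset.antisymm ?_ (Set.subset_preimage_image _ _)
    rintro z ⟨w, hw, hwz⟩
    exact hW.connectedComponent_subset hw (_root_.ConnectedComponents.coe_eq_coe'.mp hwz.symm)
  refine ⟨_root_.ConnectedComponents.mk '' W, ?_, ⟨x, hxW, rfl⟩, ?_⟩
  · exact _root_.ConnectedComponents.isQuotientMap_coe.isClopen_preimage.mp (by rwa [hsat])
  · intro h
    exact hyW (hsat.le h)

/-- a surjection onto a profinite space with connected fibres computes the components -/
theorem exists_componentsHomeo {Y T : Type u} [TopologicalSpace Y] [CompactSpace Y]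
    [TopologicalSpace T] [T2Space T] [TotallyDisconnectedSpace T] (h : Y → T) (hc : Continuous h)
    (hs : Function.Surjective h) (hf : ∀ t, IsPreconnected (h ⁻¹' {t})) :
    ∃ e : _root_.ConnectedComponents Y ≃ₜ T, ∀ y, e (_root_.ConnectedComponents.mk y) = h y := by
  let f := hc.connectedComponentsLift
  have hfc : Continuous f := hc.connectedComponentsLift_continuous
  have happ : ∀ y, f (_root_.ConnectedComponents.mk y) = h y :=
    hc.connectedComponentsLift_apply_coe
  have hb : Function.Bijective f := by
    refine ⟨fun a b hab => ?_, fun t => ?_⟩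
    · obtain ⟨a, rfl⟩ := _root_.ConnectedComponents.surjective_coe a
      obtain ⟨b, rfl⟩ := _root_.ConnectedComponents.surjective_coe b
      rw [happ, happ] at hab
      exact (_root_.ConnectedComponents.coe_eq_coe'.mpr
        ((hf (h a)).subset_connectedComponent (show a ∈ h ⁻¹' {h a} from rfl)
          (show b ∈ h ⁻¹' {h a} from hab.symm))).symm
    · obtain ⟨y, rfl⟩ := hs t
      exact ⟨_, happ y⟩
  exact ⟨hfc.homeoOfEquivCompactToT2 (f := Equiv.ofBijective f hb), happ⟩

variable {T : Type u} [TopologicalSpace T]

/-- the fibre product of `X` and `T` over the components of `X` -/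
def pullSet (g : C(T, _root_.ConnectedComponents X)) : Set (X × T) :=
  {p | _root_.ConnectedComponents.mk p.1 = g p.2}

variable [SpectralSpace X] (g : C(T, _root_.ConnectedComponents X))

theorem isClosed_pullSet : IsClosed (pullSet g) :=
  isClosed_eq (_root_.ConnectedComponents.continuous_coe.comp continuous_fst)
    (g.continuous.comp continuous_snd)

variable [CompactSpace T] [T2Space T] [TotallyDisconnectedSpace T]

theorem spectralSpace_profinite : SpectralSpace T where
  isTopologicalBasis := isTopologicalBasis_isClopen.of_isOpen_of_subset (fun U hU => hU.1)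
    fun s hs => ⟨hs.isOpen, hs.isClosed.isCompact⟩

theorem spectralSpace_pullSet : SpectralSpace (pullSet g) :=
  have := spectralSpace_profinite (T := T)
  have := Spectral.spectralSpace_prod (X := X) (Y := T)
  Spectral.spectralSpace_of_isClosed_con (Spectral.isClosed_con_of_isClosed (isClosed_pullSet g))

theorem exists_components_pullSet :
    ∃ e : _root_.ConnectedComponents (pullSet g) ≃ₜ T,
      ∀ y : pullSet g, e (_root_.ConnectedComponents.mk y) = y.1.2 := by
  have := spectralSpace_pullSet g
  refine exists_componentsHomeo (fun y : pullSet g => y.1.2)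
    (continuous_snd.comp continuous_subtype_val) (fun t => ?_) (fun t => ?_)
  · obtain ⟨x, hx⟩ := _root_.ConnectedComponents.surjective_coe (g t)
    exact ⟨⟨(x, t), hx⟩, rfl⟩
  · refine IsInducing.subtypeVal.isPreconnected_image.mp ?_
    obtain ⟨x, hx⟩ := _root_.ConnectedComponents.surjective_coe (g t)
    have : ((↑) '' ((fun y : pullSet g => y.1.2) ⁻¹' {t}) : Set (X × T)) =
        connectedComponent x ×ˢ {t} := by
      ext ⟨a, b⟩
      constructor
      · rintro ⟨⟨⟨a', b'⟩, hy⟩, hb : b' = t, hab⟩
        cases hab
        subst hb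
        exact ⟨_root_.ConnectedComponents.coe_eq_coe'.mp (hy.trans hx.symm), rfl⟩
      · rintro ⟨ha, rfl : b = t⟩
        exact ⟨⟨(a, b), (_root_.ConnectedComponents.coe_eq_coe'.mpr ha).trans hx⟩, rfl, rfl⟩
    rw [this]
    exact isPreconnected_connectedComponent.prod isPreconnected_singleton

theorem isClosed_singleton_pullSet_iff (y : pullSet g) :
    IsClosed ({y} : Set (pullSet g)) ↔ IsClosed ({y.1.1} : Set X) := by
  rw [(isClosed_pullSet g).isClosedEmbedding_subtypeVal.isClosed_iff_image_isClosed,
    Set.image_singleton]
  refine ⟨fun h => ?_, fun h => ?_⟩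
  · have := h.preimage (continuous_id.prodMk (continuous_const (y := y.1.2)))
    rwa [show (fun x : X => (id x, y.1.2)) ⁻¹' {(y : X × T)} = {y.1.1} from by
      ext x; simp [Prod.ext_iff]] at this
  · rw [show ({(y : X × T)} : Set (X × T)) = {y.1.1} ×ˢ {y.1.2} by simp]
    exact h.prod isClosed_singleton

theorem isWLocal_pullSet (hX : ProEtW.IsWLocal X) :
    ProEtW.IsWLocal (pullSet g) ∧
      ProEtW.IsWLocalMap (fun y : pullSet g => y.1.1) ∧
      ProEtW.closedPoints (pullSet g) =
        (fun y : pullSet g => y.1.1) ⁻¹' ProEtW.closedPoints X := by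
  have hpr : Continuous fun y : pullSet g => y.1.1 := continuous_fst.comp continuous_subtype_val
  refine ⟨⟨spectralSpace_pullSet g, ?_, fun y => ?_⟩, ⟨⟨hpr, fun U hU hUc => ?_⟩, fun y hy => ?_⟩,
    Set.ext fun y => isClosed_singleton_pullSet_iff g y⟩
  · have := hX.2.1.preimage hpr
    convert this using 1
    exact Set.ext fun y => isClosed_singleton_pullSet_iff g y
  · obtain ⟨z, ⟨hz, hyz⟩, huniq⟩ := hX.2.2 y.1.1
    have hzy : (z, y.1.2) ∈ pullSet g := (Spectral.mk_eq_of_specializes hyz).symm.trans y.2
    refine ⟨⟨_, hzy⟩, ⟨(isClosed_singleton_pullSet_iff g _).mpr hz,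
      IsInducing.subtypeVal.specializes_iff.mp (hyz.prod specializes_rfl)⟩, fun w hw => ?_⟩
    have h1 := (IsInducing.subtypeVal.specializes_iff.mpr hw.2).map continuous_fst
    have h2 := (IsInducing.subtypeVal.specializes_iff.mpr hw.2).map continuous_snd
    exact Subtype.ext (Prod.ext (huniq _ ⟨(isClosed_singleton_pullSet_iff g w).mp hw.1, h1⟩) h2.eq.symm)
  · refine IsInducing.subtypeVal.isCompact_iff.mpr ?_
    rw [show (fun y : pullSet g => y.1.1) ⁻¹' U = Subtype.val ⁻¹' (U ×ˢ (Set.univ : Set T)) by
      ext; simp, Subtype.image_preimage_coe]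
    exact (hUc.prod isCompact_univ).inter_left (isClosed_pullSet g)
  · exact (isClosed_singleton_pullSet_iff g y).mp hy

end Groth.Agent.WLoc
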