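import Groth.Agent.WLoc.IndZar
import Groth.Agent.WLoc.ProfinPull
import Mathlib.Topology.LocallyConstant.Algebra

/-!
# Ind-Zariski algebras realising maps of profinite spaces into the components
-/

set_option autoImplicit false
set_option backward.isDefEq.respectTransparency false

universe u

open Topology

namespace Groth.Agent.WLoc

variable {A : Type u} [CommRing A]

variable (A) in
theorem zarFactors_self : ZarFactors A A := fun C _ _ _ g => by
  have : Algebra.IsStandardOpenImmersion A A :=
    ⟨1, IsLocalization.away_of_isUnit_of_bijective A isUnit_one Function.bijective_id⟩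
  exact ⟨A, inferInstance, inferInstance, inferInstance, g, AlgHom.id A A, AlgHom.ext fun _ => rfl⟩

variable {T : Type u} [TopologicalSpace T] [CompactSpace T]

/-- locally constant functions with values in an ind-Zariski algebra -/
theorem ZarFactors.locallyConstant {B : Type u} [CommRing B] [Algebra A B] (h : ZarFactors A B) :
    ZarFactors A (LocallyConstant T B) := by
  intro C _ _ hC g
  obtain ⟨s, hs⟩ : (⊤ : Subalgebra A C).FG := Algebra.FiniteType.out
  let j : LocallyConstant T (↥s → B) := LocallyConstant.unflip fun i => g i.1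
  let P : Type u := ↥(Set.range j)
  have : Finite P := j.range_finite.to_subtype
  let q : LocallyConstant T P :=
    LocallyConstant.desc (fun t => (⟨j t, Set.mem_range_self t⟩ : P)) (g := Subtype.val) j rfl Subtype.val_injective
  choose tt htt using fun c : P => c.2
  let gc : ∀ c : P, C →ₐ[A] B := fun c => (LocallyConstant.evalₐ A (tt c)).comp g
  choose E i₁ i₂ hE u v huv using fun c => h C (gc c)
  have := fun c => hE c
  refine ⟨∀ c, E c, inferInstance, inferInstance, Algebra.IsLocalIso.pi_of_finite A E, AlgHom.pi u,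
    { toFun := fun f => q.map fun c => v c (f c)
      map_one' := by ext t; simp
      map_mul' := fun f f' => by ext t; simp
      map_zero' := by ext t; simp
      map_add' := fun f f' => by ext t; simp
      commutes' := fun a => by ext t; simp [LocallyConstant.coe_algebraMap] }, ?_⟩
  refine AlgHom.ext_of_adjoin_eq_top hs fun x hx => ?_
  ext t
  have h1 : ∀ c : P, v c (u c x) = g x (tt c) := fun c => DFunLike.congr_fun (huv c) x
  change v (q t) (u (q t) x) = g x t
  rw [h1]
  exact congrFun (htt (q t)) ⟨x, hx⟩

variable [T2Space T] [TotallyDisconnectedSpace T]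

omit [T2Space T] [TotallyDisconnectedSpace T] in
/-- primes of the locally constant functions lie over a unique point -/
theorem exists_point (P : Ideal (LocallyConstant T A)) [hP : P.IsPrime] :
    ∃ t : T, ∀ f : LocallyConstant T A, f t = 0 → f ∈ P := by
  classical
  by_contra hno
  push Not at hno
  choose f hf hfP using hno
  obtain ⟨s, hs⟩ := isCompact_univ.elim_finite_subcover (fun t => (f t) ⁻¹' {0})
    (fun t => (f t).isLocallyConstant _) fun t _ => Set.mem_iUnion.mpr ⟨t, hf t⟩
  refine (fun h => ?_) (show (∏ t ∈ s, f t) ∈ P from by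
    rw [show (∏ t ∈ s, f t) = 0 by
      ext x
      obtain ⟨t, hts, hxt⟩ := Set.mem_iUnion₂.mp (hs (Set.mem_univ x))
      rw [show (∏ t ∈ s, f t) x = ∏ t ∈ s, f t x from map_prod (LocallyConstant.evalRingHom x) _ _]
      exact Finset.prod_eq_zero hts hxt]
    exact zero_mem _)
  obtain ⟨t, ht, htP⟩ := (Ideal.IsPrime.prod_mem_iff (hp := hP)).mp h
  exact hfP t htP

/-- the base point of a prime of the locally constant functions -/
noncomputable def pointOf (P : PrimeSpectrum (LocallyConstant T A)) : T :=
  (exists_point P.asIdeal).choose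

omit [T2Space T] [TotallyDisconnectedSpace T] in
theorem mem_iff_pointOf (P : PrimeSpectrum (LocallyConstant T A)) (f : LocallyConstant T A) :
    f ∈ P.asIdeal ↔ f (pointOf P) ∈ P.asIdeal.comap (algebraMap A (LocallyConstant T A)) := by
  have h : f - algebraMap A _ (f (pointOf P)) ∈ P.asIdeal :=
    (exists_point P.asIdeal).choose_spec _ (by
      simp [LocallyConstant.coe_algebraMap, LocallyConstant.coe_sub, pointOf])
  rw [Ideal.mem_comap]
  exact ⟨fun hf => by simpa using sub_mem hf h, fun ha => by simpa using add_mem h ha⟩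

omit [T2Space T] [TotallyDisconnectedSpace T] in
theorem pointOf_mem_iff (P : PrimeSpectrum (LocallyConstant T A)) {U : Set T} (hU : IsClopen U) :
    pointOf P ∈ U ↔ LocallyConstant.charFn A hU ∉ P.asIdeal := by
  rw [mem_iff_pointOf, LocallyConstant.coe_charFn]
  by_cases h : pointOf P ∈ U
  · simpa [h] using P.2.one_notMem
  · simp [h]

theorem continuous_pointOf : Continuous (pointOf (A := A) (T := T)) := by
  refine isTopologicalBasis_isClopen.continuous_iff.mpr fun U hU => ?_
  rw [show pointOf ⁻¹' U = (PrimeSpectrum.basicOpen (LocallyConstant.charFn A hU) :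
    Set (PrimeSpectrum (LocallyConstant T A))) from Set.ext fun P => pointOf_mem_iff P hU]
  exact (PrimeSpectrum.basicOpen _).isOpen

/-- the point of a prime and its image -/
noncomputable def lcPair (P : PrimeSpectrum (LocallyConstant T A)) : PrimeSpectrum A × T :=
  (PrimeSpectrum.comap (algebraMap A _) P, pointOf P)

theorem isEmbedding_lcPair : IsEmbedding (lcPair (A := A) (T := T)) := by
  have hc : Continuous (lcPair (A := A) (T := T)) :=
    (PrimeSpectrum.continuous_comap _).prodMk continuous_pointOf
  refine ⟨⟨le_antisymm hc.le_induced ?_⟩, fun P Q h => ?_⟩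
  · intro W hW
    obtain ⟨S, hS, rfl⟩ := PrimeSpectrum.isTopologicalBasis_basic_opens.open_eq_sUnion hW
    refine @isOpen_sUnion _ (TopologicalSpace.induced _ _) _ fun V hV => ?_
    obtain ⟨f, rfl⟩ := hS hV
    refine isOpen_induced_iff.mpr ⟨{p : PrimeSpectrum A × T | f p.2 ∉ p.1.asIdeal}, ?_, ?_⟩
    · refine isOpen_iff_forall_mem_open.mpr fun p hp => ?_
      refine ⟨(PrimeSpectrum.basicOpen (f p.2) : Set _) ×ˢ (f ⁻¹' {f p.2}), fun p' hp' => ?_,
        (PrimeSpectrum.basicOpen _).isOpen.prod (f.isLocallyConstant _), ⟨hp, rfl⟩⟩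
      change f p'.2 ∉ p'.1.asIdeal
      rw [show f p'.2 = f p.2 from hp'.2]
      exact hp'.1
    · exact Set.ext fun P => (mem_iff_pointOf P f).not.symm
  · obtain ⟨h1, h2⟩ := Prod.ext_iff.mp h
    refine PrimeSpectrum.ext (Ideal.ext fun f => ?_)
    rw [mem_iff_pointOf P, mem_iff_pointOf Q]
    change pointOf P = pointOf Q at h2
    rw [h2]
    exact Ideal.ext_iff.mp (congrArg PrimeSpectrum.asIdeal h1) _

theorem exists_prime_of_pair (q : PrimeSpectrum A) (t : T) :
    ∃ P : PrimeSpectrum (LocallyConstant T A), lcPair P = (q, t) := by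
  let P : PrimeSpectrum (LocallyConstant T A) :=
    PrimeSpectrum.comap (LocallyConstant.evalRingHom t) q
  have hcomap : PrimeSpectrum.comap (algebraMap A _) P = q := by
    refine PrimeSpectrum.ext (Ideal.ext fun a => ?_)
    simp [P, LocallyConstant.coe_algebraMap]
  refine ⟨P, Prod.ext hcomap ?_⟩
  change pointOf P = t
  by_contra hne
  obtain ⟨U, hU, hUt, hUP⟩ := exists_isClopen_of_totally_separated (Ne.symm hne)
  exact hUP ((pointOf_mem_iff P hU).mpr fun h => q.2.one_notMem (by
    simpa [P, LocallyConstant.coe_charFn, hUt] using h))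

section Pull

variable (g : C(T, _root_.ConnectedComponents (PrimeSpectrum A)))

omit [CompactSpace T] [T2Space T] [TotallyDisconnectedSpace T] in
theorem isClopen_mk_image {X : Type u} [TopologicalSpace X] {W : Set X} (hW : IsClopen W) :
    IsClopen (_root_.ConnectedComponents.mk '' W) ∧
      _root_.ConnectedComponents.mk ⁻¹' (_root_.ConnectedComponents.mk '' W) = W := by
  have hsat : _root_.ConnectedComponents.mk ⁻¹' (_root_.ConnectedComponents.mk '' W) = W := by
    refine Set.Subset.antisymm ?_ (Set.subset_preimage_image _ _)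
    rintro z ⟨w, hw, hwz⟩
    exact hW.connectedComponent_subset hw (_root_.ConnectedComponents.coe_eq_coe'.mp hwz.symm)
  exact ⟨_root_.ConnectedComponents.isQuotientMap_coe.isClopen_preimage.mp (by rwa [hsat]), hsat⟩

/-- the clopen set of `T` over an idempotent -/
def pullClopen (e : {e : A // IsIdempotentElem e}) : Set T :=
  g ⁻¹' (_root_.ConnectedComponents.mk '' (PrimeSpectrum.basicOpen e.1 : Set (PrimeSpectrum A)))

omit [CompactSpace T] [T2Space T] [TotallyDisconnectedSpace T] in
theorem isClopen_pullClopen (e : {e : A // IsIdempotentElem e}) : IsClopen (pullClopen g e) :=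
  (isClopen_mk_image (PrimeSpectrum.isClopen_iff.mpr ⟨e.1, e.2, rfl⟩)).1.preimage g.continuous

/-- the idempotents cutting out the fibre product -/
def pullRel : Set (LocallyConstant T A) :=
  Set.range (fun e : {e : A // IsIdempotentElem e} =>
    algebraMap A (LocallyConstant T A) e.1 * (1 - LocallyConstant.charFn A (isClopen_pullClopen g e))) ∪
  Set.range (fun e : {e : A // IsIdempotentElem e} =>
    algebraMap A (LocallyConstant T A) (1 - e.1) * LocallyConstant.charFn A (isClopen_pullClopen g e))

omit [T2Space T] [TotallyDisconnectedSpace T] [CompactSpace T] in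
theorem isIdempotentElem_charFn {U : Set T} (hU : IsClopen U) :
    IsIdempotentElem (LocallyConstant.charFn A hU) := by
  ext t
  by_cases h : t ∈ U <;> simp [LocallyConstant.coe_charFn, h]

omit [T2Space T] [TotallyDisconnectedSpace T] [CompactSpace T] in
theorem isIdempotentElem_pullRel : ∀ x ∈ pullRel g, IsIdempotentElem x := by
  rintro _ (⟨e, rfl⟩ | ⟨e, rfl⟩)
  · exact (e.2.map (algebraMap A _)).mul (isIdempotentElem_charFn _).one_sub
  · exact (e.2.one_sub.map (algebraMap A _)).mul (isIdempotentElem_charFn _)

/-- the ring of the fibre product -/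
abbrev pullRing : Type u := LocallyConstant T A ⧸ Ideal.span (pullRel g)

omit [T2Space T] [TotallyDisconnectedSpace T] in
theorem zarFactors_pullRing {A₀ : Type u} [CommRing A₀] [Algebra A₀ A] (h : ZarFactors A₀ A) :
    ZarFactors A₀ (pullRing g) :=
  h.locallyConstant.quotient (isIdempotentElem_pullRel g)

theorem pullRel_subset_iff (P : PrimeSpectrum (LocallyConstant T A)) :
    pullRel g ⊆ P.asIdeal ↔ lcPair P ∈ pullSet g := by
  have hP := P.2
  have key : ∀ e : {e : A // IsIdempotentElem e},
      ((algebraMap A (LocallyConstant T A) e.1 * (1 - LocallyConstant.charFn A (isClopen_pullClopen g e)) ∈ P.asIdeal) ∧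
        algebraMap A (LocallyConstant T A) (1 - e.1) * LocallyConstant.charFn A (isClopen_pullClopen g e) ∈ P.asIdeal) ↔
      (e.1 ∉ (lcPair P).1.asIdeal ↔ (lcPair P).2 ∈ pullClopen g e) := by
    intro e
    have he : ∀ (x : LocallyConstant T A), IsIdempotentElem x → (1 - x ∈ P.asIdeal ↔ x ∉ P.asIdeal) := fun x hx =>
      ⟨fun h h' => hP.ne_top ((Ideal.eq_top_iff_one _).mpr (by simpa using add_mem h h')),
        (hP.mem_or_mem (show x * (1 - x) ∈ P.asIdeal by
          rw [mul_sub, mul_one, hx.eq, sub_self]; exact zero_mem _)).resolve_left⟩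
    have h1 := he _ (isIdempotentElem_charFn (A := A) (isClopen_pullClopen g e))
    have h2 := he _ (e.2.map (algebraMap A (LocallyConstant T A)))
    rw [show (lcPair P).2 = pointOf P from rfl, pointOf_mem_iff P (isClopen_pullClopen g e),
      show (e.1 ∈ (lcPair P).1.asIdeal) = (algebraMap A (LocallyConstant T A) e.1 ∈ P.asIdeal) from rfl,
      hP.mul_mem_iff_mem_or_mem, hP.mul_mem_iff_mem_or_mem, map_sub, map_one, h1, h2]
    tauto
  constructor
  · intro h
    by_contra hne
    have : SpectralSpace (PrimeSpectrum A) := inferInstance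
    obtain ⟨V, hV, hVq, hVt⟩ := exists_isClopen_of_totally_separated hne
    obtain ⟨e, he, hWe⟩ := PrimeSpectrum.isClopen_iff.mp
      (hV.preimage _root_.ConnectedComponents.continuous_coe)
    have hmem : (lcPair P).2 ∈ pullClopen g ⟨e, he⟩ :=
      ((key ⟨e, he⟩).mp ⟨h (Or.inl ⟨⟨e, he⟩, rfl⟩), h (Or.inr ⟨⟨e, he⟩, rfl⟩)⟩).mp (by
        change (lcPair P).1 ∈ (PrimeSpectrum.basicOpen e : Set (PrimeSpectrum A))
        rw [← hWe]; exact hVq)
    obtain ⟨r, hr, hrt⟩ := hmem
    rw [← hWe] at hr
    exact hVt (hrt ▸ hr)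
  · rintro h _ (⟨e, rfl⟩ | ⟨e, rfl⟩) <;>
    · have := (key e).mpr ⟨fun he => ⟨(lcPair P).1, he, h⟩, fun ⟨r, hr, hrt⟩ => by
        have := (isClopen_mk_image (PrimeSpectrum.isClopen_iff.mpr ⟨e.1, e.2, rfl⟩)).2.le
          (show (lcPair P).1 ∈ _root_.ConnectedComponents.mk ⁻¹' (_root_.ConnectedComponents.mk ''
            (PrimeSpectrum.basicOpen e.1 : Set (PrimeSpectrum A))) from ⟨r, hr, hrt.trans h.symm⟩)
        exact this⟩
      first | exact this.1 | exact this.2

/-- the comparison map of spectra -/
noncomputable def pullPair (y : PrimeSpectrum (pullRing g)) : PrimeSpectrum A × T :=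
  lcPair (PrimeSpectrum.comap (Ideal.Quotient.mk (Ideal.span (pullRel g))) y)

theorem pullPair_fst (y : PrimeSpectrum (pullRing g)) :
    (pullPair g y).1 = PrimeSpectrum.comap (algebraMap A (pullRing g)) y := rfl

theorem isEmbedding_pullPair : IsEmbedding (pullPair g) :=
  isEmbedding_lcPair.comp
    (PrimeSpectrum.isClosedEmbedding_comap_of_surjective _ _ Ideal.Quotient.mk_surjective).isEmbedding

theorem range_pullPair : Set.range (pullPair g) = pullSet g := by
  ext ⟨q, t⟩
  constructor
  · rintro ⟨y, hy⟩
    rw [← hy]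
    refine (pullRel_subset_iff g _).mp fun x hx => ?_
    change Ideal.Quotient.mk _ x ∈ y.asIdeal
    rw [Ideal.Quotient.eq_zero_iff_mem.mpr (Ideal.subset_span hx)]
    exact zero_mem _
  · intro h
    obtain ⟨P, hP⟩ := exists_prime_of_pair q t
    have hle : Ideal.span (pullRel g) ≤ P.asIdeal :=
      Ideal.span_le.mpr ((pullRel_subset_iff g P).mpr (hP ▸ h))
    have : P ∈ Set.range (PrimeSpectrum.comap (Ideal.Quotient.mk (Ideal.span (pullRel g)))) := by
      rw [range_comap_of_surjective _ _ Ideal.Quotient.mk_surjective, Ideal.mk_ker]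
      exact hle
    obtain ⟨y, rfl⟩ := this
    exact ⟨y, hP⟩

/-- the spectrum of the pulled back ring is the fibre product -/
noncomputable def pullHomeo : PrimeSpectrum (pullRing g) ≃ₜ pullSet g :=
  (isEmbedding_pullPair g).toHomeomorph.trans (Homeomorph.setCongr (range_pullPair g))

theorem pullHomeo_val (y : PrimeSpectrum (pullRing g)) : (pullHomeo g y).1 = pullPair g y := rfl

theorem exists_pullRing_components :
    ∃ e : _root_.ConnectedComponents (PrimeSpectrum (pullRing g)) ≃ₜ T,
      ∀ y, e (_root_.ConnectedComponents.mk y) = (pullPair g y).2 := by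
  obtain ⟨e, he⟩ := exists_components_pullSet g
  refine exists_componentsHomeo _ (continuous_snd.comp (isEmbedding_pullPair g).continuous)
    (fun t => ?_) (fun t => ?_)
  · obtain ⟨c, rfl⟩ := e.surjective t
    obtain ⟨z, rfl⟩ := _root_.ConnectedComponents.surjective_coe c
    exact ⟨(pullHomeo g).symm z, by rw [← pullHomeo_val, Homeomorph.apply_symm_apply, he]⟩
  · change IsPreconnected (pullHomeo g ⁻¹' ((fun z : pullSet g => z.1.2) ⁻¹' {t}))
    refine (pullHomeo g).isPreconnected_preimage.mpr ?_
    obtain ⟨c, rfl⟩ := e.surjective t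
    obtain ⟨z, rfl⟩ := _root_.ConnectedComponents.surjective_coe c
    convert (isPreconnected_connectedComponent (x := z)) using 1
    ext w
    rw [Set.mem_preimage, Set.mem_singleton_iff, ← he, e.injective.eq_iff,
      _root_.ConnectedComponents.coe_eq_coe']

end Pull

end Groth.Agent.WLoc
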