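import Groth.Agent.WLoc.LCAlg
import Groth.Agent.WLoc.SpecMap

/-!
# Maps identifying local rings between rings with w-local spectra
-/

set_option autoImplicit false
set_option backward.isDefEq.respectTransparency false

universe u

open Topology

namespace Groth.Agent.WLoc

variable {A B : Type u} [CommRing A] [CommRing B] [Algebra A B]

/-- identifying local rings, elementwise -/
theorem elements_of_identifies (h : EtPBC.IdentifiesLocalRings A B) (q : PrimeSpectrum B) :
    (∀ x : B, ∃ a s, algebraMap A B s ∉ q.asIdeal ∧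
      ∃ t ∉ q.asIdeal, t * (algebraMap A B s * x - algebraMap A B a) = 0) ∧
    ∀ a : A, ∀ t ∉ q.asIdeal, t * algebraMap A B a = 0 →
      ∃ s, algebraMap A B s ∉ q.asIdeal ∧ s * a = 0 := by
  obtain ⟨hi, hs⟩ := h q
  let p := q.asIdeal.comap (algebraMap A B)
  refine ⟨fun x => ?_, fun a t ht hta => ?_⟩
  · obtain ⟨z, hz⟩ := hs (algebraMap B (Localization.AtPrime q.asIdeal) x)
    obtain ⟨a, ⟨s, hsp⟩, rfl⟩ := IsLocalization.exists_mk'_eq p.primeCompl z
    rw [Localization.localRingHom_mk', IsLocalization.mk'_eq_iff_eq_mul, ← map_mul,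
      IsLocalization.eq_iff_exists q.asIdeal.primeCompl] at hz
    obtain ⟨⟨t, ht⟩, hteq⟩ := hz
    refine ⟨a, s, hsp, t, ht, ?_⟩
    linear_combination -hteq
  · have h0 : algebraMap A (Localization.AtPrime p) a = 0 := by
      apply hi
      rw [Localization.localRingHom_to_map, map_zero,
        IsLocalization.map_eq_zero_iff q.asIdeal.primeCompl]
      exact ⟨⟨t, ht⟩, hta⟩
    obtain ⟨⟨s, hs'⟩, hsa⟩ := (IsLocalization.map_eq_zero_iff p.primeCompl _ _).mp h0
    exact ⟨s, hs', hsa⟩

omit [Algebra A B] in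
theorem identifiesLocalRings_cancel {C : Type u} [CommRing C] [Algebra A B] [Algebra A C]
    [Algebra B C] [IsScalarTower A B C]
    (h1 : EtPBC.IdentifiesLocalRings A B) (h2 : EtPBC.IdentifiesLocalRings A C) :
    EtPBC.IdentifiesLocalRings B C := by
  intro q
  let qB : PrimeSpectrum B := ⟨q.asIdeal.comap (algebraMap B C), inferInstance⟩
  have gen : ∀ (f g : A →+* C), f = g → ∀ (I : Ideal A) (_ : I.IsPrime) (hI : I = q.asIdeal.comap f),
      Function.Bijective (Localization.localRingHom (q.asIdeal.comap g) q.asIdeal g rfl) →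
      Function.Bijective (Localization.localRingHom I q.asIdeal f hI) := by
    rintro f g rfl I _ rfl h
    exact h
  have key := gen ((algebraMap B C).comp (algebraMap A B)) (algebraMap A C)
    (IsScalarTower.algebraMap_eq A B C).symm (qB.asIdeal.comap (algebraMap A B)) inferInstance rfl (h2 q)
  rw [Localization.localRingHom_comp (qB.asIdeal.comap (algebraMap A B)) qB.asIdeal q.asIdeal
    (algebraMap A B) rfl (algebraMap B C) rfl, RingHom.coe_comp] at key
  exact (Function.Bijective.of_comp_iff _ (h1 qB)).mp key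

/-- rigidity: a map identifying local rings of w-local rings, bijective on components, is bijective -/
theorem bijective_of_identifies (h1 : EtPBC.IdentifiesLocalRings A B)
    (hA : ProEtW.IsWLocal (PrimeSpectrum A)) (hB : ProEtW.IsWLocal (PrimeSpectrum B))
    (h4 : ∀ y : PrimeSpectrum B, IsClosed ({y} : Set (PrimeSpectrum B)) →
      IsClosed ({PrimeSpectrum.comap (algebraMap A B) y} : Set (PrimeSpectrum A)))
    (h5 : Function.Bijective
      (PrimeSpectrum.continuous_comap (algebraMap A B)).connectedComponentsMap) :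
    Function.Bijective (algebraMap A B) := by
  let c := PrimeSpectrum.comap (algebraMap A B)
  have hbA := Spectral.bijective_of_unique_closedPoint hA.2.1 hA.2.2
  have hbB := Spectral.bijective_of_unique_closedPoint hB.2.1 hB.2.2
  have hinj : ∀ m m' : PrimeSpectrum B, IsClosed ({m} : Set (PrimeSpectrum B)) →
      IsClosed ({m'} : Set (PrimeSpectrum B)) → c m = c m' → m = m' := fun m m' hm hm' h =>
    congrArg Subtype.val (@hbB.1 ⟨m, hm⟩ ⟨m', hm'⟩ (h5.1 (congrArg _root_.ConnectedComponents.mk h)))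
  have hsurj : ∀ n : Ideal A, ∀ hn : n.IsMaximal, ∃ m : PrimeSpectrum B,
      IsClosed ({m} : Set (PrimeSpectrum B)) ∧ c m = ⟨n, hn.isPrime⟩ := by
    intro n hn
    have hn' : IsClosed ({⟨n, hn.isPrime⟩} : Set (PrimeSpectrum A)) :=
      (PrimeSpectrum.isClosed_singleton_iff_isMaximal _).mpr hn
    obtain ⟨k, hk⟩ := h5.2 (_root_.ConnectedComponents.mk ⟨n, hn.isPrime⟩)
    obtain ⟨⟨m, hm⟩, rfl⟩ := hbB.2 k
    exact ⟨m, hm, congrArg Subtype.val (@hbA.1 ⟨c m, h4 m hm⟩ ⟨_, hn'⟩ hk)⟩
  refine ⟨(injective_iff_map_eq_zero _).mpr fun a ha => ?_, fun b => ?_⟩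
  · have : (LinearMap.toSpanSingleton A A a).ker = ⊤ := by
      by_contra h
      obtain ⟨n, hn, hle⟩ := Ideal.exists_le_maximal _ h
      obtain ⟨m, -, hm⟩ := hsurj n hn
      obtain ⟨s, hs, hsa⟩ := (elements_of_identifies h1 m).2 a 1 m.2.one_notMem (by rw [ha, mul_zero])
      exact hs ((congrArg PrimeSpectrum.asIdeal hm).ge (hle (show s • a = 0 from hsa)))
    simpa using (this.ge (Submodule.mem_top : (1 : A) ∈ ⊤) :)
  · let R : Ideal A :=
      { carrier := {a | algebraMap A B a * b ∈ (algebraMap A B).range}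
        add_mem' := fun {x y} ⟨u, hu⟩ ⟨v, hv⟩ => ⟨u + v, by rw [map_add, hu, hv, map_add, add_mul]⟩
        zero_mem' := ⟨0, by simp⟩
        smul_mem' := fun r x hx => by
          obtain ⟨w, hw⟩ := hx
          exact ⟨r * w, by rw [map_mul, hw, smul_eq_mul, map_mul, mul_assoc]⟩ }
    suffices h : R = ⊤ by
      obtain ⟨a, ha⟩ := (h.ge (Submodule.mem_top : (1 : A) ∈ ⊤) :)
      exact ⟨a, by simpa using ha⟩
    by_contra h
    obtain ⟨n, hn, hle⟩ := Ideal.exists_le_maximal _ h
    obtain ⟨m, hmc, hm⟩ := hsurj n hn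
    obtain ⟨a, s, hs, t, ht, h0⟩ := (elements_of_identifies h1 m).1 b
    -- spread the equation to all of the fibre over the local ring
    let J : Ideal B := (LinearMap.toSpanSingleton B B (algebraMap A B s * b - algebraMap A B a)).ker
    have hdis : ¬ Disjoint (J : Set B) (Submonoid.map (algebraMap A B) n.primeCompl : Submonoid B) := by
      intro hd
      obtain ⟨q, hq, hJq, hqd⟩ := Ideal.exists_le_prime_disjoint J _ hd
      let qq : PrimeSpectrum B := ⟨q, hq⟩
      have hqn : (c qq).asIdeal ≤ n := fun x hx => by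
        by_contra hxn
        exact Set.disjoint_left.mp hqd hx ⟨x, hxn, rfl⟩
      obtain ⟨m', ⟨hm', hqm'⟩, -⟩ := hB.2.2 qq
      obtain ⟨z, -, huniq⟩ := hA.2.2 (c qq)
      have e1 : c m' = z := huniq _ ⟨h4 m' hm', hqm'.map (PrimeSpectrum.continuous_comap _)⟩
      have e2 : (⟨n, hn.isPrime⟩ : PrimeSpectrum A) = z := huniq _
        ⟨(PrimeSpectrum.isClosed_singleton_iff_isMaximal _).mpr hn,
          (PrimeSpectrum.le_iff_specializes _ _).mp hqn⟩
      have := hinj m' m hm' hmc (e1.trans (e2.symm.trans hm.symm))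
      subst this
      exact ht ((PrimeSpectrum.le_iff_specializes _ _).mpr hqm' (hJq h0))
    obtain ⟨x, hxJ, s', hs', rfl⟩ := Set.not_disjoint_iff.mp hdis
    have h2 : algebraMap A B s' * (algebraMap A B s * b - algebraMap A B a) = 0 := hxJ
    have : s' * s ∈ R := ⟨s' * a, by rw [map_mul, map_mul]; linear_combination -h2⟩
    exact (hn.isPrime.mem_or_mem (hle this)).elim hs'
      fun h => hs ((congrArg PrimeSpectrum.asIdeal hm).ge h)

theorem isWLocal_of_homeomorph {X Y : Type u} [TopologicalSpace X] [TopologicalSpace Y]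
    [SpectralSpace X] (e : X ≃ₜ Y) (hY : ProEtW.IsWLocal Y) : ProEtW.IsWLocal X := by
  have hcl : ∀ x : X, IsClosed ({x} : Set X) ↔ IsClosed ({e x} : Set Y) := fun x => by
    rw [← e.isClosed_image, Set.image_singleton]
  refine ⟨inferInstance, ?_, fun x => ?_⟩
  · simp only [hcl]
    exact hY.2.1.preimage e.continuous
  · obtain ⟨z, ⟨hz, hxz⟩, huniq⟩ := hY.2.2 (e x)
    refine ⟨e.symm z, ⟨(hcl _).mpr (by rwa [e.apply_symm_apply]), ?_⟩, fun w hw => ?_⟩
    · have := hxz.map e.symm.continuous
      rwa [e.symm_apply_apply] at this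
    · apply e.injective
      rw [e.apply_symm_apply]
      exact huniq _ ⟨(hcl w).mp hw.1, hw.2.map e.continuous⟩

section Pull

variable {T : Type u} [TopologicalSpace T] [CompactSpace T] [T2Space T] [TotallyDisconnectedSpace T]
  (g : C(T, _root_.ConnectedComponents (PrimeSpectrum A)))

omit [Algebra A B] in
theorem isWLocal_pullRing (hA : ProEtW.IsWLocal (PrimeSpectrum A)) :
    ProEtW.IsWLocal (PrimeSpectrum (pullRing g)) ∧
      ∀ y : PrimeSpectrum (pullRing g), IsClosed ({y} : Set (PrimeSpectrum (pullRing g))) ↔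
        IsClosed ({PrimeSpectrum.comap (algebraMap A (pullRing g)) y} : Set (PrimeSpectrum A)) := by
  obtain ⟨h1, -, h3⟩ := isWLocal_pullSet g hA
  refine ⟨isWLocal_of_homeomorph (pullHomeo g) h1, fun y => ?_⟩
  rw [← (pullHomeo g).isClosed_image, Set.image_singleton]
  exact Set.ext_iff.mp h3 (pullHomeo g y)

variable (τ : C(PrimeSpectrum B, T))

omit [Algebra A B] [CompactSpace T] [T2Space T] [TotallyDisconnectedSpace T] in
theorem eq_of_locally {x y : B} (h : ∀ P : PrimeSpectrum B, ∃ e ∉ P.asIdeal, e * x = e * y) : x = y := by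
  have : (LinearMap.toSpanSingleton B B (x - y)).ker = ⊤ := by
    by_contra hne
    obtain ⟨n, hn, hle⟩ := Ideal.exists_le_maximal _ hne
    obtain ⟨e, he, hxy⟩ := h ⟨n, hn.isPrime⟩
    exact he (hle (show e • (x - y) = 0 by rw [smul_eq_mul, mul_sub, hxy, sub_self]))
  have h1 : (1 : B) • (x - y) = 0 := this.ge (Submodule.mem_top : (1 : B) ∈ ⊤)
  rwa [one_smul, sub_eq_zero] at h1

omit [Algebra A B] [CompactSpace T] [T2Space T] [TotallyDisconnectedSpace T] in
theorem exists_clopenIdem (U : Set T) (hU : IsClopen U) :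
    ∃ e : B, IsIdempotentElem e ∧ ∀ P : PrimeSpectrum B, e ∉ P.asIdeal ↔ τ P ∈ U := by
  obtain ⟨e, he, h⟩ := PrimeSpectrum.isClopen_iff.mp (hU.preimage τ.continuous)
  exact ⟨e, he, fun P => (Set.ext_iff.mp h P).symm⟩

omit [Algebra A B] [CompactSpace T] [T2Space T] [TotallyDisconnectedSpace T] in
theorem eq_zero_of_forall_mem {e : B} (he : IsIdempotentElem e)
    (h : ∀ P : PrimeSpectrum B, e ∈ P.asIdeal) : e = 0 :=
  he.eq_zero_of_isNilpotent (nilpotent_iff_mem_prime.mpr fun p hp => h ⟨p, hp⟩)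

omit [T2Space T] [TotallyDisconnectedSpace T] in
theorem exists_lcValue (f : LocallyConstant T A) :
    ∃ b : B, ∀ (a : A) (E : B), IsIdempotentElem E → (∀ P : PrimeSpectrum B, E ∉ P.asIdeal → f (τ P) = a) →
      E * b = E * algebraMap A B a := by
  classical
  choose E hE hEU using fun a : A => exists_clopenIdem τ (f ⁻¹' {a}) (f.isLocallyConstant.isClopen_fiber a)
  let s := f.range_finite.toFinset
  refine ⟨∑ a ∈ s, E a * algebraMap A B a, fun a E' hE' hEa => ?_⟩
  have h0 : ∀ a' ≠ a, E' * E a' = 0 := fun a' hne => by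
    refine eq_zero_of_forall_mem (hE'.mul (hE a')) fun P => ?_
    by_contra h
    have h1 : E' ∉ P.asIdeal := fun h' => h (Ideal.mul_mem_right _ _ h')
    have h2 : E a' ∉ P.asIdeal := fun h' => h (Ideal.mul_mem_left _ _ h')
    exact hne (((hEU a' P).mp h2).symm.trans (hEa P h1))
  have h1 : E' * E a = E' := by
    refine sub_eq_zero.mp (neg_eq_zero.mp ?_)
    rw [show -(E' * E a - E') = E' * (1 - E a) by ring]
    refine eq_zero_of_forall_mem (hE'.mul (hE a).one_sub) fun P => ?_
    by_contra h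
    have h1 : E' ∉ P.asIdeal := fun h' => h (Ideal.mul_mem_right _ _ h')
    have h2 : E a ∉ P.asIdeal := (hEU a P).mpr (hEa P h1)
    exact h (Ideal.mul_mem_left _ _ ((P.2.mem_or_mem (show E a * (1 - E a) ∈ P.asIdeal by
      rw [mul_sub, mul_one, (hE a).eq, sub_self]; exact zero_mem _)).resolve_left h2))
  rw [Finset.mul_sum, Finset.sum_eq_single a (fun a' _ hne => by rw [← mul_assoc, h0 a' hne, zero_mul])
    fun ha => ?_, ← mul_assoc, h1]
  rw [← mul_assoc, h1, eq_zero_of_forall_mem hE' fun P => ?_, zero_mul]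
  by_contra hP
  exact ha (f.range_finite.mem_toFinset.mpr ⟨τ P, hEa P hP⟩)

/-- the value of a locally constant function along `τ` -/
noncomputable def lcValue (f : LocallyConstant T A) : B := (exists_lcValue τ f).choose

omit [T2Space T] [TotallyDisconnectedSpace T] in
theorem exists_lcValue_idem (f : LocallyConstant T A) (P : PrimeSpectrum B) :
    ∃ e ∉ P.asIdeal, ∀ r : B, r * e * lcValue τ f = r * e * algebraMap A B (f (τ P)) := by
  obtain ⟨e, he, heU⟩ := exists_clopenIdem τ _ (f.isLocallyConstant.isClopen_fiber (f (τ P)))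
  refine ⟨e, (heU P).mpr rfl, fun r => ?_⟩
  rw [mul_assoc, mul_assoc, lcValue,
    (exists_lcValue τ f).choose_spec (f (τ P)) e he fun Q hQ => (heU Q).mp hQ]

/-- pulling back locally constant functions along `τ` -/
noncomputable def lcLift : LocallyConstant T A →ₐ[A] B where
  toFun := lcValue τ
  map_one' := eq_of_locally fun P => by
    obtain ⟨e, he, h⟩ := exists_lcValue_idem (A := A) τ 1 P
    exact ⟨e, he, by simpa using h 1⟩
  map_mul' f f' := eq_of_locally fun P => by
    obtain ⟨e, he, h⟩ := exists_lcValue_idem (A := A) τ (f * f') P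
    obtain ⟨e₁, he₁, h₁⟩ := exists_lcValue_idem (A := A) τ f P
    obtain ⟨e₂, he₂, h₂⟩ := exists_lcValue_idem (A := A) τ f' P
    refine ⟨e * e₁ * e₂, P.2.mul_notMem (P.2.mul_notMem he he₁) he₂, ?_⟩
    have k := h (e₁ * e₂)
    have k₁ := h₁ (e * e₂)
    have k₂ := h₂ (e * e₁)
    simp only [LocallyConstant.coe_mul, Pi.mul_apply, map_mul] at k
    linear_combination k - lcValue τ f' * k₁ - algebraMap A B (f (τ P)) * k₂
  map_zero' := eq_of_locally fun P => by
    obtain ⟨e, he, h⟩ := exists_lcValue_idem (A := A) τ 0 P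
    exact ⟨e, he, by simpa using h 1⟩
  map_add' f f' := eq_of_locally fun P => by
    obtain ⟨e, he, h⟩ := exists_lcValue_idem (A := A) τ (f + f') P
    obtain ⟨e₁, he₁, h₁⟩ := exists_lcValue_idem (A := A) τ f P
    obtain ⟨e₂, he₂, h₂⟩ := exists_lcValue_idem (A := A) τ f' P
    refine ⟨e * e₁ * e₂, P.2.mul_notMem (P.2.mul_notMem he he₁) he₂, ?_⟩
    have k := h (e₁ * e₂)
    have k₁ := h₁ (e * e₂)
    have k₂ := h₂ (e * e₁)
    simp only [LocallyConstant.coe_add, Pi.add_apply, map_add] at k
    linear_combination k - k₁ - k₂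
  commutes' a := eq_of_locally fun P => by
    obtain ⟨e, he, h⟩ := exists_lcValue_idem (A := A) τ (algebraMap A _ a) P
    exact ⟨e, he, by simpa [LocallyConstant.coe_algebraMap] using h 1⟩

theorem lcPair_lcLift (P : PrimeSpectrum B) :
    lcPair (PrimeSpectrum.comap (lcLift (A := A) τ).toRingHom P) =
      (PrimeSpectrum.comap (algebraMap A B) P, τ P) := by
  refine Prod.ext ?_ ?_
  · refine PrimeSpectrum.ext (Ideal.ext fun a => ?_)
    change lcLift (A := A) τ (algebraMap A _ a) ∈ P.asIdeal ↔ _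
    rw [AlgHom.commutes]
    rfl
  · change pointOf _ = τ P
    by_contra hne
    obtain ⟨U, hU, hxU, hτU⟩ := exists_isClopen_of_totally_separated hne
    obtain ⟨e, he, h⟩ := exists_lcValue_idem (A := A) τ (LocallyConstant.charFn A hU) P
    have h1 : LocallyConstant.charFn A hU ∉
        (PrimeSpectrum.comap (lcLift (A := A) τ).toRingHom P).asIdeal := (pointOf_mem_iff _ hU).mp hxU
    refine h1 ((P.2.mem_or_mem (show e * lcValue τ (LocallyConstant.charFn A hU) ∈ P.asIdeal from ?_)).resolve_left he)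
    have h2 := h 1
    rw [one_mul, LocallyConstant.coe_charFn, Set.indicator_of_notMem (show τ P ∉ U from hτU), map_zero,
      mul_zero] at h2
    rw [h2]
    exact zero_mem _

theorem exists_pullRing_hom (hτ : ∀ P, g (τ P) = _root_.ConnectedComponents.mk (PrimeSpectrum.comap (algebraMap A B) P)) :
    ∃ φ : pullRing g →ₐ[A] B, ∀ P,
      pullPair g (PrimeSpectrum.comap φ.toRingHom P) = (PrimeSpectrum.comap (algebraMap A B) P, τ P) := by
  have hkill : ∀ x ∈ Ideal.span (pullRel g), lcLift (A := A) τ x = 0 := by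
    change Ideal.span (pullRel g) ≤ RingHom.ker (lcLift (A := A) τ)
    refine Ideal.span_le.mpr fun x hx => ?_
    refine RingHom.mem_ker.mpr (eq_zero_of_forall_mem ((isIdempotentElem_pullRel g x hx).map _) fun P => ?_)
    exact (pullRel_subset_iff g (PrimeSpectrum.comap (lcLift (A := A) τ).toRingHom P)).mpr
      (by rw [lcPair_lcLift]; exact (hτ P).symm) hx
  exact ⟨Ideal.Quotient.liftₐ _ (lcLift τ) hkill, fun P => lcPair_lcLift τ P⟩

end Pull

theorem zarFactors_of_identifies (h1 : EtPBC.IdentifiesLocalRings A B)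
    (hA : ProEtW.IsWLocal (PrimeSpectrum A)) (hB : ProEtW.IsWLocal (PrimeSpectrum B))
    (h4 : ∀ y : PrimeSpectrum B, IsClosed ({y} : Set (PrimeSpectrum B)) →
      IsClosed ({PrimeSpectrum.comap (algebraMap A B) y} : Set (PrimeSpectrum A))) :
    ZarFactors A B := by
  let g : C(_root_.ConnectedComponents (PrimeSpectrum B), _root_.ConnectedComponents (PrimeSpectrum A)) :=
    ⟨_, (PrimeSpectrum.continuous_comap (algebraMap A B)).connectedComponentsMap_continuous⟩
  let τ : C(PrimeSpectrum B, _root_.ConnectedComponents (PrimeSpectrum B)) :=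
    ⟨_, _root_.ConnectedComponents.continuous_coe⟩
  obtain ⟨φ, hφ⟩ := exists_pullRing_hom g τ fun P => rfl
  have hz := zarFactors_pullRing g (zarFactors_self A)
  obtain ⟨hw, hcl⟩ := isWLocal_pullRing g hA
  let : Algebra (pullRing g) B := φ.toRingHom.toAlgebra
  have : IsScalarTower A (pullRing g) B :=
    ⟨fun a x b => by
      obtain ⟨x, rfl⟩ := Ideal.Quotient.mk_surjective x
      change φ (a • Ideal.Quotient.mk (Ideal.span (pullRel g)) x) * b = a • (φ (Ideal.Quotient.mk _ x) * b)
      rw [map_smul, smul_mul_assoc]⟩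
  obtain ⟨e, he⟩ := exists_pullRing_components g
  have hb := bijective_of_identifies (identifiesLocalRings_cancel hz.identifiesLocalRings h1) hw hB
    (fun y hy => (hcl _).mpr (by
      change IsClosed ({(pullPair g (PrimeSpectrum.comap φ.toRingHom y)).1} : Set (PrimeSpectrum A))
      rw [hφ y]
      exact h4 y hy))
    (by
      convert e.symm.bijective
      refine funext fun k => ?_
      obtain ⟨y, rfl⟩ := _root_.ConnectedComponents.surjective_coe k
      apply e.injective
      rw [e.apply_symm_apply]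
      exact (he _).trans (congrArg Prod.snd (hφ y)))
  exact hz.congr (AlgEquiv.ofBijective φ hb)

end Groth.Agent.WLoc
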