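import Mathlib.Topology.ExtremallyDisconnected
import Mathlib.Topology.Maps.Basic

/-!
# Extremal disconnectedness is local
-/

set_option autoImplicit false
universe u

open Topology

namespace Groth.Agent.WLoc

theorem extremallyDisconnected_of_locally {X Y : Type u} [TopologicalSpace X] [TopologicalSpace Y]
    [ExtremallyDisconnected Y] (f : X → Y)
    (h : ∀ x, ∃ U : Set X, IsOpen U ∧ x ∈ U ∧ IsOpenEmbedding (U.domRestrict f)) :
    ExtremallyDisconnected X := by
  refine ⟨fun W hW => ?_⟩
  rw [isOpen_iff_forall_mem_open]
  intro x hx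
  obtain ⟨U, hU, hxU, hf⟩ := h x
  refine ⟨U ∩ closure W, Set.inter_subset_right, ?_, hxU, hx⟩
  have h1 : IsOpen (closure ((↑) ⁻¹' W : Set U)) := by
    rw [hf.isInducing.closure_eq_preimage_closure_image]
    exact (ExtremallyDisconnected.open_closure _
      (hf.isOpenMap _ (hW.preimage continuous_subtype_val))).preimage hf.continuous
  have h2 := hU.isOpenEmbedding_subtypeVal.isOpenMap _ h1
  convert h2 using 1
  rw [← hU.isOpenEmbedding_subtypeVal.isOpenMap.preimage_closure_eq_closure_preimage
    continuous_subtype_val, Set.image_preimage_eq_inter_range, Subtype.range_coe, Set.inter_comm]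

theorem extremallyDisconnected_of_isOpenEmbedding {X Y : Type u} [TopologicalSpace X]
    [TopologicalSpace Y] [ExtremallyDisconnected Y] {f : X → Y} (hf : IsEmbedding f)
    (ho : IsOpen (Set.range f)) : ExtremallyDisconnected X :=
  extremallyDisconnected_of_locally f fun x => ⟨Set.univ, isOpen_univ, Set.mem_univ x,
    (IsOpenEmbedding.mk hf ho).comp isOpen_univ.isOpenEmbedding_subtypeVal⟩

end Groth.Agent.WLoc
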