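import Groth.Agent.WLoc.Construction
import Groth.Prelude.Def_ProEtW
import Mathlib.Algebra.Category.Ring.Under.Basic
import Mathlib.Algebra.Category.CommAlgCat.Basic
import Mathlib.RingTheory.Idempotents
import Mathlib.RingTheory.Jacobson.Ideal

/-!
# The local-isomorphism colimit: ind-Zariski, idempotents, kernel of the point
-/

set_option autoImplicit false
set_option backward.isDefEq.respectTransparency false

universe u

open CategoryTheory CategoryTheory.Limits

namespace Groth.Agent.WLoc

section IndZariski

variable (R K : Type u) [CommRing R] [CommRing K] [Algebra R K]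

/-- the neighbourhoods as objects under `R` -/
noncomputable def underDiagram : Nbhd R K ⥤ Under (CommRingCat.of R) where
  obj X := CommRingCat.mkUnder (CommRingCat.of R) X.carrier
  map f := AlgHom.toUnder f.1

/-- the cocone with vertex `ZarHens R K` -/
noncomputable def underCocone : Cocone (underDiagram R K) where
  pt := CommRingCat.mkUnder (CommRingCat.of R) (ZarHens R K)
  ι :=
    { app := fun X ↦ AlgHom.toUnder (ZarHens.of X)
      naturality := fun X Y f ↦ CommRingCat.mkUnder_ext fun a ↦ ZarHens.of_hom f a }

variable {R K}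

/-- a morphism out of `mkUnder` as an algebra map -/
noncomputable def underOutHom {A : Type u} [CommRing A] [Algebra R A] {X : Under (CommRingCat.of R)}
    (f : CommRingCat.mkUnder (CommRingCat.of R) A ⟶ X) :
    letI := X.hom.hom.toAlgebra; A →ₐ[R] X.right :=
  letI := X.hom.hom.toAlgebra
  { f.right.hom with
    commutes' := fun r ↦
      congrArg (fun g : CommRingCat.of R ⟶ X.right ↦ g.hom r) (Under.w f) }

variable (R K) in
/-- it is a colimit cocone -/
noncomputable def underIsColimit : IsColimit (underCocone R K) where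
  desc s :=
    letI := s.pt.hom.hom.toAlgebra
    let φ : ZarHens R K →ₐ[R] s.pt.right := ZarHens.lift (C := s.pt.right)
        (fun X ↦ underOutHom (A := X.carrier) (s.ι.app X))
        (fun X Y f x ↦ congrArg (fun g ↦ g.right.hom x) (s.w f))
    (Under.homMk (CommRingCat.ofHom φ.toRingHom) (by
      ext r
      exact φ.commutes r) : CommRingCat.mkUnder (CommRingCat.of R) (ZarHens R K) ⟶ s.pt)
  fac s X := CommRingCat.mkUnder_ext (A := X.carrier) fun a ↦
    letI := s.pt.hom.hom.toAlgebra
    ZarHens.lift_of (C := s.pt.right) (fun X ↦ underOutHom (A := X.carrier) (s.ι.app X))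
      (fun X Y f x ↦ congrArg (fun g ↦ g.right.hom x) (s.w f)) X a
  uniq s m hm := CommRingCat.mkUnder_ext (A := ZarHens R K) fun b ↦ by
    let := s.pt.hom.hom.toAlgebra
    obtain ⟨X, x, rfl⟩ := ZarHens.exists_rep (R := R) (K := K) b
    refine (congrArg (fun g ↦ g.right.hom x) (hm X)).trans ?_
    exact (ZarHens.lift_of (C := s.pt.right)
      (fun X ↦ underOutHom (A := X.carrier) (s.ι.app X))
      (fun X Y f x ↦ congrArg (fun g ↦ g.right.hom x) (s.w f)) X x).symm

/-- `ZarHens R K` and all algebras isomorphic to it are ind-Zariski. -/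
theorem isIndZariski_of_algEquiv {B : Type u} [CommRing B] [Algebra R B]
    (e : ZarHens R K ≃ₐ[R] B) : EtPBC.IsIndZariski R B := by
  refine ⟨Nbhd R K, inferInstance, inferInstance, underDiagram R K, underCocone R K,
    underIsColimit R K, fun X ↦ ?_, ⟨?_⟩⟩
  · exact (Algebra.algebra_ext _ _ fun _ ↦ rfl : (Nbhd.instAlgebraCarrier X) =
      ((underDiagram R K).obj X).hom.hom.toAlgebra) ▸ (inferInstance : Algebra.IsLocalIso R X.carrier)
  · exact
      { hom := AlgHom.toUnder e.toAlgHom
        inv := AlgHom.toUnder e.symm.toAlgHom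
        hom_inv_id := CommRingCat.mkUnder_ext fun a ↦ e.symm_apply_apply a
        inv_hom_id := CommRingCat.mkUnder_ext fun a ↦ e.apply_symm_apply a }

end IndZariski

/-- finite products of local isomorphisms -/
theorem isLocalIso_prod (R S T : Type u) [CommRing R] [CommRing S] [CommRing T] [Algebra R S]
    [Algebra R T] [Algebra.IsLocalIso R S] [Algebra.IsLocalIso R T] :
    Algebra.IsLocalIso R (S × T) := by
  let F : Bool → CommAlgCat.{u} R := fun b => cond b (CommAlgCat.of R S) (CommAlgCat.of R T)
  have : ∀ b, Algebra.IsLocalIso R (F b) := fun b => by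
    cases b
    · change Algebra.IsLocalIso R T; infer_instance
    · change Algebra.IsLocalIso R S; infer_instance
  have := Algebra.IsLocalIso.pi_of_finite R (fun b => (F b : Type u))
  exact Algebra.IsLocalIso.of_algEquiv (S := ∀ b, F b)
    { toFun := fun f => (f true, f false)
      invFun := fun p b => by cases b; exacts [p.2, p.1]
      left_inv := fun f => by funext b; cases b <;> rfl
      right_inv := fun p => rfl
      map_mul' := fun _ _ => rfl
      map_add' := fun _ _ => rfl
      commutes' := fun _ => rfl }

namespace ZarHens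

variable {R K : Type u} [CommRing R] [CommRing K] [Algebra R K]

/-- the map out of a Zariski neighbourhood, with its point -/
theorem exists_rep_point (z : ZarHens R K) :
    ∃ (X : Nbhd R K) (x : X.carrier), of X x = z ∧ X.point x = π R K z := by
  obtain ⟨X, x, rfl⟩ := exists_rep z
  exact ⟨X, x, rfl, (π_of X x).symm⟩

/-- splitting off the locus where an element is invertible at the point -/
theorem exists_idem_quasiInverse (z : ZarHens R K) (y : K)
    (hy : π R K z * π R K z * y = π R K z) :
    ∃ E W : ZarHens R K, IsIdempotentElem E ∧ π R K E = π R K z * y ∧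
      π R K W = π R K z * y * y := by
  obtain ⟨X, x, -, hx⟩ := exists_rep_point z
  rw [← hx] at hy ⊢
  set k := X.point x with hk
  let e := k * y
  have he : IsIdempotentElem e := by
    change k * y * (k * y) = k * y
    rw [show k * y * (k * y) = k * k * y * y by ring, hy]
  have he0 : e * (1 - e) = 0 := by rw [mul_sub, mul_one, he.eq, sub_self]
  let P := AlgEquiv.prodQuotientOfIsIdempotentElem R he he.one_sub (add_sub_cancel e 1) he0
  have hunit : IsUnit (((Ideal.Quotient.mkₐ R (Ideal.span {1 - e})).comp X.point) x) := by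
    refine IsUnit.of_mul_eq_one (Ideal.Quotient.mk (Ideal.span {1 - e}) y) ?_
    change Ideal.Quotient.mk (Ideal.span {1 - e}) k * _ = 1
    rw [← map_mul, ← map_one (Ideal.Quotient.mk (Ideal.span {1 - e})), Ideal.Quotient.eq,
      Ideal.mem_span_singleton]
    exact ⟨-1, by ring⟩
  let χ : Localization.Away x →ₐ[R] K ⧸ Ideal.span {1 - e} :=
    IsLocalization.liftAlgHom (M := Submonoid.powers x)
      (f := (Ideal.Quotient.mkₐ R (Ideal.span {1 - e})).comp X.point)
      fun ⟨_, n, hn⟩ ↦ by subst hn; rw [map_pow]; exact hunit.pow n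
  let φ : X.carrier × Localization.Away x →ₐ[R] K := P.symm.toAlgHom.comp
    ((((Ideal.Quotient.mkₐ R (Ideal.span {e})).comp X.point).comp (AlgHom.fst R _ _)).prod
      (χ.comp (AlgHom.snd R _ _)))
  have : Algebra.IsLocalIso R (Localization.Away x) := Algebra.IsLocalIso.trans R X.carrier _
  have := isLocalIso_prod R X.carrier (Localization.Away x)
  obtain ⟨θ, hθ⟩ := exists_algHom (K := K) (X.carrier × Localization.Away x) φ
  refine ⟨θ ((0 : X.carrier), (1 : Localization.Away x)), θ ((0 : X.carrier), IsLocalization.Away.invSelf x),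
    by rw [IsIdempotentElem, ← map_mul, Prod.mk_mul_mk, mul_zero, mul_one], ?_, ?_⟩
  · rw [← AlgHom.comp_apply (π R K) θ, hθ]
    change P.symm _ = _
    refine (AlgEquiv.symm_apply_eq P).mpr (Prod.ext ?_ ?_)
    · change Ideal.Quotient.mk _ (X.point 0) = Ideal.Quotient.mk _ e
      rw [map_zero, map_zero, Ideal.Quotient.eq_zero_iff_mem.mpr (Ideal.mem_span_singleton_self e)]
    · change χ 1 = Ideal.Quotient.mk _ e
      rw [map_one, ← map_one (Ideal.Quotient.mk (Ideal.span {1 - e})), Ideal.Quotient.eq,
        Ideal.mem_span_singleton]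
  · rw [← AlgHom.comp_apply (π R K) θ, hθ, show k * y * y = e * y from rfl]
    change P.symm _ = _
    refine (AlgEquiv.symm_apply_eq P).mpr (Prod.ext ?_ ?_)
    · change Ideal.Quotient.mk _ (X.point 0) = Ideal.Quotient.mk _ (e * y)
      rw [map_zero, map_zero, map_mul, Ideal.Quotient.eq_zero_iff_mem.mpr
        (Ideal.mem_span_singleton_self e), zero_mul]
    · change χ (IsLocalization.Away.invSelf x) = Ideal.Quotient.mk (Ideal.span {1 - e}) (e * y)
      refine hunit.mul_left_cancel ?_
      rw [show ((Ideal.Quotient.mkₐ R (Ideal.span {1 - e})).comp X.point) x =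
          χ (algebraMap X.carrier (Localization.Away x) x) from (IsLocalization.lift_eq _ x).symm,
        ← map_mul, IsLocalization.Away.mul_invSelf, map_one]
      rw [show χ (algebraMap X.carrier (Localization.Away x) x) =
          Ideal.Quotient.mk (Ideal.span {1 - e}) k from IsLocalization.lift_eq _ x, ← map_mul,
        ← map_one (Ideal.Quotient.mk (Ideal.span {1 - e})), Ideal.Quotient.eq,
        Ideal.mem_span_singleton]
      refine ⟨1 + e, ?_⟩
      change 1 - k * (k * y * y) = (1 - k * y) * (1 + k * y)
      ring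

/-- if the base surjects onto `K`, the kernel of the point comes from the base -/
theorem ker_π_eq_map (hK : Function.Surjective (algebraMap R K)) :
    RingHom.ker (π R K) = (RingHom.ker (algebraMap R K)).map (algebraMap R (ZarHens R K)) := by
  refine le_antisymm (fun z hz => ?_) (Ideal.map_le_iff_le_comap.mpr fun a ha => ?_)
  · obtain ⟨X, x, rfl⟩ := exists_rep z
    rw [RingHom.mem_ker, π_of] at hz
    set I := RingHom.ker (algebraMap R K)
    let J := I.map (algebraMap R X.carrier)
    let S : Submodule X.carrier X.carrier := J.colon {x}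
    have hψ : Function.Surjective X.point := fun b => by
      obtain ⟨a, rfl⟩ := hK b
      exact ⟨algebraMap R _ a, X.point.commutes a⟩
    have htop : Ideal.map X.point (S : Ideal X.carrier) = ⊤ := by
      by_contra h
      obtain ⟨m, hm, hle⟩ := Ideal.exists_le_maximal _ h
      let q := m.comap X.point
      obtain ⟨g, hg, hstd⟩ :=
        Algebra.IsLocalIso.exists_notMem_isStandardOpenImmersion (R := R) q
      obtain ⟨r, hr⟩ := hstd.exists_away
      -- write `x` near `q` as a fraction from the base
      obtain ⟨n, c, hc⟩ := IsLocalization.Away.surj r (algebraMap X.carrier (Localization.Away g) x)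
      have hrq : IsUnit (algebraMap R (Localization.Away g) r) :=
        IsLocalization.Away.algebraMap_isUnit r
      -- `g` times a power of `r` multiplies `c` into `I`
      have hcI : ∃ d : R, algebraMap R K d ∉ m ∧ d * c ∈ I := by
        obtain ⟨gb, hgb⟩ := hK (X.point g)
        have h1 : algebraMap X.carrier (Localization.Away g)
            (x * algebraMap R X.carrier r ^ n) =
            algebraMap X.carrier (Localization.Away g) (algebraMap R X.carrier c) := by
          rw [map_mul, map_pow, ← IsScalarTower.algebraMap_apply,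
            ← IsScalarTower.algebraMap_apply]
          exact hc
        obtain ⟨⟨_, k, rfl⟩, hk⟩ := (IsLocalization.eq_iff_exists (Submonoid.powers g) _).mp h1
        have h2 := congrArg X.point hk
        simp only [map_mul, map_pow, hz, zero_mul, mul_zero, AlgHom.commutes, ← hgb] at h2
        refine ⟨gb ^ k, fun h => hg (show X.point g ∈ m from ?_), ?_⟩
        · rw [map_pow, hgb] at h
          exact hm.isPrime.mem_of_pow_mem _ h
        · rw [RingHom.mem_ker, map_mul, map_pow]
          exact h2.symm
      obtain ⟨d, hdm, hd⟩ := hcI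
      -- so a multiple of `x` lies in `J`
      have hmem : algebraMap X.carrier (Localization.Away g) (algebraMap R X.carrier d * x) ∈
          J.map (algebraMap X.carrier (Localization.Away g)) := by
        rw [Ideal.map_map, ← IsScalarTower.algebraMap_eq]
        refine (Ideal.mul_unit_mem_iff_mem _ (hrq.pow n)).mp ?_
        rw [map_mul, ← IsScalarTower.algebraMap_apply, mul_assoc, hc, ← map_mul]
        exact Ideal.mem_map_of_mem _ hd
      obtain ⟨j, hj⟩ : ∃ j : ℕ, g ^ j * (algebraMap R X.carrier d * x) ∈ J := by
        obtain ⟨_, ⟨j, rfl⟩, hj⟩ :=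
          (IsLocalization.algebraMap_mem_map_algebraMap_iff (Submonoid.powers g) _ _ _).mp hmem
        exact ⟨j, hj⟩
      have hS : g ^ j * algebraMap R X.carrier d ∈ (S : Ideal X.carrier) := by
        rw [Submodule.mem_colon_singleton, smul_eq_mul, mul_assoc]
        exact hj
      have := hle (Ideal.mem_map_of_mem X.point hS)
      rw [map_mul, map_pow, AlgHom.commutes] at this
      rcases hm.isPrime.mem_or_mem this with h' | h'
      · exact hg (hm.isPrime.mem_of_pow_mem _ h')
      · exact hdm h'
    obtain ⟨h, hhS, hh1⟩ := (Ideal.mem_map_iff_of_surjective X.point hψ).mp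
      (htop.ge (Submodule.mem_top : (1 : K) ∈ ⊤))
    let σ : Localization.Away h →ₐ[R] K := IsLocalization.liftAlgHom (M := Submonoid.powers h)
      (f := X.point) fun ⟨_, n, hn⟩ ↦ by subst hn; rw [map_pow, hh1, one_pow]; exact isUnit_one
    have : Algebra.IsLocalIso R (Localization.Away h) := Algebra.IsLocalIso.trans R X.carrier _
    let f : X ⟶ Nbhd.mk' (Localization.Away h) σ :=
      Nbhd.homMk' (IsScalarTower.toAlgHom R X.carrier (Localization.Away h)) fun y ↦
        IsLocalization.lift_eq _ y
    rw [← of_hom f x, Nbhd.homMk'_apply]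
    have hx : algebraMap X.carrier (Localization.Away h) x ∈ I.map (algebraMap R _) := by
      rw [IsScalarTower.algebraMap_eq R X.carrier, ← Ideal.map_map]
      refine (Ideal.unit_mul_mem_iff_mem _ (IsLocalization.Away.algebraMap_isUnit h)).mp ?_
      rw [← map_mul]
      exact Ideal.mem_map_of_mem _ (Submodule.mem_colon_singleton.mp hhS)
    have h3 := Ideal.mem_map_of_mem ((of (Nbhd.mk' (Localization.Away h) σ)).comp
      (Nbhd.equiv (Localization.Away h) σ).symm.toAlgHom).toRingHom hx
    rw [Ideal.map_map] at h3
    refine (show _ = I.map (algebraMap R (ZarHens R K)) from congrArg (fun g => Ideal.map g I) ?_).le h3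
    exact RingHom.ext fun a => ((of (Nbhd.mk' (Localization.Away h) σ)).comp
      (Nbhd.equiv (Localization.Away h) σ).symm.toAlgHom).commutes a
  · rw [Ideal.mem_comap, RingHom.mem_ker, AlgHom.commutes]
    exact ha

end ZarHens

/-- a sufficient condition for w-locality -/
theorem isWLocal_of_idempotents {B : Type u} [CommRing B] (J : Ideal B)
    (hjac : J ≤ Ideal.jacobson ⊥) (hmax : ∀ P : Ideal B, P.IsPrime → J ≤ P → P.IsMaximal)
    (hsep : ∀ m₁ m₂ : Ideal B, m₁.IsMaximal → m₂.IsMaximal → m₁ ≠ m₂ →
      ∃ e, IsIdempotentElem e ∧ e ∈ m₁ ∧ e ∉ m₂) :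
    ProEtW.IsWLocal (PrimeSpectrum B) ∧
      ProEtW.closedPoints (PrimeSpectrum B) = PrimeSpectrum.zeroLocus (J : Set B) := by
  have hcl : ProEtW.closedPoints (PrimeSpectrum B) = PrimeSpectrum.zeroLocus (J : Set B) := by
    ext P
    rw [ProEtW.closedPoints, Set.mem_ofPred_eq, PrimeSpectrum.isClosed_singleton_iff_isMaximal,
      PrimeSpectrum.mem_zeroLocus, SetLike.coe_subset_coe]
    exact ⟨fun h => hjac.trans (sInf_le ⟨bot_le, h⟩), fun h => hmax _ P.2 h⟩
  refine ⟨⟨inferInstance, ?_, fun x => ?_⟩, hcl⟩
  · rw [← ProEtW.closedPoints, hcl]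
    exact PrimeSpectrum.isClosed_zeroLocus _
  · obtain ⟨m, hm, hle⟩ := Ideal.exists_le_maximal _ x.2.ne_top
    refine ⟨⟨m, hm.isPrime⟩, ⟨(PrimeSpectrum.isClosed_singleton_iff_isMaximal _).mpr hm,
      (PrimeSpectrum.le_iff_specializes _ _).mp hle⟩, fun y hy => PrimeSpectrum.ext ?_⟩
    have hym := (PrimeSpectrum.isClosed_singleton_iff_isMaximal _).mp hy.1
    by_contra hne
    obtain ⟨e, he, he1, he2⟩ := hsep _ _ hym hm hne
    have hxy : x.asIdeal ≤ y.asIdeal := (PrimeSpectrum.le_iff_specializes _ _).mpr hy.2
    rcases x.2.mem_or_mem (show e * (1 - e) ∈ x.asIdeal by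
      rw [mul_sub, mul_one, he.eq, sub_self]; exact zero_mem _) with h | h
    · exact he2 (hle h)
    · exact hym.ne_top ((Ideal.eq_top_iff_one _).mpr (by simpa using add_mem (hxy h) he1))

end Groth.Agent.WLoc
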