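import Groth.Agent.Hensel.EtaleNbhd
import Groth.Agent.Hensel.Pairs
import Mathlib.RingTheory.LocalIso
import Mathlib.RingTheory.RingHom.Etale
import Mathlib.Algebra.Category.Ring.Basic
import Mathlib.Algebra.Category.Ring.Colimits
import Mathlib.Algebra.Category.Ring.FilteredColimits
import Mathlib.CategoryTheory.Limits.ConcreteCategory.Basic
import Mathlib.RingTheory.Flat.EquationalCriterion

/-!
# The colimit of local isomorphisms with a point

For an `R`-algebra `K`, the colimit of all local isomorphisms `R → E` equipped with an `R`-algebra map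
`E →ₐ[R] K` (a Zariski analogue of the localization colimit; adapted from `Groth.Agent.Hensel.Construction`).
-/

set_option autoImplicit false

universe u

open CategoryTheory CategoryTheory.Limits TensorProduct

namespace Groth.Agent.WLoc

open Hensel (exists_away_coequalizing)

/-- local isomorphisms are étale -/
theorem etale_of_isLocalIso (R S : Type u) [CommRing R] [CommRing S] [Algebra R S]
    [Algebra.IsLocalIso R S] : Algebra.Etale R S := by
  rw [← RingHom.etale_algebraMap]
  refine RingHom.Etale.ofLocalizationSpanTarget _ _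
    (Algebra.IsLocalIso.span_isStandardOpenImmersion_eq_top R S) fun g => ?_
  have h := g.2
  obtain ⟨r, hr⟩ := h.exists_away
  rw [← IsScalarTower.algebraMap_eq R S (Localization.Away g.1)]
  exact RingHom.etale_algebraMap.mpr (Algebra.Etale.of_isLocalizationAway r)

variable (R K : Type u) [CommRing R] [CommRing K] [Algebra R K]

/-- A presented local isomorphism with a `K`-point. -/
structure Nbhd : Type u where
  /-- number of generators -/
  n : ℕ
  /-- the relations -/
  rels : Ideal (MvPolynomial (Fin n) R)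
  localIso : Algebra.IsLocalIso R (MvPolynomial (Fin n) R ⧸ rels)
  /-- the point -/
  pt : (MvPolynomial (Fin n) R ⧸ rels) →ₐ[R] K

variable {R K}

namespace Nbhd

/-- the underlying algebra -/
def carrier (X : Nbhd R K) : Type u := MvPolynomial (Fin X.n) R ⧸ X.rels

noncomputable instance (X : Nbhd R K) : CommRing X.carrier :=
  inferInstanceAs (CommRing (MvPolynomial (Fin X.n) R ⧸ X.rels))

noncomputable instance (X : Nbhd R K) : Algebra R X.carrier :=
  inferInstanceAs (Algebra R (MvPolynomial (Fin X.n) R ⧸ X.rels))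

instance (X : Nbhd R K) : Algebra.IsLocalIso R X.carrier := X.localIso

instance (X : Nbhd R K) : Algebra.Etale R X.carrier := etale_of_isLocalIso R X.carrier

/-- the point, on `carrier` -/
noncomputable def point (X : Nbhd R K) : X.carrier →ₐ[R] K := X.pt

theorem exists_of (E : Type u) [CommRing E] [Algebra R E] [Algebra.IsLocalIso R E] (σ : E →ₐ[R] K) :
    ∃ (X : Nbhd R K) (e : X.carrier ≃ₐ[R] E), ∀ x, X.point x = σ (e x) := by
  obtain ⟨n, f, hf⟩ := Algebra.FiniteType.iff_quotient_mvPolynomial''.mp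
    (have := etale_of_isLocalIso R E; inferInstance : Algebra.FiniteType R E)
  let e := Ideal.quotientKerAlgEquivOfSurjective hf
  exact ⟨⟨n, RingHom.ker f, Algebra.IsLocalIso.of_algEquiv e.symm, σ.comp e.toAlgHom⟩, e,
    fun _ ↦ rfl⟩

/-- a presentation of `(E, σ)` -/
noncomputable def mk' (E : Type u) [CommRing E] [Algebra R E] [Algebra.IsLocalIso R E]
    (σ : E →ₐ[R] K) : Nbhd R K := (exists_of E σ).choose

/-- the algebra underlying `mk'` -/
noncomputable def equiv (E : Type u) [CommRing E] [Algebra R E] [Algebra.IsLocalIso R E]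
    (σ : E →ₐ[R] K) : (mk' E σ).carrier ≃ₐ[R] E := (exists_of E σ).choose_spec.choose

theorem pt_mk' (E : Type u) [CommRing E] [Algebra R E] [Algebra.IsLocalIso R E]
    (σ : E →ₐ[R] K) (x : (mk' E σ).carrier) : (mk' E σ).point x = σ (equiv E σ x) :=
  (exists_of E σ).choose_spec.choose_spec x

noncomputable instance : Category (Nbhd R K) where
  Hom X Y := {φ : X.carrier →ₐ[R] Y.carrier // Y.point.comp φ = X.point}
  id X := ⟨AlgHom.id R _, AlgHom.comp_id _⟩
  comp f g := ⟨g.1.comp f.1, by rw [← AlgHom.comp_assoc, g.2, f.2]⟩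

theorem hom_ext {X Y : Nbhd R K} {f g : X ⟶ Y} (h : ∀ x, f.1 x = g.1 x) : f = g :=
  Subtype.ext (AlgHom.ext h)

theorem pt_hom {X Y : Nbhd R K} (f : X ⟶ Y) (x : X.carrier) : Y.point (f.1 x) = X.point x :=
  DFunLike.congr_fun f.2 x

/-- a morphism into a presented algebra -/
noncomputable def homMk' {X : Nbhd R K} {E : Type u} [CommRing E] [Algebra R E] [Algebra.IsLocalIso R E]
    {σ : E →ₐ[R] K} (φ : X.carrier →ₐ[R] E) (h : ∀ x, σ (φ x) = X.point x) : X ⟶ mk' E σ :=
  ⟨(equiv E σ).symm.toAlgHom.comp φ, AlgHom.ext fun x ↦ by simp [pt_mk', h]⟩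

theorem homMk'_apply {X : Nbhd R K} {E : Type u} [CommRing E] [Algebra R E] [Algebra.IsLocalIso R E]
    {σ : E →ₐ[R] K} (φ : X.carrier →ₐ[R] E) (h : ∀ x, σ (φ x) = X.point x) (x : X.carrier) :
    (homMk' φ h).1 x = (equiv E σ).symm (φ x) := rfl

/-- the trivial neighbourhood -/
noncomputable def base : Nbhd R K := mk' R (Algebra.ofId R K)

/-- the trivial neighbourhood maps to every other -/
noncomputable def fromBase (X : Nbhd R K) : base ⟶ X :=
  ⟨(Algebra.ofId R X.carrier).comp (equiv R (Algebra.ofId R K)).toAlgHom, AlgHom.ext fun x ↦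
    (X.point.commutes _).trans (pt_mk' R (Algebra.ofId R K) x).symm⟩

instance : IsFiltered (Nbhd R K) where
  cocone_objs X Y := by
    let σ := Algebra.TensorProduct.lift X.point Y.point fun _ _ ↦ .all _ _
    have : Algebra.IsLocalIso R (X.carrier ⊗[R] Y.carrier) :=
      Algebra.IsLocalIso.trans R X.carrier _
    exact ⟨mk' (X.carrier ⊗[R] Y.carrier) σ,
      homMk' Algebra.TensorProduct.includeLeft fun x ↦
        (Algebra.TensorProduct.lift_tmul _ _ _ x 1).trans (by simp),
      homMk' Algebra.TensorProduct.includeRight fun y ↦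
        (Algebra.TensorProduct.lift_tmul _ _ _ 1 y).trans (by simp), trivial⟩
  cocone_maps {X Y} f g := by
    obtain ⟨v, hv, hcomp⟩ := exists_away_coequalizing f.1 g.1
    have h1 : Y.point v = 1 := hv K Y.point.toRingHom (RingHom.ext fun x ↦ by
      simp [pt_hom f x, pt_hom g x])
    let σ : Localization.Away v →ₐ[R] K := IsLocalization.liftAlgHom (M := Submonoid.powers v)
      (f := Y.point) fun ⟨_, n, hn⟩ ↦ by subst hn; simp [h1]
    have : Algebra.IsLocalIso R (Localization.Away v) := Algebra.IsLocalIso.trans R Y.carrier _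
    refine ⟨mk' (Localization.Away v) σ,
      homMk' (IsScalarTower.toAlgHom R Y.carrier (Localization.Away v)) fun y ↦
        IsLocalization.lift_eq _ y, hom_ext fun x ↦ ?_⟩
    exact congrArg (equiv _ σ).symm (DFunLike.congr_fun hcomp x)
  nonempty := ⟨base⟩

variable (R K) in
/-- the diagram of underlying rings -/
noncomputable def diagram : Nbhd R K ⥤ CommRingCat.{u} where
  obj X := CommRingCat.of X.carrier
  map f := CommRingCat.ofHom f.1.toRingHom

end Nbhd

open Nbhd

variable (R K) in
/-- The localization colimit of `R` at `R → K`. -/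
def ZarHens : Type u := ↥(colimit (diagram R K))

noncomputable instance : CommRing (ZarHens R K) :=
  inferInstanceAs (CommRing ↥(colimit (diagram R K)))

namespace ZarHens

/-- the map from a neighbourhood, as a ring map -/
noncomputable def of₀ (X : Nbhd R K) : X.carrier →+* ZarHens R K := (colimit.ι (diagram R K) X).hom

theorem of₀_hom {X Y : Nbhd R K} (f : X ⟶ Y) (x : X.carrier) : of₀ Y (f.1 x) = of₀ X x :=
  DFunLike.congr_fun (congrArg CommRingCat.Hom.hom (colimit.w (diagram R K) f)) x

noncomputable instance : Algebra R (ZarHens R K) :=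
  ((of₀ base).comp (algebraMap R base.carrier)).toAlgebra

/-- the map from a neighbourhood -/
noncomputable def of (X : Nbhd R K) : X.carrier →ₐ[R] ZarHens R K where
  __ := of₀ X
  commutes' r := by
    change of₀ X (algebraMap R _ r) = of₀ base (algebraMap R _ r)
    rw [← (fromBase X).1.commutes r, of₀_hom]

theorem of_hom {X Y : Nbhd R K} (f : X ⟶ Y) (x : X.carrier) : of Y (f.1 x) = of X x := of₀_hom f x

theorem exists_rep (z : ZarHens R K) : ∃ (X : Nbhd R K) (x : X.carrier), of X x = z :=
  Concrete.colimit_exists_rep (diagram R K) z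

theorem of_eq_iff {X : Nbhd R K} (x y : X.carrier) :
    of X x = of X y ↔ ∃ (Y : Nbhd R K) (f : X ⟶ Y), f.1 x = f.1 y := by
  refine ⟨fun h ↦ ?_, fun ⟨Y, f, h⟩ ↦ by rw [← of_hom f x, h, of_hom]⟩
  obtain ⟨k, f, g, hk⟩ := Concrete.colimit_exists_of_rep_eq (diagram R K) x y h
  refine ⟨IsFiltered.coeq f g, f ≫ IsFiltered.coeqHom f g, ?_⟩
  conv_rhs => rw [IsFiltered.coeq_condition]
  exact congrArg (IsFiltered.coeqHom f g).1 hk

theorem exists_rep₂ (z w : ZarHens R K) :
    ∃ (X : Nbhd R K) (x y : X.carrier), of X x = z ∧ of X y = w := by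
  obtain ⟨X, x, rfl⟩ := exists_rep z
  obtain ⟨Y, y, rfl⟩ := exists_rep w
  exact ⟨IsFiltered.max X Y, (IsFiltered.leftToMax X Y).1 x, (IsFiltered.rightToMax X Y).1 y,
    of_hom _ _, of_hom _ _⟩

theorem exists_rep_fintype {ι : Type*} [Finite ι] (z : ι → ZarHens R K) :
    ∃ (X : Nbhd R K) (x : ι → X.carrier), ∀ i, of X (x i) = z i := by
  classical
  have := Fintype.ofFinite ι
  choose X x hx using fun i ↦ exists_rep (z i)
  obtain ⟨Y, hY⟩ := IsFiltered.sup_objs_exists (Finset.univ.image X)
  have f := fun i ↦ (hY (Finset.mem_image_of_mem X (Finset.mem_univ i))).some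
  exact ⟨Y, fun i ↦ (f i).1 (x i), fun i ↦ (of_hom _ _).trans (hx i)⟩

variable {C : Type u} [CommRing C] [Algebra R C]

/-- maps out of the localization colimit -/
noncomputable def lift (g : ∀ X : Nbhd R K, X.carrier →ₐ[R] C)
    (hg : ∀ (X Y : Nbhd R K) (f : X ⟶ Y) (x : X.carrier), g Y (f.1 x) = g X x) :
    ZarHens R K →ₐ[R] C where
  __ := (colimit.desc (diagram R K)
    { pt := CommRingCat.of C
      ι := { app := fun X ↦ CommRingCat.ofHom (g X).toRingHom
             naturality := fun X Y f ↦ CommRingCat.hom_ext (RingHom.ext fun x ↦ hg X Y f x) } }).hom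
  commutes' r := by
    refine Eq.trans ?_ ((g base).commutes r)
    exact ConcreteCategory.congr_hom (colimit.ι_desc (F := diagram R K) _ base) _

theorem lift_of (g : ∀ X : Nbhd R K, X.carrier →ₐ[R] C)
    (hg : ∀ (X Y : Nbhd R K) (f : X ⟶ Y) (x : X.carrier), g Y (f.1 x) = g X x)
    (X : Nbhd R K) (x : X.carrier) : lift g hg (of X x) = g X x :=
  ConcreteCategory.congr_hom (colimit.ι_desc (F := diagram R K) _ X) x

variable (R K) in
/-- the point of the localization colimit -/
noncomputable def π : ZarHens R K →ₐ[R] K := lift (fun X ↦ X.point) fun _ _ f x ↦ pt_hom f x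

theorem π_of (X : Nbhd R K) (x : X.carrier) : π R K (of X x) = X.point x := lift_of _ _ X x

/-- every neighbourhood maps to the localization colimit compatibly -/
theorem exists_algHom (E : Type u) [CommRing E] [Algebra R E] [Algebra.IsLocalIso R E] (σ : E →ₐ[R] K) :
    ∃ φ : E →ₐ[R] ZarHens R K, (π R K).comp φ = σ :=
  ⟨(of (mk' E σ)).comp (equiv E σ).symm.toAlgHom, AlgHom.ext fun x ↦ by simp [π_of, pt_mk']⟩

theorem exists_rep_algHom (z : ZarHens R K) : ∃ (E : Type u) (_ : CommRing E) (_ : Algebra R E)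
    (_ : Algebra.IsLocalIso R E) (φ : E →ₐ[R] ZarHens R K) (e : E), φ e = z := by
  obtain ⟨X, x, rfl⟩ := exists_rep z
  exact ⟨X.carrier, inferInstance, inferInstance, inferInstance, of X, x, rfl⟩

/-- `π` reflects units. -/
theorem isUnit_of_isUnit_π {z : ZarHens R K} (h : IsUnit (π R K z)) : IsUnit z := by
  obtain ⟨X, x, rfl⟩ := exists_rep z
  rw [π_of] at h
  let σ : Localization.Away x →ₐ[R] K := IsLocalization.liftAlgHom (M := Submonoid.powers x)
    (f := X.point) fun ⟨_, n, hn⟩ ↦ by subst hn; rw [map_pow]; exact h.pow n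
  have : Algebra.IsLocalIso R (Localization.Away x) := Algebra.IsLocalIso.trans R X.carrier _
  let f : X ⟶ mk' (Localization.Away x) σ :=
    homMk' (IsScalarTower.toAlgHom R X.carrier (Localization.Away x)) fun y ↦
      IsLocalization.lift_eq _ y
  rw [← of_hom f x]
  exact ((IsLocalization.Away.algebraMap_isUnit (S := Localization.Away x) x).map
    (equiv _ σ).symm).map (of _)

theorem ker_π_le_jacobson : RingHom.ker (π R K).toRingHom ≤ Ideal.jacobson ⊥ := fun z hz ↦
  Ideal.mem_jacobson_bot.mpr fun y ↦ isUnit_of_isUnit_π (by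
    rw [RingHom.mem_ker] at hz
    simp [show π R K z = 0 from hz])

theorem isLocalRing [IsLocalRing K] : IsLocalRing (ZarHens R K) :=
  have : Nontrivial (ZarHens R K) := (π R K).toRingHom.domain_nontrivial
  IsLocalRing.of_isUnit_or_isUnit_one_sub_self fun a ↦
    (IsLocalRing.isUnit_or_isUnit_one_sub_self (π R K a)).imp isUnit_of_isUnit_π
      fun h ↦ isUnit_of_isUnit_π (by simpa using h)

/-- The colimit is flat. -/
instance flat : Module.Flat R (ZarHens R K) := by
  refine Module.Flat.of_forall_isTrivialRelation fun {l f z} h ↦ ?_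
  obtain ⟨X, x, hx⟩ := exists_rep_fintype z
  have h0 : of X (∑ i, f i • x i) = of X 0 := by simp [hx, h]
  obtain ⟨Y, g, hg⟩ := (of_eq_iff _ _).mp h0
  have hrel : ∑ i, f i • g.1 (x i) = 0 := by simpa using hg
  obtain ⟨k, a, y, hy, ha⟩ := Module.Flat.isTrivialRelation_of_sum_smul_eq_zero hrel
  exact ⟨k, a, fun j ↦ of Y (y j), fun i ↦ by
    rw [← hx i, ← of_hom g, show g.1 (x i) = _ from hy i, map_sum]; simp, ha⟩

end ZarHens

end Groth.Agent.WLoc
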