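import Groth.Agent.WLoc.Basic
import Groth.Agent.IndEt.Ops
import Mathlib.RingTheory.Localization.Away.Lemmas

/-!
# Factorisation criterion for ind-Zariski algebras
-/

set_option autoImplicit false
set_option backward.isDefEq.respectTransparency false

universe u

namespace Groth.Agent.WLoc

/-- every map from a finitely presented algebra factors through a local isomorphism -/
def ZarFactors (A B : Type u) [CommRing A] [CommRing B] [Algebra A B] : Prop :=
  ∀ (C : Type u) [CommRing C] [Algebra A C] [Algebra.FinitePresentation A C] (g : C →ₐ[A] B),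
    ∃ (E : Type u) (_ : CommRing E) (_ : Algebra A E), Algebra.IsLocalIso A E ∧
      ∃ (u : C →ₐ[A] E) (v : E →ₐ[A] B), v.comp u = g

attribute [local instance] IndEt.algebraUnder

variable {A B : Type u} [CommRing A] [CommRing B] [Algebra A B]

theorem isIndZariski_of_zarFactors (h : ZarFactors A B) : EtPBC.IsIndZariski A B := by
  refine isIndZariski_of_algEquiv (K := B) (AlgEquiv.ofBijective (ZarHens.π A B) ⟨?_, ?_⟩)
  · rw [injective_iff_map_eq_zero]
    intro z hz
    obtain ⟨X, x, rfl⟩ := ZarHens.exists_rep z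
    rw [ZarHens.π_of] at hz
    have : Algebra.FinitePresentation A (X.carrier ⧸ Ideal.span {x}) :=
      Algebra.FinitePresentation.quotient ⟨{x}, by simp⟩
    obtain ⟨E, _, _, _, u, v, huv⟩ := h (X.carrier ⧸ Ideal.span {x})
      (Ideal.Quotient.liftₐ _ X.point fun y hy => by
        obtain ⟨c, rfl⟩ := Ideal.mem_span_singleton'.mp hy
        simp [hz])
    let f : X ⟶ Nbhd.mk' E v :=
      Nbhd.homMk' (u.comp (Ideal.Quotient.mkₐ A _)) fun y =>
        DFunLike.congr_fun huv (Ideal.Quotient.mkₐ A _ y)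
    rw [← map_zero (ZarHens.of X)]
    refine (ZarHens.of_eq_iff _ _).mpr ⟨_, f, ?_⟩
    rw [map_zero, Nbhd.homMk'_apply, AlgHom.comp_apply, Ideal.Quotient.mkₐ_eq_mk,
      Ideal.Quotient.eq_zero_iff_mem.mpr (Ideal.mem_span_singleton_self x), map_zero, map_zero]
  · intro b
    obtain ⟨E, _, _, _, u, v, huv⟩ := h (MvPolynomial PUnit.{u+1} A)
      (MvPolynomial.aeval fun _ => b)
    obtain ⟨φ, hφ⟩ := ZarHens.exists_algHom E v
    refine ⟨φ (u (MvPolynomial.X PUnit.unit)), ?_⟩
    rw [← AlgHom.comp_apply (ZarHens.π A B) φ, hφ, ← AlgHom.comp_apply v u, huv,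
      MvPolynomial.aeval_X]

theorem zarFactors_of_isIndZariski (h : EtPBC.IsIndZariski A B) : ZarFactors A B := by
  obtain ⟨J, _, _, D, c, hc, het, ⟨e⟩⟩ := h
  intro C _ _ _ g
  let e₂ : c.pt.right →ₐ[A] B :=
    { e.hom.right.hom with
      commutes' := fun r => congrArg (fun k : CommRingCat.of A ⟶ CommRingCat.of B => k.hom r)
        (CategoryTheory.Under.w e.hom) }
  let e₁ : B →ₐ[A] c.pt.right :=
    IndEt.outHom (e.inv : CommRingCat.mkUnder (CommRingCat.of A) B ⟶ c.pt)
  obtain ⟨j, u, hu⟩ := IndEt.exists_factor_stage hc C (e₁.comp g)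
  refine ⟨(D.obj j).right, inferInstance, IndEt.algebraUnder _, het j, u,
    e₂.comp (IndEt.underHom (c.ι.app j)), AlgHom.ext fun x => ?_⟩
  rw [AlgHom.comp_assoc, hu]
  exact congrArg (fun k => k.right.hom (g x)) e.inv_hom_id

theorem ZarFactors.etFactors (h : ZarFactors A B) : IndEt.EtFactors A B := fun C _ _ _ g => by
  obtain ⟨E, i₁, i₂, hE, u, v, huv⟩ := h C g
  exact ⟨E, i₁, i₂, etale_of_isLocalIso A E, u, v, huv⟩

theorem ZarFactors.flat (h : ZarFactors A B) : Module.Flat A B := h.etFactors.flat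

theorem ZarFactors.congr {B' : Type u} [CommRing B'] [Algebra A B'] (h : ZarFactors A B)
    (e : B ≃ₐ[A] B') : ZarFactors A B' := fun C _ _ _ g => by
  obtain ⟨E, i₁, i₂, hE, u, v, huv⟩ := h C (e.symm.toAlgHom.comp g)
  exact ⟨E, i₁, i₂, hE, u, e.toAlgHom.comp v, by
    rw [AlgHom.comp_assoc, huv]; exact AlgHom.ext fun x => e.apply_symm_apply _⟩

/-- quotient of `A` by an idempotent is a local isomorphism -/
theorem isLocalIso_quotient_span_idem {R : Type u} [CommRing R] {e : R} (he : IsIdempotentElem e) :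
    Algebra.IsLocalIso R (R ⧸ Ideal.span {e}) := by
  have : IsLocalization.Away (1 - e) (R ⧸ Ideal.span {e}) :=
    IsLocalization.away_of_isIdempotentElem he.one_sub
      (by rw [Ideal.Quotient.algebraMap_eq, Ideal.mk_ker, sub_sub_cancel]) Ideal.Quotient.mk_surjective
  have : Algebra.IsStandardOpenImmersion R (R ⧸ Ideal.span {e}) := ⟨1 - e, this⟩
  infer_instance

/-- finitely many elements of an ideal generated by idempotents are fixed by one of its idempotents -/
theorem exists_idem_of_span_idem {R : Type u} [CommRing R] {S : Set R}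
    (hS : ∀ s ∈ S, IsIdempotentElem s) {ι : Type u} [Finite ι] (x : ι → R)
    (hx : ∀ i, x i ∈ Ideal.span S) :
    ∃ e ∈ Ideal.span S, IsIdempotentElem e ∧ ∀ i, x i * e = x i := by
  classical
  have h1 : ∀ y ∈ Ideal.span S, ∃ e ∈ Ideal.span S, IsIdempotentElem e ∧ y * e = y := by
    intro y hy
    induction hy using Submodule.span_induction with
    | mem y hy => exact ⟨y, Ideal.subset_span hy, hS y hy, hS y hy⟩
    | zero => exact ⟨0, zero_mem _, IsIdempotentElem.zero, zero_mul _⟩
    | add a b _ _ ha hb =>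
      obtain ⟨e, hem, he, hae⟩ := ha
      obtain ⟨f, hfm, hf, hbf⟩ := hb
      exact ⟨e + f - e * f, sub_mem (add_mem hem hfm) (Ideal.mul_mem_left _ _ hfm),
        he.add_sub_mul hf, by linear_combination (1 - f) * hae + (1 - e) * hbf⟩
    | smul c a _ ha =>
      obtain ⟨e, hem, he, hae⟩ := ha
      exact ⟨e, hem, he, by rw [smul_eq_mul, mul_assoc, hae]⟩
  choose e hem he hxe using fun i => h1 (x i) (hx i)
  have := Fintype.ofFinite ι
  have : ∀ s : Finset ι, ∃ f ∈ Ideal.span S, IsIdempotentElem f ∧ ∀ i ∈ s, x i * f = x i := by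
    intro s
    induction s using Finset.induction_on with
    | empty => exact ⟨0, zero_mem _, IsIdempotentElem.zero, by simp⟩
    | insert i s hi ih =>
      obtain ⟨f, hfm, hf, hfs⟩ := ih
      refine ⟨e i + f - e i * f, sub_mem (add_mem (hem i) hfm) (Ideal.mul_mem_left _ _ hfm),
        (he i).add_sub_mul hf, fun j hj => ?_⟩
      rcases Finset.mem_insert.mp hj with rfl | hj
      · linear_combination (1 - f) * hxe j
      · linear_combination (1 - e i) * hfs j hj
  obtain ⟨f, hfm, hf, hfs⟩ := this Finset.univ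
  exact ⟨f, hfm, hf, fun i => hfs i (Finset.mem_univ _)⟩

/-- quotients by ideals generated by idempotents -/
theorem ZarFactors.quotient (h : ZarFactors A B) {S : Set B} (hS : ∀ s ∈ S, IsIdempotentElem s) :
    ZarFactors A (B ⧸ Ideal.span S) := by
  intro C _ _ hC g
  obtain ⟨n, p, hp, hker⟩ := hC.out
  obtain ⟨t, ht⟩ := hker
  let q := Ideal.Quotient.mkₐ A (Ideal.span S)
  choose b hb using fun i : Fin n => Ideal.Quotient.mk_surjective (g (p (MvPolynomial.X i)))
  let ψ : MvPolynomial (Fin n) A →ₐ[A] B := MvPolynomial.aeval b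
  have hψ : ∀ x, q (ψ x) = g (p x) := fun x =>
    DFunLike.congr_fun (show q.comp ψ = g.comp p from
      MvPolynomial.algHom_ext fun i => by simp [q, ψ, hb]) x
  obtain ⟨e, hem, he, hfix⟩ := exists_idem_of_span_idem hS (fun r : (t : Set (MvPolynomial (Fin n) A)) => ψ r.1)
    fun r => Ideal.Quotient.eq_zero_iff_mem.mp ((hψ r.1).trans (by
      rw [show p r.1 = 0 from ht.le (Ideal.subset_span r.2), map_zero]))
  -- the finitely presented algebra remembering the idempotent
  let T := MvPolynomial (Option (Fin n)) A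
  let rel : Option (t : Set (MvPolynomial (Fin n) A)) → T := fun o =>
    o.elim (MvPolynomial.X none * MvPolynomial.X none - MvPolynomial.X none)
      fun r => MvPolynomial.rename some r.1 * MvPolynomial.X none - MvPolynomial.rename some r.1
  have : Algebra.FinitePresentation A (T ⧸ Ideal.span (Set.range rel)) :=
    Algebra.FinitePresentation.quotient (Submodule.fg_span (Set.finite_range rel))
  let φ : T →ₐ[A] B := MvPolynomial.aeval fun o => o.elim e b
  have hφ : ∀ x, φ (MvPolynomial.rename some x) = ψ x := fun x =>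
    (MvPolynomial.aeval_rename some (fun o : Option (Fin n) => o.elim e b) x).trans rfl
  have hφX : φ (MvPolynomial.X none) = e := MvPolynomial.aeval_X (fun o : Option (Fin n) => o.elim e b) none
  let φ' : (T ⧸ Ideal.span (Set.range rel)) →ₐ[A] B := Ideal.Quotient.liftₐ _ φ (by
    change Ideal.span (Set.range rel) ≤ RingHom.ker φ
    rw [Ideal.span_le]
    rintro _ ⟨(_ | r), rfl⟩
    · rw [SetLike.mem_coe, RingHom.mem_ker]
      change φ (MvPolynomial.X none * MvPolynomial.X none - MvPolynomial.X none) = 0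
      rw [map_sub, map_mul, hφX, he.eq, sub_self]
    · rw [SetLike.mem_coe, RingHom.mem_ker]
      change φ (MvPolynomial.rename some r.1 * MvPolynomial.X none - MvPolynomial.rename some r.1) = 0
      rw [map_sub, map_mul, hφ, hφX, hfix r, sub_self])
  obtain ⟨E, _, _, hE, u, v, huv⟩ := h _ φ'
  let mkT := Ideal.Quotient.mkₐ A (Ideal.span (Set.range rel))
  have huv' : ∀ x, v (u (mkT x)) = φ x := fun x => DFunLike.congr_fun huv (mkT x)
  let eE := u (mkT (MvPolynomial.X none))
  have heE : IsIdempotentElem eE := by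
    rw [IsIdempotentElem, ← map_mul, ← map_mul]
    congr 1
    exact Ideal.Quotient.eq.mpr (Ideal.subset_span ⟨none, rfl⟩)
  have := isLocalIso_quotient_span_idem heE
  have hEq : Algebra.IsLocalIso A (E ⧸ Ideal.span {eE}) := Algebra.IsLocalIso.trans A E _
  let u₀ : MvPolynomial (Fin n) A →ₐ[A] E ⧸ Ideal.span {eE} :=
    (Ideal.Quotient.mkₐ A (Ideal.span {eE})).comp
      ((u.comp mkT).comp (MvPolynomial.rename some))
  let v' : (E ⧸ Ideal.span {eE}) →ₐ[A] B ⧸ Ideal.span S := Ideal.Quotient.liftₐ _ (q.comp v) fun y hy => by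
    obtain ⟨z, rfl⟩ := Ideal.mem_span_singleton'.mp hy
    rw [map_mul, AlgHom.comp_apply _ _ eE, huv', hφX]
    change q.comp v z * q e = 0
    rw [show q e = 0 from Ideal.Quotient.eq_zero_iff_mem.mpr hem, mul_zero]
  let uK : (MvPolynomial (Fin n) A ⧸ RingHom.ker p) →ₐ[A] E ⧸ Ideal.span {eE} :=
    Ideal.Quotient.liftₐ (RingHom.ker p) u₀ (by
      change RingHom.ker p ≤ RingHom.ker u₀
      rw [show RingHom.ker p = Ideal.span (t : Set _) from ht.symm, Ideal.span_le]
      intro r hr
      rw [SetLike.mem_coe, RingHom.mem_ker]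
      change Ideal.Quotient.mk _ (u (mkT (MvPolynomial.rename some r))) = 0
      rw [Ideal.Quotient.eq_zero_iff_mem, Ideal.mem_span_singleton']
      refine ⟨u (mkT (MvPolynomial.rename some r)), ?_⟩
      rw [← map_mul, ← map_mul]
      congr 1
      exact Ideal.Quotient.eq.mpr (Ideal.subset_span ⟨some ⟨r, hr⟩, rfl⟩))
  let u' : C →ₐ[A] E ⧸ Ideal.span {eE} :=
    uK.comp (Ideal.quotientKerAlgEquivOfSurjective hp).symm.toAlgHom
  refine ⟨_, inferInstance, inferInstance, hEq, u', v', ?_⟩
  refine (AlgHom.cancel_right hp).mp (MvPolynomial.algHom_ext fun i => ?_)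
  have hsymm : (Ideal.quotientKerAlgEquivOfSurjective hp).symm (p (MvPolynomial.X i)) =
      Ideal.Quotient.mk _ (MvPolynomial.X i) := (AlgEquiv.symm_apply_eq _).2 rfl
  have hu' : u' (p (MvPolynomial.X i)) = u₀ (MvPolynomial.X i) := (congrArg uK hsymm).trans rfl
  change v' (u' (p (MvPolynomial.X i))) = g (p (MvPolynomial.X i))
  rw [hu']
  change q (v (u (mkT (MvPolynomial.rename some (MvPolynomial.X i))))) = _
  rw [huv', hφ, hψ]

section Identifies

/-- elementwise criterion for identifying local rings -/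
theorem identifiesLocalRings_of_elements
    (hS : ∀ q : PrimeSpectrum B, ∀ x : B, ∃ a s, algebraMap A B s ∉ q.asIdeal ∧
      ∃ t ∉ q.asIdeal, t * (algebraMap A B s * x - algebraMap A B a) = 0)
    (hI : ∀ q : PrimeSpectrum B, ∀ a : A, ∀ t ∉ q.asIdeal, t * algebraMap A B a = 0 →
      ∃ s, algebraMap A B s ∉ q.asIdeal ∧ s * a = 0) :
    EtPBC.IdentifiesLocalRings A B := by
  intro q
  let p := q.asIdeal.comap (algebraMap A B)
  let φ := Localization.localRingHom p q.asIdeal (algebraMap A B) rfl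
  refine ⟨(injective_iff_map_eq_zero φ).mpr fun z hz => ?_, fun z => ?_⟩
  · obtain ⟨a, ⟨s, hs⟩, rfl⟩ := IsLocalization.exists_mk'_eq p.primeCompl z
    rw [Localization.localRingHom_mk'] at hz
    obtain ⟨⟨t, ht⟩, hta⟩ := (IsLocalization.mk'_eq_zero_iff _ _).mp hz
    obtain ⟨s', hs', hsa⟩ := hI q a t ht hta
    exact (IsLocalization.mk'_eq_zero_iff _ _).mpr ⟨⟨s', hs'⟩, hsa⟩
  · obtain ⟨x, ⟨t, ht⟩, rfl⟩ := IsLocalization.exists_mk'_eq q.asIdeal.primeCompl z
    obtain ⟨a, s, hs, t₁, ht₁, h₁⟩ := hS q x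
    obtain ⟨b, r, hr, t₂, ht₂, h₂⟩ := hS q t
    have hb : algebraMap A B b ∉ q.asIdeal := fun hb => by
      have h : t₂ * (algebraMap A B r * t) ∈ q.asIdeal := by
        rw [show t₂ * (algebraMap A B r * t) = t₂ * algebraMap A B b by linear_combination h₂]
        exact Ideal.mul_mem_left _ _ hb
      exact (q.2.mem_or_mem h).elim ht₂ fun h' => (q.2.mem_or_mem h').elim hr ht
    refine ⟨IsLocalization.mk' _ (a * r) (⟨b * s, (q.2.comap (algebraMap A B)).mul_notMem hb hs⟩ :
      p.primeCompl), ?_⟩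
    rw [Localization.localRingHom_mk', IsLocalization.mk'_eq_iff_eq, IsLocalization.eq_iff_exists q.asIdeal.primeCompl]
    refine ⟨⟨t₁ * t₂, q.2.mul_notMem ht₁ ht₂⟩, ?_⟩
    simp only [map_mul]
    linear_combination (-algebraMap A B r * t * t₂) * h₁ + (algebraMap A B s * x * t₁) * h₂

/-- local isomorphisms, elementwise -/
theorem isLocalIso_elements [Algebra.IsLocalIso A B] (q : Ideal B) [q.IsPrime] (x : B) :
    (∃ a s, algebraMap A B s ∉ q ∧ ∃ t ∉ q, t * (algebraMap A B s * x - algebraMap A B a) = 0) ∧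
    ∀ a : A, ∀ t ∉ q, t * algebraMap A B a = 0 → ∃ s, algebraMap A B s ∉ q ∧ s * a = 0 := by
  obtain ⟨g, hg, hstd⟩ := Algebra.IsLocalIso.exists_notMem_isStandardOpenImmersion (R := A) q
  obtain ⟨r, hr⟩ := hstd.exists_away
  let L := Localization.Away g
  have hru : IsUnit (algebraMap A L r) := IsLocalization.Away.algebraMap_isUnit r
  have hrq : algebraMap A B r ∉ q := fun h => by
    rw [IsScalarTower.algebraMap_apply A B L] at hru
    obtain ⟨⟨z, ⟨_, m, rfl⟩⟩, hz⟩ := IsLocalization.surj (Submonoid.powers g) (↑hru.unit⁻¹ : L)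
    have h1 : algebraMap B L (algebraMap A B r * z) = algebraMap B L (g ^ m) := by
      rw [map_mul, ← hz, ← mul_assoc, IsUnit.mul_val_inv, one_mul]
    obtain ⟨⟨_, k, rfl⟩, hk⟩ := (IsLocalization.eq_iff_exists (Submonoid.powers g) L).mp h1
    have h2 : g ^ k * g ^ m ∈ q := by
      rw [← show g ^ k * (algebraMap A B r * z) = g ^ k * g ^ m from hk]
      exact Ideal.mul_mem_left _ _ (Ideal.mul_mem_right _ _ h)
    rw [← pow_add] at h2
    exact hg (Ideal.IsPrime.mem_of_pow_mem ‹_› _ h2)
  refine ⟨?_, fun a t ht hta => ?_⟩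
  · obtain ⟨⟨a, ⟨_, n, rfl⟩⟩, ha⟩ := IsLocalization.surj (Submonoid.powers r) (algebraMap B L x)
    refine ⟨a, r ^ n, fun h => hrq (Ideal.IsPrime.mem_of_pow_mem ‹_› n (map_pow (algebraMap A B) r n ▸ h)), ?_⟩
    have h1 : algebraMap B L (algebraMap A B (r ^ n) * x) = algebraMap B L (algebraMap A B a) := by
      rw [map_mul, ← IsScalarTower.algebraMap_apply, ← IsScalarTower.algebraMap_apply, mul_comm]
      exact ha
    obtain ⟨⟨_, k, rfl⟩, hk⟩ := (IsLocalization.eq_iff_exists (Submonoid.powers g) L).mp h1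
    exact ⟨g ^ k, fun h => hg (Ideal.IsPrime.mem_of_pow_mem ‹_› k h), by
      rw [mul_sub, show g ^ k * (algebraMap A B (r ^ n) * x) = g ^ k * algebraMap A B a from hk, sub_self]⟩
  · obtain ⟨⟨c, ⟨_, n, rfl⟩⟩, hc⟩ := IsLocalization.surj (Submonoid.powers r) (algebraMap B L t)
    have h1 : algebraMap A L (c * a) = 0 := by
      rw [map_mul, ← hc, mul_comm (algebraMap B L t), mul_assoc, IsScalarTower.algebraMap_apply A B L a,
        ← map_mul, hta, map_zero, mul_zero]
    obtain ⟨⟨_, k, rfl⟩, hk⟩ := (IsLocalization.map_eq_zero_iff (Submonoid.powers r) L _).mp h1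
    refine ⟨r ^ k * c, fun h => ?_, by rw [mul_assoc]; exact hk⟩
    rw [map_mul, map_pow] at h
    rcases (‹q.IsPrime›).mem_or_mem h with h | h
    · exact hrq (Ideal.IsPrime.mem_of_pow_mem ‹_› _ h)
    · have h3 : algebraMap B L (t * algebraMap A B (r ^ n)) = algebraMap B L (algebraMap A B c) := by
        rw [map_mul, ← IsScalarTower.algebraMap_apply, ← IsScalarTower.algebraMap_apply]
        exact hc
      obtain ⟨⟨_, l, rfl⟩, hl⟩ := (IsLocalization.eq_iff_exists (Submonoid.powers g) L).mp h3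
      have h4 : g ^ l * (t * algebraMap A B (r ^ n)) ∈ q := by
        rw [show g ^ l * (t * algebraMap A B (r ^ n)) = g ^ l * algebraMap A B c from hl]
        exact Ideal.mul_mem_left _ _ h
      rcases (‹q.IsPrime›).mem_or_mem h4 with h | h
      · exact hg (Ideal.IsPrime.mem_of_pow_mem ‹_› _ h)
      · rcases (‹q.IsPrime›).mem_or_mem h with h | h
        · exact ht h
        · rw [map_pow] at h
          exact hrq (Ideal.IsPrime.mem_of_pow_mem ‹_› _ h)

theorem ZarFactors.identifiesLocalRings (h : ZarFactors A B) : EtPBC.IdentifiesLocalRings A B := by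
  refine identifiesLocalRings_of_elements (fun q x => ?_) fun q a t ht hta => ?_
  · obtain ⟨E, _, _, hE, u, v, huv⟩ := h (MvPolynomial PUnit.{u+1} A) (MvPolynomial.aeval fun _ => x)
    have hx : v (u (MvPolynomial.X PUnit.unit)) = x := by
      rw [← AlgHom.comp_apply, huv, MvPolynomial.aeval_X]
    obtain ⟨a, s, hs, t, ht, h0⟩ :=
      (isLocalIso_elements (A := A) (q.asIdeal.comap v) (u (MvPolynomial.X PUnit.unit))).1
    refine ⟨a, s, fun h' => hs ?_, v t, ht, ?_⟩
    · rw [Ideal.mem_comap, AlgHom.commutes]; exact h'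
    · have := congrArg v h0
      rwa [map_mul, map_sub, map_mul, AlgHom.commutes, AlgHom.commutes, hx, map_zero] at this
  · let T := MvPolynomial PUnit.{u+1} A
    let r : T := MvPolynomial.X PUnit.unit * algebraMap A T a
    have : Algebra.FinitePresentation A (T ⧸ Ideal.span {r}) :=
      Algebra.FinitePresentation.quotient ⟨{r}, by simp⟩
    let φ : (T ⧸ Ideal.span {r}) →ₐ[A] B :=
      Ideal.Quotient.liftₐ _ (MvPolynomial.aeval fun _ => t) fun y hy => by
        obtain ⟨z, rfl⟩ := Ideal.mem_span_singleton'.mp hy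
        rw [map_mul, show MvPolynomial.aeval (R := A) (fun _ : PUnit.{u+1} => t) r = 0 by
          rw [map_mul, MvPolynomial.aeval_X, AlgHom.commutes, hta], mul_zero]
    obtain ⟨E, _, _, hE, u, v, huv⟩ := h _ φ
    let tE := u (Ideal.Quotient.mkₐ A _ (MvPolynomial.X PUnit.unit))
    have htE : v tE = t := by
      rw [← AlgHom.comp_apply, huv]
      exact MvPolynomial.aeval_X _ _
    have h0 : tE * algebraMap A E a = 0 := by
      rw [← u.commutes a, ← map_mul]
      convert map_zero u using 2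
      exact Ideal.Quotient.eq_zero_iff_mem.mpr (Ideal.mem_span_singleton_self r)
    obtain ⟨s, hs, hsa⟩ := (isLocalIso_elements (A := A) (q.asIdeal.comap v) (0 : E)).2 a tE
      (fun h' => ht (htE ▸ h')) h0
    exact ⟨s, fun h' => hs (by rw [Ideal.mem_comap, AlgHom.commutes]; exact h'), hsa⟩

omit [Algebra A B] in
theorem identifiesLocalRings_trans {C : Type u} [CommRing C] [Algebra A B] [Algebra A C]
    [Algebra B C] [IsScalarTower A B C]
    (h1 : EtPBC.IdentifiesLocalRings A B) (h2 : EtPBC.IdentifiesLocalRings B C) :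
    EtPBC.IdentifiesLocalRings A C := by
  intro q
  let qB : PrimeSpectrum B := ⟨q.asIdeal.comap (algebraMap B C), inferInstance⟩
  have hp : q.asIdeal.comap (algebraMap A C) = qB.asIdeal.comap (algebraMap A B) := by
    rw [Ideal.comap_comap, ← IsScalarTower.algebraMap_eq]
  have key := (h2 q).comp (h1 qB)
  rw [← RingHom.coe_comp, ← Localization.localRingHom_comp] at key
  have gen : ∀ (f g : A →+* C), f = g → ∀ (I : Ideal A) (_ : I.IsPrime) (hI : I = q.asIdeal.comap f),
      Function.Bijective (Localization.localRingHom I q.asIdeal f hI) →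
      Function.Bijective (Localization.localRingHom (q.asIdeal.comap g) q.asIdeal g rfl) := by
    rintro f g rfl I _ rfl h
    exact h
  exact gen _ _ (IsScalarTower.algebraMap_eq A B C).symm _ inferInstance _ key

end Identifies

end Groth.Agent.WLoc
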